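import Cfsg.Agent.H26.Lf0
import Cfsg.Agent.H2.Fitting
import Cfsg.Agent.S1296
import Cfsg.Agent.S0205

/-! Part (scen) of S3198: involution centralizers of a simple group with Sylow `2`-subgroup of type `L₃(4)`. -/

set_option autoImplicit false

namespace Cfsg.Agent.H26.Lf
open Subgroup
universe u
variable {G : Type u} [Group G] [Finite G] {S A B : Subgroup G}

theorem scen8_odd {X : Type*} [Group X] [Finite X] (hO : Cfsg.oddCore X = ⊥) (K : Subgroup X)
    (hK : K.Normal) (ho : Odd (Nat.card K)) : K = ⊥ :=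
  eq_bot_iff.2 (hO ▸ H2.le_pPrimeCore (Nat.coprime_two_right.2 ho))

theorem scen8_inv {z x : G} (ho : orderOf z = 2) (hx : x ∈ zpowers z) (h : orderOf x = 2) : x = z := by
  obtain ⟨i, rfl⟩ := hx
  have h2 : z ^ (2 : ℤ) = 1 := by rw [zpow_two, ← pow_two, ← ho, pow_orderOf_eq_one]
  simp only at h ⊢
  rcases Int.even_or_odd' i with ⟨j, rfl | rfl⟩
  · rw [zpow_mul, h2, one_zpow, orderOf_one] at h; omega
  · rw [zpow_add, zpow_mul, h2, one_zpow, one_mul, zpow_one]

theorem scen8_nocomp (h : St S A B)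
    (key : ∀ (X : Type u) [Group X] [Finite X] (S A B : Subgroup X), St S A B →
      (∀ K : Subgroup X, K.Normal → Odd (Nat.card K) → K = ⊥) →
      ∀ z ∈ S, z ≠ 1 → z ∈ center X → S.Normal) {t : G} (ht : t ∈ A ⊓ B) (ht1 : t ≠ 1) :
    ¬ Cfsg.HasComponent (↥(centralizer ({t} : Set G)) ⧸ Cfsg.oddCore ↥(centralizer ({t} : Set G))) := by
  set C := centralizer ({t} : Set G) with hC
  have hSC : S ≤ C := fun s hs => mem_centralizer_singleton_iff.2 (h.cenZ hs ht)
  have h1 := (h.sub C hSC).quot (Cfsg.oddCore C) H2.odd_card_oddCore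
  let t' : C := ⟨t, hSC (h.leZ ht)⟩
  have hn := key _ _ _ _ h1 (scen8_odd H2.pPrimeCore_quotient_self)
    (QuotientGroup.mk' (Cfsg.oddCore C) t') ⟨t', h.leZ ht, rfl⟩ (fun e => by
      have hm : t' ∈ Cfsg.oddCore C := (QuotientGroup.eq_one_iff _).1 e
      have h2 : orderOf t' = 2 :=
        orderOf_eq_prime (Subtype.ext (by rw [pow_two]; exact h.sqA t ht.1))
          fun e => ht1 (congrArg Subtype.val e)
      have h3 := (Cfsg.oddCore C).orderOf_dvd_natCard hm
      rw [h2] at h3
      exact H2.not_dvd_card_pPrimeCore 2 h3) (by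
      refine mem_center_iff.2 fun x => ?_
      obtain ⟨c, rfl⟩ := QuotientGroup.mk'_surjective _ x
      rw [← map_mul, ← map_mul]
      exact congrArg _ (Subtype.ext (mem_centralizer_singleton_iff.1 c.2)))
  set T := (S.subgroupOf C).map (QuotientGroup.mk' (Cfsg.oddCore C))
  haveI : Group.IsNilpotent T := h1.pS.isNilpotent
  haveI : Group.IsSolvable (_ ⧸ T) :=
    S0205.result (Nat.not_even_iff_odd.1 fun e => h1.odd e.two_dvd)
  haveI : Group.IsSolvable (C ⧸ Cfsg.oddCore C) :=
    Group.isSolvable_of_ker_le_range T.subtype (QuotientGroup.mk' T) (by simp)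
  rintro ⟨K, -, hp, hs⟩
  haveI : Subsingleton K := by
    by_contra hn
    haveI := not_subsingleton_iff_nontrivial.1 hn
    exact (Group.IsSolvable.commutator_lt_top_of_nontrivial K).ne hp.commutator_eq_top
  haveI : Subsingleton (K ⧸ center K) := (QuotientGroup.mk'_surjective (center K)).subsingleton
  exact not_subsingleton _ this

theorem scen [IsSimpleGroup G] (h : St S A B)
    (hf : ∀ t : G, orderOf t = 2 → ∃ g : G, g * t * g⁻¹ ∈ A ⊓ B)
    (key : ∀ (X : Type u) [Group X] [Finite X] (S A B : Subgroup X), St S A B →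
      (∀ K : Subgroup X, K.Normal → Odd (Nat.card K) → K = ⊥) →
      ∀ z ∈ S, z ≠ 1 → z ∈ center X → S.Normal) :
    (∀ z ∈ A ⊓ B, z ≠ 1 → centralizer {z} ≤ normalizer (S : Set G)) ∧
      centralizer (S : Set G) ≤ S := by
  have hd : 64 ∣ Nat.card G := h.cS ▸ S.card_subgroup_dvd_card
  have hpos : 0 < Nat.card G := Nat.card_pos
  have hct : Cfsg.IsCharacteristicTwoType G := by
    rcases S1296.result (G := G) (even_iff_two_dvd.2 (dvd_trans (by norm_num) hd)) (fun N hN e => by
      rcases hN.eq_bot_or_eq_top with rfl | rfl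
      · rw [index_bot] at e; omega
      · simp at e) (by
      rcases (inferInstance : (Cfsg.oddCore G).Normal).eq_bot_or_eq_top with e | e
      · exact e
      · have := H2.odd_card_oddCore (G := G)
        rw [e, card_top, Nat.odd_iff] at this
        omega) with h1 | ⟨t, ht, h1⟩ | h1
    · have := h1 A ⟨⟨fun a b => Subtype.ext (h.commA a.2 b.2)⟩⟩ fun a ha => by
        rw [pow_two]; exact h.sqA a ha
      rw [h.cA] at this
      omega
    · obtain ⟨g, hg⟩ := hf t ht
      refine (scen8_nocomp (h.conj g⁻¹) key ⟨⟨_, hg.1, ?_⟩, ⟨_, hg.2, ?_⟩⟩ ?_ h1).elim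
      · simp [mul_assoc]
      · simp [mul_assoc]
      · rintro rfl; rw [orderOf_one] at ht; omega
    · exact h1
  have main : ∀ z ∈ A ⊓ B, z ≠ 1 → centralizer {z} ≤ normalizer (S : Set G) ∧
      centralizer (S : Set G) ≤ S := fun z hz hz1 => by
    have ho : orderOf z = 2 := orderOf_eq_prime (by rw [pow_two]; exact h.sqA z hz.1) hz1
    have h2 := hct.2 (zpowers z) (IsPGroup.of_card (n := 1) (by rw [Nat.card_zpowers, ho, pow_one]))
      (by simpa using hz1)
    set X := normalizer ((zpowers z : Subgroup G) : Set G) with hX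
    have hCX : centralizer {z} ≤ X := by
      refine le_trans (fun g hg => ?_) (centralizer_le_normalizer _)
      refine mem_centralizer_iff.2 ?_
      rintro _ ⟨i, rfl⟩
      exact (Commute.zpow_left (mem_centralizer_singleton_iff.1 hg).symm i)
    have hXC : X ≤ centralizer {z} := fun g hg => by
      have h3 := (mem_normalizer_iff.1 hg z).1 (mem_zpowers z)
      have h4 := scen8_inv ho h3 (by rw [← ho]; exact (MulAut.conj g).orderOf_eq _)
      exact mem_centralizer_singleton_iff.2 (mul_inv_eq_iff_eq_mul.1 h4)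
    have hSC : S ≤ centralizer {z} := fun s hs => mem_centralizer_singleton_iff.2 (h.cenZ hs hz)
    have hSX : S ≤ X := hSC.trans hCX
    have h1 := h.sub X hSX
    have hO : Cfsg.oddCore X = ⊥ := by
      have := (H2.pPrimeCore_le_centralizer_pCore (G := X) 2).trans h2
      rw [← H2.pCore_inf_pPrimeCore (G := X) 2, inf_eq_right.2 this]
    have hn := key _ _ _ _ h1 (scen8_odd hO) ⟨z, hSX (h.leZ hz)⟩ (h.leZ hz)
      (fun e => hz1 (congrArg Subtype.val e))
      (mem_center_iff.2 fun x => Subtype.ext (mem_centralizer_singleton_iff.1 (hXC x.2)))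
    refine ⟨hCX.trans ((normal_subgroupOf_iff_le_normalizer hSX).1 hn), fun c hc => ?_⟩
    have hcX : c ∈ X := hCX (mem_centralizer_singleton_iff.2 (hc z (h.leZ hz)).symm)
    have hP : Cfsg.pCore 2 X ≤ S.subgroupOf X := H2.pCore_le_sylow h1.syl
    exact hP (h2 (x := ⟨c, hcX⟩) fun x hx => Subtype.ext (hc x.1 (hP hx)))
  obtain ⟨z, hz, hz1⟩ := h.exZ
  exact ⟨fun z hz hz1 => (main z hz hz1).1, (main z hz hz1).2⟩

end Cfsg.Agent.H26.Lf
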