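import Mathlib
import Cfsg.Agent.H8.Prin2
import Cfsg.Agent.H7.Det
import Cfsg.Agent.H7.Sect

/-!
Principal blocks and normal subgroups supplemented by the centralizer of a Sylow subgroup
(Alperin, Dade, Murai).
-/

set_option autoImplicit false

namespace Cfsg.Agent.H8

open Cfsg MonoidAlgebra H9
open Cfsg.Agent.H7 (ip IsNE ind linFun)
open Subgroup (zpowers)
open scoped ComplexConjugate commutatorElement

local notation:max "𝐂 " Q:max => Subgroup.centralizer (SetLike.coe Q)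
local notation:max "𝐙 " x:max => Subgroup.centralizer (Singleton.singleton x : Set _)

universe u v

variable {M : Ideal AlgInt} [hMm : M.IsMaximal] {p : ℕ} [hp : Fact p.Prime] [hM : PMod M p]

section Basic
variable {G N Q : Type*} [Group G] [Finite G] [Group N] [Finite N] [Group Q] [Finite Q]
  {f : N →* G} {π : G →* Q}

variable (p) in
theorem mem_principal_iff_rip (χ : IrrCharacter G) :
    χ ∈ principalBlock M G ↔ rip p (χ : G → ℂ) 1 ≠ 0 := by
  classical
  have := Fintype.ofFinite G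
  rw [mem_principal_iff_sum hM.out, rip_def, mul_ne_zero_iff_left (inv_ne_zero (H7.card_ne_zero' G))]
  simp

omit hp [Finite G] [Finite N] in
theorem reg_comp (hf : Function.Injective f) (θ : G → ℂ) :
    pRegularPart p (fun n => θ (f n)) = fun n => pRegularPart p θ (f n) := by
  funext n
  rw [reg_apply, reg_apply, orderOf_injective f hf]

omit hp [Finite G] in
theorem reg_mul (θ φ : G → ℂ) : pRegularPart p (θ * φ) = pRegularPart p θ * φ := by
  funext g
  rw [Pi.mul_apply, reg_apply, reg_apply]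
  split_ifs <;> simp

theorem rip_res_ne_zero (hf : IsNE f) {χ : IrrCharacter G} (hχ : χ ∈ principalBlock M G) :
    rip p (fun n => (χ : G → ℂ) (f n)) 1 ≠ 0 := by
  classical
  have := Fintype.ofFinite G
  have := Fintype.ofFinite N
  have hZ : ∀ (R : Type) [CommRing R],
      setSum R {y : G | y ∈ f.range ∧ ¬ p ∣ orderOf y} ∈ Zen R G := fun R _ =>
    setSum_mem_Zen fun x g => by
      simp only [Set.mem_ofPred_eq, orderOf_conj']
      exact and_congr_left' ⟨fun h => by simpa [mul_assoc] using hf.normal.conj_mem _ h x⁻¹,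
        fun h => hf.normal.conj_mem _ h x⟩
  have h1 : ∀ ψ : IrrCharacter G, lam M (ψ : G → ℂ)
      (setSum _ {y : G | y ∈ f.range ∧ ¬ p ∣ orderOf y}) =
      rd M ((∑ n with ¬ p ∣ orderOf n, (ψ : G → ℂ) (f n)) / (ψ : G → ℂ) 1) := fun ψ => by
    have := lam_red (M := M) ψ (hZ _)
    rw [mapRingHom_setSum, mapRingHom_setSum, omega_eq, chiL_setSum] at this
    rw [this]
    congr 2
    refine (Finset.sum_bij (fun n _ => f n) (fun n hn => ?_) (fun a _ b _ h => hf.inj h)
      (fun g hg => ?_) fun _ _ => rfl).symm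
    · simpa [orderOf_injective f hf.inj] using hn
    · obtain ⟨⟨n, rfl⟩, h⟩ := (Finset.mem_filter.1 hg).2
      exact ⟨n, by simpa [orderOf_injective f hf.inj] using h, rfl⟩
  have h2 := h1 χ
  rw [(mem_principalBlock_iff χ).1 hχ, h1] at h2
  intro h
  rw [rip_def, mul_eq_zero_iff_left (inv_ne_zero (H7.card_ne_zero' N))] at h
  simp only [Pi.one_apply, map_one, mul_one] at h
  simp only [h, irrOne_apply, Finset.sum_const, nsmul_eq_mul, mul_one, div_one, zero_div,
    rd_zero] at h2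
  refine not_dvd_card_reg p N ?_
  rwa [rd_natCast_eq_zero_iff hM.out, ← Fintype.card_subtype, ← Nat.card_eq_fintype_card] at h2

include hM in
theorem mem_principal_of_under (hf : IsNE f) {χ : IrrCharacter G} (hχ : χ ∈ principalBlock M G)
    {θ : IrrCharacter N} (h : ip (fun n => (χ : G → ℂ) (f n)) θ ≠ 0) :
    θ ∈ principalBlock M N := by
  refine (mem_principal_iff_rip p θ).2 fun h0 => rip_res_ne_zero hf hχ ?_
  rw [hf.clifford χ.2 θ.2 h, rip_smul_left, rip_sum_left, Finset.sum_eq_zero, mul_zero]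
  intro φ hφ
  obtain ⟨g, rfl⟩ := hf.mem_orbit.1 hφ
  exact (rip_comp_equiv (hf.cj g) θ.1 1).trans h0

include hM in
theorem exists_principal_over' (hf : Function.Injective f) {θ : IrrCharacter N}
    (hθ : θ ∈ principalBlock M N) :
    ∃ χ ∈ principalBlock M G, ip (fun n => (χ : G → ℂ) (f n)) θ ≠ 0 := by
  have h : rip p (ind f θ) 1 ≠ 0 := by
    rw [rip_eq_right, H7.ip_ind_left _ _ (cf_reg H7.cf_one), ← reg_comp hf, ← rip_eq_right]
    exact (mem_principal_iff_rip p θ).1 hθ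
  rw [rip_eq_right, H7.ip_expand (H7.ind_cf _ _)] at h
  obtain ⟨χ, hχ, h⟩ := Finset.exists_ne_zero_of_sum_ne_zero h
  rw [H7.mem_irrSet] at hχ
  refine ⟨⟨χ, hχ⟩, (mem_principal_iff_rip p _).2 ?_, ?_⟩
  · rw [rip_eq_right]; exact right_ne_zero_of_mul h
  · rw [H7.ip_ne_zero_comm, ← H7.ip_ind_left _ _ (H7.irr_cf hχ)]; exact left_ne_zero_of_mul h

variable (p) in
/-- The cosets of `p`-regular elements meet the centralizer of a Sylow subgroup of `N`. -/
def Sup (f : N →* G) : Prop := ∃ P : Subgroup N, IsPGroup p P ∧ ¬ p ∣ P.index ∧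
  ∀ g, ¬ p ∣ orderOf g → ∃ n, f n * g ∈ 𝐂 (P.map f)

omit hp [Finite G] [Finite N] in
theorem Sup.of_comp (h : Sup p f) {J : Type*} [Group J] {k : N →* J} {ι : J →* G}
    (hι : Function.Injective ι) (hk : ∀ n, ι (k n) = f n) : Sup p k := by
  obtain ⟨P, h1, h2, h3⟩ := h
  refine ⟨P, h1, h2, fun g hg => ?_⟩
  obtain ⟨n, hn⟩ := h3 (ι g) (by rwa [orderOf_injective ι hι])
  refine ⟨n, ?_⟩
  rintro _ ⟨x, hx, rfl⟩
  exact hι (by simpa [hk] using hn _ ⟨x, hx, rfl⟩)

omit [Finite G] [Finite N] in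
theorem Sup.up (h : Sup p f) {L : Type*} [Group L] {k : N →* L} {j : L →* G}
    (hk : Function.Injective k) (hi : ¬ p ∣ k.range.index) (hj : ∀ n, j (k n) = f n) :
    Sup p j := by
  obtain ⟨P, h1, h2, h3⟩ := h
  refine ⟨P.map k, h1.map k, ?_, fun g hg => ?_⟩
  · rw [P.index_map_of_injective hk]; exact hp.out.not_dvd_mul h2 hi
  · obtain ⟨n, hn⟩ := h3 g hg
    exact ⟨k n, by rwa [Subgroup.map_map, hj, show j.comp k = f from MonoidHom.ext hj]⟩

variable (hf : IsNE f) (hπ : Function.Surjective π) (hker : π.ker = f.range) (hs : Sup p f)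
include hf hπ hker hs

theorem Sup.exists_class (hQ : ¬ p ∣ Nat.card Q) (q : Q) :
    ∃ h : G, π h = q ∧ ¬ p ∣ (𝐙 h).index := by
  obtain ⟨P, -, h2, h3⟩ := hs
  obtain ⟨g, hg, rfl⟩ := exists_reg_lift (p := p) hπ fun h => hQ (h.trans (orderOf_dvd_natCard q))
  obtain ⟨n, hn⟩ := h3 g hg
  refine ⟨f n * g, by rw [map_mul, H7.apply_eq_one_of_ker_eq hker, one_mul], fun h => ?_⟩
  refine hp.out.not_dvd_mul h2 hQ ?_
  rw [← H7.index_range_eq_card hπ hker, ← P.index_map_of_injective hf.inj]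
  exact h.trans (Subgroup.index_dvd_of_le fun x hx =>
    Subgroup.mem_centralizer_singleton_iff.2 (hn x hx))

theorem Sup.eq_one_of_mul (hQ : ¬ p ∣ Nat.card Q) {χ ψ : IrrCharacter G}
    (hχ : χ ∈ principalBlock M G) (hψ : ψ ∈ principalBlock M G) {β : Q → ℂ}
    (hβ : IsIrrCharacter Q β) (h : (ψ : G → ℂ) = (fun x => β (π x)) * (χ : G → ℂ)) : β = 1 := by
  have := Fintype.ofFinite Q
  have h0 : rd M (β 1) ≠ 0 := by
    rw [H7.char_one_eq (H7.irr_char hβ), Ne, rd_natCast_eq_zero_iff hM.out]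
    exact fun e => hQ (e.trans (H7.irr_degree_dvd_card hβ))
  have hm := fun q => irr_mem_locRing (M := M) ⟨β, hβ⟩ q
  have h1 : ∀ q, rd M (β q) = rd M (β 1) := fun q => by
    obtain ⟨g, rfl, hg⟩ := hs.exists_class hf hπ hker hQ q
    have e1 := (lam_eq_iff _ _).1 ((mem_principalBlock_iff χ).1 hχ) g
    have e2 := (lam_eq_iff _ _).1 ((mem_principalBlock_iff ψ).1 hψ) g
    have e3 : centralChar (ψ : G → ℂ) g = β (π g) / β 1 * centralChar (χ : G → ℂ) g := by
      simp only [centralChar, h, Pi.mul_apply, map_one]; ring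
    have e4 : rd M (centralChar (irrOne G : G → ℂ) g) ≠ 0 := by
      simpa [centralChar, ← rd_natCast_eq_zero_iff hM.out] using hg
    rw [e3, rd_mul (div_mem_locRing (hm _) h0) (centralChar_mem_locRing χ g), e1,
      mul_eq_right₀ e4, rd_div (hm _) h0, div_eq_one_iff_eq h0] at e2
    exact e2
  refine H7.irr_eq_of_ip_ne_zero hβ H7.irr_one fun e => ?_
  rw [H7.ip_def, mul_eq_zero_iff_left (inv_ne_zero (H7.card_ne_zero' Q))] at e
  simp only [Pi.one_apply, map_one, mul_one] at e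
  have e2 := congrArg (rd M) e
  rw [rd_sum _ _ fun q _ => hm q, Finset.sum_congr rfl fun q _ => h1 q, Finset.sum_const,
    nsmul_eq_mul, rd_zero, mul_eq_zero_iff_right h0, Finset.card_univ, ← Nat.card_eq_fintype_card,
    ← rd_natCast, rd_natCast_eq_zero_iff hM.out] at e2
  exact hQ e2

theorem Sup.irr_res_of_comm (hQ : ¬ p ∣ Nat.card Q) (hc : ∀ a b : Q, a * b = b * a)
    {χ : IrrCharacter G} (hχ : χ ∈ principalBlock M G) :
    IsIrrCharacter N fun n => (χ : G → ℂ) (f n) := by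
  refine H7.irr_of_ip_one (H7.char_comp f (irr_isChar χ)) ?_
  rw [← H7.ip_ind_left _ _ (irr_isClassFunction χ), hf.gallagher_ind hπ hker (irr_isClassFunction χ),
    H7.ip_sum_left, Finset.sum_eq_single_of_mem 1 (H7.mem_irrSet.2 H7.irr_one)]
  · rw [Pi.one_apply, one_smul]
    exact (congrArg (ip · χ.1) (one_mul χ.1)).trans (H7.ip_irr_self χ.2)
  · intro β hβ hne
    rw [H7.mem_irrSet] at hβ
    have h1 : IsIrrCharacter G ((fun x => β (π x)) * (χ : G → ℂ)) := by
      rw [mul_comm]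
      exact H7.irr_mul_linear χ.2 (H7.char_comp π (H7.irr_char hβ))
        (by rw [map_one, H7.irr_one_eq_one_of_comm hc hβ])
    rw [H7.ip_smul_left, H7.ip_irr_ne h1 χ.2 fun e => hne
      (hs.eq_one_of_mul hf hπ hker hQ hχ hχ hβ e.symm), mul_zero]

theorem Sup.exists_ext_of_comm (hQ : ¬ p ∣ Nat.card Q) (hc : ∀ a b : Q, a * b = b * a)
    {θ : IrrCharacter N} (hθ : θ ∈ principalBlock M N) :
    ∃ χ ∈ principalBlock M G, ∀ n, (χ : G → ℂ) (f n) = (θ : N → ℂ) n := by
  obtain ⟨χ, hχ, h⟩ := exists_principal_over' (p := p) hf.inj hθ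
  exact ⟨χ, hχ, congrFun
    (H7.irr_eq_of_ip_ne_zero (hs.irr_res_of_comm hf hπ hker hQ hc hχ) θ.2 h)⟩

theorem Sup.ind_reg_eq (hQ : ¬ p ∣ Nat.card Q) {χ : IrrCharacter G} (hχ : χ ∈ principalBlock M G)
    (hN : IsIrrCharacter N fun n => (χ : G → ℂ) (f n)) :
    ind π (pRegularPart p χ) = rip p (fun n => (χ : G → ℂ) (f n)) 1 • 1 := by
  have h1 : ind π (pRegularPart p χ) = ip (ind π (pRegularPart p χ)) 1 • 1 := by
    refine H7.cf_ext (H7.ind_cf _ _) (H7.cf_smul _ H7.cf_one) fun β hβ => ?_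
    rw [H7.ip_smul_left]
    by_cases h : β = 1
    · rw [h, H7.ip_one_one, mul_one]
    rw [H7.ip_irr_ne H7.irr_one hβ (Ne.symm h), mul_zero, H7.ip_ind_left _ _ (H7.irr_cf hβ),
      ← H7.ip_one_right_eq, ← reg_mul, mul_comm]
    by_contra h0
    have h2 := H7.gallagher_irr hπ hker (irr_isChar χ) hN (H7.irr_star hβ)
    exact h (star_injective ((hs.eq_one_of_mul hf hπ hker hQ hχ
      ((mem_principal_iff_rip p ⟨_, h2⟩).2 h0) (H7.irr_star hβ) rfl).trans (_root_.star_one _).symm))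
  have h2 := congrFun h1 1
  rw [H7.ind_quot_one hf.inj hπ hker (cf_reg (irr_isClassFunction χ)), ← reg_comp hf.inj] at h2
  rw [h1, rip, h2]; simp

end Basic

theorem ker_subgroupComap {G N Q : Type*} [Group G] [Group N] [Group Q] {f : N →* G} {π : G →* Q}
    (hker : π.ker = f.range) (V : Subgroup Q) (hL : ∀ n, f n ∈ V.comap π) :
    (π.subgroupComap V).ker = (f.codRestrict _ hL).range := by
  ext x
  rw [MonoidHom.mem_ker, Subtype.ext_iff]
  refine (show _ ↔ x.1 ∈ π.ker from Iff.rfl).trans ?_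
  rw [hker]
  exact exists_congr fun n => by rw [Subtype.ext_iff]; rfl

theorem Sup.exists_ext_of_solvable {N : Type*} [Group N] [Finite N] {θ : IrrCharacter N}
    (hθ : θ ∈ principalBlock M N) (m : ℕ) : ∀ {G : Type u} {Q : Type v} [Group G] [Finite G]
    [Group Q] [Finite Q] [Group.IsSolvable Q] {f : N →* G} {π : G →* Q}, Nat.card Q = m → IsNE f →
    Function.Surjective π → π.ker = f.range → Sup p f → ¬ p ∣ Nat.card Q →
    ∃ χ ∈ principalBlock M G, ∀ n, (χ : G → ℂ) (f n) = (θ : N → ℂ) n := by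
  induction m using Nat.strong_induction_on with | _ m ih => ?_
  intro G Q _ _ _ _ _ f π hm hf hπ hker hs hQ
  rcases subsingleton_or_nontrivial Q with h | h
  · exact hs.exists_ext_of_comm hf hπ hker hQ (fun _ _ => Subsingleton.elim _ _) hθ
  have hlt : commutator Q < ⊤ := Group.IsSolvable.commutator_lt_top_of_nontrivial Q
  set L := (commutator Q).comap π
  have hL : ∀ n, f n ∈ L := fun n => by
    rw [Subgroup.mem_comap, H7.apply_eq_one_of_ker_eq hker]; exact one_mem _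
  have hker' := ker_subgroupComap hker _ hL
  have hπ' := π.subgroupComap_surjective_of_surjective (commutator Q) hπ
  have hQ' : ¬ p ∣ Nat.card (commutator Q) := fun h =>
    hQ (h.trans (Subgroup.card_subgroup_dvd_card _))
  obtain ⟨ξ, hξ, h1⟩ := ih _ (by
      rw [← hm]; exact H7.card_lt_of_ne_top hlt.ne) rfl
    (H7.isNE_codRestrict hf L hL) hπ' hker' (hs.of_comp L.subtype_injective fun _ => rfl) hQ'
  have hs' : Sup p L.subtype := hs.up (H7.isNE_codRestrict hf L hL).inj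
    (by rwa [H7.index_range_eq_card hπ' hker']) fun _ => rfl
  obtain ⟨χ, hχ, h2⟩ := hs'.exists_ext_of_comm (H7.isNE_subtype L)
    (π := Abelianization.of.comp π) (QuotientGroup.mk_surjective.comp hπ)
    (by rw [← MonoidHom.comap_ker, Abelianization.ker_of, Subgroup.range_subtype])
    (fun h => hQ (h.trans (Subgroup.card_quotient_dvd_card _))) mul_comm hξ
  exact ⟨χ, hχ, fun n => (h2 ⟨f n, hL n⟩).trans (h1 n)⟩

section Good
variable {G N : Type*} [Group G] [Finite G] [Group N] [Finite N] {f : N →* G}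

variable (p f) in
/-- Sum of `χ` over the `p`-regular elements of the coset of `g`. -/
noncomputable def cosS (χ : G → ℂ) (g : G) : ℂ := ∑ᶠ n, pRegularPart p χ (f n * g)

variable (p f) in
/-- All cosets of `p`-regular elements have the same sum. -/
def Good (χ : G → ℂ) : Prop := ∀ g, ¬ p ∣ orderOf g → cosS p f χ g = cosS p f χ 1

omit hp [Finite G] in
theorem cosS_mul (χ : G → ℂ) (n : N) (g : G) : cosS p f χ (f n * g) = cosS p f χ g := by
  simp only [cosS, ← mul_assoc, ← map_mul]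
  exact finsum_comp_equiv (Equiv.mulRight n) (f := fun n => pRegularPart p χ (f n * g))

omit hp [Finite G] in
theorem cosS_one (hf : Function.Injective f) (χ : G → ℂ) :
    cosS p f χ 1 = Nat.card N * rip p (fun n => χ (f n)) 1 := by
  have := Fintype.ofFinite N
  rw [rip, reg_comp hf, H7.ip_def, cosS, finsum_eq_sum_of_fintype,
    mul_inv_cancel_left₀ (H7.card_ne_zero' N)]
  simp

omit hp [Finite G] [Finite N] in
theorem cosS_comp {J : Type*} [Group J] {k : N →* J} {ι : J →* G} (hι : Function.Injective ι)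
    (hk : ∀ n, ι (k n) = f n) (χ : G → ℂ) (x : J) :
    cosS p k (fun x => χ (ι x)) x = cosS p f χ (ι x) := by
  simp only [cosS, reg_comp hι, map_mul, hk]

omit hp [Finite G] in
theorem cosS_lin {lam : G →* ℂˣ} (hl : ∀ n, lam (f n) = 1) (χ : G → ℂ) (g : G) :
    cosS p f (linFun lam * χ) g = lam g * cosS p f χ g := by
  have := Fintype.ofFinite N
  simp only [cosS, mul_comm (linFun lam), reg_mul, finsum_eq_sum_of_fintype, Finset.mul_sum,
    Pi.mul_apply, H7.linFun_apply, map_mul, hl, one_mul, mul_comm]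

omit hp [Finite G] in
theorem cosS_map (τ : ℂ →+* ℂ) (χ : G → ℂ) (g : G) :
    cosS p f (fun x => τ (χ x)) g = τ (cosS p f χ g) := by
  have := Fintype.ofFinite N
  simp only [cosS, finsum_eq_sum_of_fintype, map_sum, reg_apply, apply_ite τ, map_zero]

omit hp in
theorem ind_reg_apply {Q : Type*} [Group Q] [Finite Q] {π : G →* Q} (hf : Function.Injective f)
    (hπ : Function.Surjective π) (hker : π.ker = f.range) {χ : G → ℂ} (hχ : IsClassFunction G χ)
    (g : G) : ind π (pRegularPart p χ) (π g) = (Nat.card N : ℂ)⁻¹ * cosS p f χ g := by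
  have := Fintype.ofFinite N
  rw [H7.ind_quot_apply hf hπ hker (cf_reg hχ), cosS, finsum_eq_sum_of_fintype]

omit hp [Finite G] [Finite N] in
theorem Good.comp {χ : G → ℂ} (h : Good p f χ) {J : Type*} [Group J] {k : N →* J} {ι : J →* G}
    (hι : Function.Injective ι) (hk : ∀ n, ι (k n) = f n) : Good p k fun x => χ (ι x) :=
  fun x hx => by
    rw [cosS_comp hι hk, cosS_comp hι hk, map_one, h _ (by rwa [orderOf_injective ι hι])]

omit hp [Finite G] in
theorem Good.map {χ : G → ℂ} (h : Good p f χ) (τ : ℂ →+* ℂ) : Good p f fun x => τ (χ x) :=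
  fun x hx => by rw [cosS_map, cosS_map, h x hx]

theorem Good.mem_principal (hf : Function.Injective f) {χ : IrrCharacter G} (h : Good p f χ)
    (h0 : rip p (fun n => (χ : G → ℂ) (f n)) 1 ≠ 0) : χ ∈ principalBlock M G := by
  classical
  have := Fintype.ofFinite G
  have := Fintype.ofFinite N
  have h1 : cosS p f χ 1 ≠ 0 := by rw [cosS_one hf]; exact mul_ne_zero (H7.card_ne_zero' N) h0
  have h2 : ∀ g, cosS p f χ g = if cosS p f χ g = 0 then 0 else cosS p f χ 1 := fun g => by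
    split_ifs with hg
    · exact hg
    rw [cosS, finsum_eq_sum_of_fintype] at hg
    obtain ⟨n, -, hn⟩ := Finset.exists_ne_zero_of_sum_ne_zero hg
    rw [← cosS_mul _ n, h _ fun e => hn (by rw [reg_apply, if_pos e])]
  have h3 : ∑ g, cosS p f χ g = Nat.card N * ∑ g, pRegularPart p χ.1 g := by
    simp only [cosS, finsum_eq_sum_of_fintype]
    rw [Finset.sum_comm, Nat.card_eq_fintype_card, ← Finset.card_univ, ← nsmul_eq_mul,
      ← Finset.sum_const]
    exact Finset.sum_congr rfl fun n _ => Equiv.sum_comp (Equiv.mulLeft (f n)) _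
  refine (mem_principal_iff_rip p χ).2 fun e => ?_
  rw [rip, H7.ip_def, mul_eq_zero_iff_left (inv_ne_zero (H7.card_ne_zero' G))] at e
  simp only [Pi.one_apply, map_one, mul_one] at e
  rw [e, mul_zero, Finset.sum_congr rfl fun g _ => h2 g, Finset.sum_ite, Finset.sum_const_zero,
    zero_add, Finset.sum_const, nsmul_eq_mul, mul_eq_zero_iff_right h1, Nat.cast_eq_zero,
    Finset.card_eq_zero, Finset.filter_eq_empty_iff] at h3
  exact h3 (Finset.mem_univ 1) h1

omit hp [Finite G] in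
theorem Good.lin_eq_one {χ : G → ℂ} (h : Good p f χ) (h0 : cosS p f χ 1 ≠ 0) {lam : G →* ℂˣ}
    (hl : ∀ n, lam (f n) = 1) : Good p f (linFun lam * χ) ↔ ∀ g, ¬ p ∣ orderOf g → lam g = 1 := by
  refine forall₂_congr fun g hg => ?_
  rw [cosS_lin hl, cosS_lin hl, h g hg, map_one, mul_left_inj' h0, Units.val_inj]

theorem Sup.exists_good (hf : IsNE f) (hs : Sup p f) {θ : IrrCharacter N}
    (hθ : θ ∈ principalBlock M N) {ψ : G → ℂ} (hψ : IsCharacter G ψ)
    (h : ∀ n, ψ (f n) = (θ : N → ℂ) n) :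
    ∃ lam : G →* ℂˣ, (∀ n, lam (f n) = 1) ∧ Good p f (linFun lam * ψ) := by
  have := hf.normal
  set π := QuotientGroup.mk' f.range
  have hπ : Function.Surjective π := QuotientGroup.mk'_surjective _
  have hker : π.ker = f.range := QuotientGroup.ker_mk' _
  have hc := (mem_principal_iff_rip p θ).1 hθ
  set ν := (rip p θ.1 1)⁻¹ • ind π (pRegularPart p ψ)
  have hν : ∀ g, ν (π g) = (rip p θ.1 1)⁻¹ * ((Nat.card N : ℂ)⁻¹ * cosS p f ψ g) := fun g => by
    rw [← ind_reg_apply hf.inj hπ hker (H7.char_cf hψ)]; rfl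
  have key : ∀ V : Subgroup (G ⧸ f.range), Group.IsSolvable V → ¬ p ∣ Nat.card V →
      ∃ μ : V →* ℂˣ, ∀ v : V, ν v = μ v := fun V _ hV => by
    set L := V.comap π
    have hL : ∀ n, f n ∈ L := fun n => by
      rw [Subgroup.mem_comap, H7.apply_eq_one_of_ker_eq hker]; exact one_mem _
    have hker' := ker_subgroupComap hker V hL
    have hπ' := π.subgroupComap_surjective_of_surjective V hπ
    have hk := H7.isNE_codRestrict hf L hL
    have hs' : Sup p (f.codRestrict L hL) := hs.of_comp L.subtype_injective fun _ => rfl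
    obtain ⟨ξ, hξ, h1⟩ := Sup.exists_ext_of_solvable hθ _ rfl hk hπ' hker' hs' hV
    have h2 : IsIrrCharacter N fun n => (ξ : L → ℂ) (f.codRestrict L hL n) := by
      simpa only [h1] using θ.2
    obtain ⟨lam, h3, h4⟩ := hk.exists_linear_of_ext (irr_isChar ξ) h2
      (H7.char_comp L.subtype hψ) fun n => (h n).trans (h1 n).symm
    refine ⟨(π.subgroupComap V).liftOfSurjective hπ' ⟨lam, fun x hx => ?_⟩, fun v => ?_⟩
    · obtain ⟨n, rfl⟩ := hker' ▸ hx; exact h3 n
    obtain ⟨x, rfl⟩ := hπ' v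
    have h5 := congrFun (hs'.ind_reg_eq hk hπ' hker' hV hξ h2) (π.subgroupComap V x)
    rw [ind_reg_apply hk.inj hπ' hker' (irr_isClassFunction ξ)] at h5
    have h6 := cosS_comp (p := p) (k := f.codRestrict L hL) L.subtype_injective (fun _ => rfl) ψ x
    rw [MonoidHom.liftOfSurjective, MonoidHom.liftOfRightInverse_comp_apply]
    refine (hν x).trans ?_
    rw [h4] at h6
    have h7 : cosS p f ψ x = cosS p (f.codRestrict L hL) (linFun lam * ξ.1) x := h6.symm
    change _ = (lam x : ℂ)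
    rw [h7, cosS_lin h3, mul_left_comm _ (lam x : ℂ), h5]
    simp only [h1, Pi.smul_apply, Pi.one_apply, smul_eq_mul, mul_one]
    rw [mul_left_comm, inv_mul_cancel₀ hc, mul_one]
  obtain ⟨e, n, hn, hcard⟩ := Nat.exists_eq_pow_mul_and_not_dvd
    (Nat.card_pos (α := G ⧸ f.range)).ne' p hp.out.ne_one
  have hmn : (p ^ e).Coprime n := ((Nat.Prime.coprime_iff_not_dvd hp.out).2 hn).pow_left e
  obtain ⟨a, ha, ha'⟩ := H7.exists_piExp hmn
  have hcf : IsClassFunction _ ν := H7.cf_smul _ (H7.ind_cf _ _)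
  have h1 : IsGeneralizedCharacter _ fun x => ν (x ^ a) :=
    H7.gen_pow_of_elem hmn hcard.dvd ha ha' hcf fun V q hq hV hVn => by
      have := H7.elem_nilpotent hq hV
      obtain ⟨μ, hμ⟩ := key V inferInstance fun e => hn (e.trans hVn)
      rw [funext hμ]; exact H6.isGen_of_isCharacter (H7.char_linFun μ)
  have h2 : ∀ x, ¬ p ∣ orderOf x → ν x * conj (ν x) = 1 := fun x hx => by
    obtain ⟨μ, hμ⟩ := key (zpowers x) inferInstance (by rwa [Nat.card_zpowers])
    rw [hμ ⟨x, Subgroup.mem_zpowers x⟩, ← H7.linFun_apply, ← H7.char_inv (H7.char_linFun μ)]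
    simp [H7.linFun_apply]
  have h3 : ν 1 = 1 := by
    obtain ⟨μ, hμ⟩ := key ⊥ inferInstance (by simpa using hp.out.ne_one)
    simpa using hμ 1
  have h4 : IsIrrCharacter _ fun x => ν (x ^ a) := by
    have := Fintype.ofFinite (G ⧸ f.range)
    refine H6.isIrr_of_norm_one_of_nonneg h1 ?_ (by simp [h3])
    rw [← H7.ip_eq_classInner, H7.ip_def, Finset.sum_congr rfl fun x _ => h2 _ fun e => hn
      (e.trans (H7.orderOf_pow_part hcard.dvd ha x))]
    simp [← Nat.card_eq_fintype_card, H7.card_ne_zero']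
  obtain ⟨μ, hμ⟩ := H7.exists_linFun (H7.irr_char h4) (by simp [h3])
  have h5 : ∀ n, (μ.comp π)⁻¹ (f n) = 1 := fun n => by simp [H7.apply_eq_one_of_ker_eq hker]
  refine ⟨(μ.comp π)⁻¹, h5, fun g hg => ?_⟩
  have h6 : ∀ g, ¬ p ∣ orderOf g → cosS p f ψ g = Nat.card N * (rip p θ.1 1 * μ (π g)) :=
    fun g hg => by
      have h7 : π g ^ a = π g := by
        refine (pow_eq_pow_iff_modEq.2 (ha'.of_dvd ?_)).trans (pow_one _)
        refine Nat.Coprime.dvd_of_dvd_mul_left ?_ (hcard ▸ orderOf_dvd_natCard _)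
        exact (((Nat.Prime.coprime_iff_not_dvd hp.out).2 fun e =>
          hg (e.trans (orderOf_map_dvd π g))).pow_left e).symm
      rw [← H7.linFun_apply, ← congrFun hμ, h7, hν, mul_inv_cancel_left₀ hc,
        mul_inv_cancel_left₀ (H7.card_ne_zero' N)]
  rw [cosS_lin h5, cosS_lin h5, h6 g hg, h6 1 not_dvd_orderOf_one]
  simp only [map_one, Units.val_one, one_mul, mul_one, MonoidHom.inv_apply, MonoidHom.comp_apply,
    Units.val_inv_eq_inv_val]
  field_simp

theorem Sup.exists_ext_comap (hf : IsNE f) (hs : Sup p f) {θ : IrrCharacter N}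
    (hθ : θ ∈ principalBlock M N) [f.range.Normal] (V : Subgroup (G ⧸ f.range))
    [Group.IsSolvable V] (hV : ¬ p ∣ Nat.card V) :
    ∃ (hL : ∀ n, f n ∈ V.comap (QuotientGroup.mk' _)) (ξ : IrrCharacter (V.comap (QuotientGroup.mk' _))),
      ∀ n, ξ.1 ⟨f n, hL n⟩ = θ.1 n := by
  have hker : (QuotientGroup.mk' f.range).ker = f.range := QuotientGroup.ker_mk' _
  have hL : ∀ n, f n ∈ V.comap (QuotientGroup.mk' _) := fun n => by
    rw [Subgroup.mem_comap, H7.apply_eq_one_of_ker_eq hker]; exact one_mem _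
  obtain ⟨ξ, -, h⟩ := Sup.exists_ext_of_solvable hθ _ rfl (H7.isNE_codRestrict hf _ hL)
    (MonoidHom.subgroupComap_surjective_of_surjective _ V (QuotientGroup.mk'_surjective _))
    (ker_subgroupComap hker V hL) (hs.of_comp (Subgroup.subtype_injective _) fun _ => rfl) hV
  exact ⟨hL, ξ, h⟩

theorem Sup.inv (hf : IsNE f) (hs : Sup p f) (hQ : ¬ p ∣ f.range.index) {θ : IrrCharacter N}
    (hθ : θ ∈ principalBlock M N) : hf.Inv θ := fun g => by
  have := hf.normal
  obtain ⟨hL, ξ, h⟩ := hs.exists_ext_comap hf hθ (zpowers (g : G ⧸ f.range))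
    fun e => hQ (e.trans (Subgroup.card_subgroup_dvd_card _))
  have hk := H7.isNE_codRestrict hf _ hL
  have h1 := hk.inv_res (irr_isClassFunction ξ) ⟨g, Subgroup.mem_zpowers _⟩
  rw [hf.cjf_comp hk (ι := Subgroup.subtype _) fun _ => rfl] at h1
  exact (funext h : _ = θ.1) ▸ h1

theorem Sup.exists_ext (hf : IsNE f) (hs : Sup p f) {θ : IrrCharacter N}
    (hθ : θ ∈ principalBlock M N) (hinv : hf.Inv θ)
    (h : p ∣ f.range.index → ¬ p ∣ detOrder θ.1 * charDegree θ.1) :
    ∃ χ : IrrCharacter G, Good p f χ ∧ ∀ n, χ.1 (f n) = θ.1 n := by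
  have := hf.normal
  obtain ⟨ψ, hψ, h1⟩ := hf.exists_ext_of_local' θ.2 hinv (H7.char_one_eq (irr_isChar θ))
    fun q hq h1 h2 => by
      have := Fact.mk hq
      obtain ⟨S⟩ : Nonempty (Sylow q (G ⧸ f.range)) := inferInstance
      have := S.isPGroup'.isNilpotent
      obtain ⟨k, hk⟩ := S.isPGroup'.exists_card_eq
      obtain ⟨hL, ξ, h3⟩ := hs.exists_ext_comap hf hθ S.1 fun e => by
        rw [hk] at e
        obtain rfl := (Nat.prime_dvd_prime_iff_eq hp.out hq).1 (hp.out.dvd_of_dvd_pow e)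
        exact h h1 h2
      refine ⟨_, hL, ξ.1, ?_, irr_isChar ξ, h3⟩
      rw [Subgroup.index_comap_of_surjective _ (QuotientGroup.mk'_surjective _)]
      exact S.not_dvd_index
  obtain ⟨lam, h2, h3⟩ := hs.exists_good hf hθ (H7.irr_char hψ) h1
  refine ⟨⟨linFun lam * ψ, ?_⟩, h3, fun n => by simp [H7.linFun_apply, h2, h1]⟩
  rw [mul_comm]
  exact H7.irr_mul_linear hψ (H7.char_linFun lam) (H7.linFun_one_apply lam)

theorem Good.mem_principal_of_ext (hf : Function.Injective f) {χ : IrrCharacter G}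
    (h : Good p f χ) {θ : IrrCharacter N} (hθ : θ ∈ principalBlock M N)
    (h1 : ∀ n, χ.1 (f n) = θ.1 n) : χ ∈ principalBlock M G :=
  h.mem_principal hf (by rw [funext h1]; exact (mem_principal_iff_rip p θ).1 hθ)

theorem Sup.exists_unique_ext (hf : IsNE f) (hs : Sup p f) (hQ : ¬ p ∣ f.range.index)
    {θ : IrrCharacter N} (hθ : θ ∈ principalBlock M N) :
    ∃ χ ∈ principalBlock M G, (∀ n, χ.1 (f n) = θ.1 n) ∧
      ∀ ψ ∈ principalBlock M G, ip (fun n => ψ.1 (f n)) θ ≠ 0 → ψ = χ := by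
  have := hf.normal
  obtain ⟨χ, h1, h2⟩ := hs.exists_ext hf hθ (hs.inv hf hQ hθ) fun h => (hQ h).elim
  have h3 := h1.mem_principal_of_ext hf.inj hθ h2
  refine ⟨χ, h3, h2, fun ψ hψ h => ?_⟩
  have hπ := QuotientGroup.mk'_surjective f.range
  have hker := QuotientGroup.ker_mk' f.range
  rw [← funext h2] at h
  obtain ⟨β, hβ, e⟩ := hf.gallagher_surj hπ hker (irr_isChar χ) (funext h2 ▸ θ.2) ψ.2 h
  rw [hs.eq_one_of_mul hf hπ hker hQ h3 hψ hβ e] at e
  exact Subtype.ext (e.trans (one_mul _))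

omit hp [Finite G] in
theorem sup_subtype {N : Subgroup G} [N.Normal] {P : Subgroup N} (hP : IsPGroup p P)
    (hi : ¬ p ∣ P.index) (h : ∀ g, ¬ p ∣ orderOf g → g ∈ N ⊔ 𝐂 (P.map N.subtype)) :
    Sup p N.subtype := by
  refine ⟨P, hP, hi, fun g hg => ?_⟩
  obtain ⟨n, hn, c, hc, rfl⟩ := (Subgroup.normal_mul N _).subset (h g hg)
  exact ⟨⟨n, hn⟩⁻¹, by simpa using hc⟩

theorem normal_sup_centralizer {N : Subgroup G} [hN : N.Normal] (P : Sylow p N) :
    (N ⊔ 𝐂 (P.1.map N.subtype)).Normal := by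
  rw [← Subgroup.normalizer_eq_top_iff, eq_top_iff, ← P.normalizer_sup_eq_top, sup_le_iff]
  refine ⟨fun g hg => ?_, le_sup_left.trans Subgroup.le_normalizer⟩
  refine Subgroup.mem_normalizer_fintype fun x hx => ?_
  obtain ⟨n, hn, c, hc, rfl⟩ := (Subgroup.normal_mul N _).subset hx
  rw [show g * (n * c) * g⁻¹ = g * n * g⁻¹ * (g * c * g⁻¹) by group]
  refine Subgroup.mul_mem_sup (hN.conj_mem n hn g) fun y hy => ?_
  have := hc _ ((Subgroup.mem_normalizer_iff''.1 hg y).1 hy)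
  calc y * (g * c * g⁻¹) = g * (g⁻¹ * y * g * c) * g⁻¹ := by group
    _ = _ := by rw [this]; group

theorem detHom_map (τ : ℂ →+* ℂ) {χ : G → ℂ} (hχ : IsCharacter G χ) :
    H7.detHom (fun g => τ (χ g)) = (Units.map τ.toMonoidHom).comp (H7.detHom χ) := by
  obtain ⟨n, ρ, rfl⟩ := hχ
  ext g
  rw [← funext (H6.character_repMap τ ρ)]
  refine (H7.detHom_rep _ g).trans ?_
  rw [MonoidHom.comp_apply, Units.coe_map, H7.detHom_rep]
  change LinearMap.det (Matrix.toLin' ((LinearMap.toMatrix' (ρ g)).map τ)) = τ _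
  rw [LinearMap.det_toLin', ← LinearMap.det_toMatrix', RingHom.map_det]
  rfl

theorem detOrder_map (τ : ℂ →+* ℂ) {χ : G → ℂ} (hχ : IsCharacter G χ) :
    detOrder (fun g => τ (χ g)) = detOrder χ := by
  rw [H7.detOrder_eq, H7.detOrder_eq, detHom_map τ hχ, orderOf_eq_orderOf_iff]
  intro n
  simp only [MonoidHom.ext_iff, MonoidHom.pow_apply, MonoidHom.comp_apply, ← map_pow,
    MonoidHom.one_apply, map_eq_one_iff _ (Units.map_injective τ.injective)]

omit [Finite G] in
theorem orderOf_hom_dvd_iff {μ : G →* ℂˣ} {n : ℕ} : orderOf μ ∣ n ↔ ∀ g, μ g ^ n = 1 :=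
  orderOf_dvd_iff_pow_eq_one.trans MonoidHom.ext_iff

theorem det_pow_detOrder (χ : G → ℂ) (g : G) : H7.detHom χ g ^ detOrder χ = 1 :=
  orderOf_hom_dvd_iff.1 (H7.detOrder_eq χ).symm.dvd g

theorem hom_pow_eq_one_of_reg {lam : G →* ℂˣ} (h : ∀ g, ¬ p ∣ orderOf g → lam g = 1) :
    ∃ k, ∀ g, lam g ^ p ^ k = 1 := by
  refine ⟨(Nat.card G).factorization p, fun g => ?_⟩
  obtain ⟨k, hk⟩ := orderOf_pPart (p := p) g
  rw [← pPart_mul_pReg p g, map_mul, h _ (not_dvd_orderOf_pReg g), mul_one,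
    ← map_pow, orderOf_dvd_iff_pow_eq_one.1, map_one]
  rw [hk]
  exact pow_dvd_pow _ ((hp.out.pow_dvd_iff_le_factorization Nat.card_pos.ne').1
    (hk ▸ orderOf_dvd_natCard _))

theorem Good.ext_unique (hf : IsNE f) {χ ψ : IrrCharacter G} (hχ : Good p f χ) (hψ : Good p f ψ)
    {θ : IrrCharacter N} (hθ : θ ∈ principalBlock M N) (h1 : ∀ n, χ.1 (f n) = θ.1 n)
    (h2 : ∀ n, ψ.1 (f n) = θ.1 n) (hd : ¬ p ∣ charDegree θ.1) (h3 : ¬ p ∣ detOrder χ.1)
    (h4 : ¬ p ∣ detOrder ψ.1) : ψ = χ := by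
  obtain ⟨lam, h5, h6⟩ := hf.exists_linear_of_ext (irr_isChar χ) (funext h1 ▸ θ.2) (irr_isChar ψ)
    fun n => (h2 n).trans (h1 n).symm
  have h7 : ψ.1 = linFun lam * χ.1 := h6
  have h0 : cosS p f χ 1 ≠ 0 := by
    rw [cosS_one hf.inj, funext h1]
    exact mul_ne_zero (H7.card_ne_zero' N) ((mem_principal_iff_rip p θ).1 hθ)
  obtain ⟨k, hk⟩ := hom_pow_eq_one_of_reg ((hχ.lin_eq_one h0 h5).1 (h7 ▸ hψ))
  have h8 := H7.detHom_lin_mul lam (irr_isChar χ) (d := charDegree θ.1)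
    (by rw [← map_one f, h1, H7.char_one_eq (irr_isChar θ)])
  rw [← h7] at h8
  have h10 : lam = 1 := MonoidHom.ext fun g => by
    have h9 : lam g ^ (charDegree θ.1 * (detOrder ψ.1 * detOrder χ.1)) = 1 := by
      have := congrArg (· ^ (detOrder ψ.1 * detOrder χ.1)) (DFunLike.congr_fun h8 g)
      simp only [MonoidHom.mul_apply, MonoidHom.pow_apply, mul_pow] at this
      rw [pow_mul, det_pow_detOrder, pow_mul' (H7.detHom χ.1 g), det_pow_detOrder, one_pow,
        one_pow, mul_one, ← pow_mul] at this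
      exact this.symm
    refine orderOf_eq_one_iff.1 (Nat.eq_one_of_dvd_coprimes ?_
      (orderOf_dvd_iff_pow_eq_one.2 (hk g)) (orderOf_dvd_iff_pow_eq_one.2 h9))
    exact ((Nat.Prime.coprime_iff_not_dvd hp.out).2
      (hp.out.not_dvd_mul hd (hp.out.not_dvd_mul h4 h3))).pow_left k
  exact Subtype.ext (by rw [h7, h10, map_one, one_mul])

theorem Good.exists_det (hf : IsNE f) {χ : IrrCharacter G} (hχ : Good p f χ)
    {θ : IrrCharacter N} (hθ : θ ∈ principalBlock M N) (h1 : ∀ n, χ.1 (f n) = θ.1 n)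
    (hd : ¬ p ∣ charDegree θ.1) (h3 : ¬ p ∣ detOrder θ.1) :
    ∃ ψ : IrrCharacter G, Good p f ψ ∧ (∀ n, ψ.1 (f n) = θ.1 n) ∧ ¬ p ∣ detOrder ψ.1 := by
  have h0 : cosS p f χ 1 ≠ 0 := by
    rw [cosS_one hf.inj, funext h1]
    exact mul_ne_zero (H7.card_ne_zero' N) ((mem_principal_iff_rip p θ).1 hθ)
  set μ := H7.detHom χ.1 with hμ
  obtain ⟨e, m, hm, hcard⟩ := Nat.exists_eq_pow_mul_and_not_dvd
    (H7.orderOf_hom_pos μ).ne' p hp.out.ne_one
  have h4 := orderOf_hom_dvd_iff.1 hcard.dvd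
  have hc := (Nat.Prime.coprime_iff_not_dvd hp.out).2 (hp.out.not_dvd_mul hd
    (hp.out.not_dvd_mul hm h3))
  have hpe := pow_pos hp.out.pos e
  obtain ⟨a, -, ha⟩ := Nat.exists_mul_mod_eq_of_coprime (p ^ e - 1) (hc.pow_left e).symm hpe.ne'
  set lam := μ ^ (m * detOrder θ.1 * a) with hlam
  have h5 : ∀ n, lam (f n) = 1 := fun n => by
    have := DFunLike.congr_fun (H7.detHom_res (irr_isChar χ) h1) n
    rw [MonoidHom.pow_apply, show μ (f n) = _ from this, mul_right_comm, pow_mul',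
      det_pow_detOrder, one_pow]
  refine ⟨⟨linFun lam * χ.1, ?_⟩, (hχ.lin_eq_one h0 h5).2 fun g hg => ?_,
    fun n => by simp [H7.linFun_apply, h5, h1], fun e1 => hm (e1.trans ?_)⟩
  · rw [mul_comm]
    exact H7.irr_mul_linear χ.2 (H7.char_linFun lam) (H7.linFun_one_apply lam)
  · rw [MonoidHom.pow_apply, mul_assoc, pow_mul, orderOf_eq_one_iff.1 (Nat.eq_one_of_dvd_coprimes
      (((Nat.Prime.coprime_iff_not_dvd hp.out).2 hg).pow_left e) (k := orderOf (μ g ^ m)) ?_ ?_),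
      one_pow]
    · rw [orderOf_dvd_iff_pow_eq_one, ← pow_mul', h4]
    · exact (orderOf_pow_dvd _).trans (orderOf_map_dvd _ _)
  · have h8 := H7.detHom_lin_mul lam (irr_isChar χ) (d := charDegree θ.1)
      (by rw [← map_one f, h1, H7.char_one_eq (irr_isChar θ)])
    rw [H7.detOrder_eq, h8, orderOf_hom_dvd_iff]
    intro g
    have := Nat.ModEq.add_right 1 (ha : _ ≡ _ [MOD p ^ e])
    rw [Nat.sub_add_cancel hpe, mul_assoc, mul_comm] at this
    obtain ⟨c, hc⟩ := Nat.modEq_zero_iff_dvd.1 (this.trans (Nat.modEq_zero_iff_dvd.2 dvd_rfl))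
    rw [MonoidHom.mul_apply, MonoidHom.pow_apply, MonoidHom.pow_apply, ← hμ, ← pow_mul, ← pow_succ,
      hc, ← pow_mul, mul_right_comm, pow_mul, h4, one_pow]

theorem not_dvd_detOrder (h2 : p ≠ 2) {θ : G → ℂ} (hθ : IsCharacter G θ) {m : ℕ} (hm : ¬ p ∣ m)
    (h : ∀ τ : ℂ ≃+* ℂ, (∀ z : ℂ, z ^ m = 1 → τ z = z) → ∀ g, τ (θ g) = θ g) :
    ¬ p ∣ detOrder θ := by
  rintro ⟨c, hc⟩
  obtain ⟨τ, h3, h4⟩ := H6.exists_ringEquiv_pow_fix hp.out.ne_zero
    (fun e : m = 0 => hm (e ▸ dvd_zero p)) ((Nat.Prime.coprime_iff_not_dvd hp.out).2 hm) (m := 2)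
    ((Nat.coprime_primes Nat.prime_two hp.out).2 h2.symm)
  have h5 := detHom_map τ.toRingHom hθ
  rw [show (fun g => τ.toRingHom (θ g)) = θ from funext (h τ h4)] at h5
  have h6 : detOrder θ ∣ c := by
    rw [H7.detOrder_eq, orderOf_hom_dvd_iff]
    intro g
    have h7 : τ (H7.detHom θ g ^ c) = H7.detHom θ g ^ c := by
      rw [map_pow]
      exact congrArg (fun x : ℂˣ => (x : ℂ) ^ c) (DFunLike.congr_fun h5 g).symm
    rw [h3 _ (by rw [← pow_mul', ← hc, ← Units.val_pow_eq_pow_val, det_pow_detOrder]; rfl), sq,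
      mul_eq_left₀ (pow_ne_zero _ (Units.ne_zero _))] at h7
    exact Units.ext (by simpa using h7)
  have h8 := H7.detOrder_pos θ
  have h9 := Nat.le_of_dvd (Nat.pos_of_ne_zero fun e => by simp [hc, e] at h8) h6
  have := hp.out.two_le
  nlinarith

end Good

end Cfsg.Agent.H8
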