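import Cfsg.Agent.H10.Am0

/-! S3348: the centraliser condition `ct`. -/

set_option autoImplicit false
set_option linter.unusedVariables false

namespace Cfsg.Agent.H10.Am

open Subgroup

universe u

variable {G : Type u} [Group G] {a b z t s m n g : G}

theorem cth8_ba (h : AC a b z t s) (i : ℤ) : b * a ^ i = a ^ i * b * z ^ (-i) := by
  have c1 : Commute a z := h.az
  have c2 : Commute b z := h.bz
  have e : b⁻¹ * a * b⁻¹⁻¹ = a * z := by
    calc b⁻¹ * a * b⁻¹⁻¹ = b⁻¹ * (a * b * a⁻¹ * b⁻¹) * b * a := by group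
      _ = b⁻¹ * (z * b) * a := by rw [h.ab]; group
      _ = a * z := by rw [← h.bz, h.az]; group
  have e2 : b⁻¹ * a ^ i * b⁻¹⁻¹ = a ^ i * z ^ i := by rw [← conj_zpow, e, c1.mul_zpow]
  have e3 : b * a * b⁻¹ = a * z⁻¹ := by
    calc b * a * b⁻¹ = a * (a⁻¹ * (a * b * a⁻¹ * b⁻¹)⁻¹ * a) * (a⁻¹ * a) * (b * b⁻¹) * (a⁻¹ * b * a * a * b⁻¹ * a⁻¹)⁻¹ * (a⁻¹ * b * a * a * b⁻¹ * a⁻¹) := by group
      _ = a * z⁻¹ := by rw [h.ab, mul_assoc a⁻¹, ← c1.inv_right.eq]; group
  have e4 : b * a ^ i * b⁻¹ = a ^ i * z ^ (-i) := by rw [← conj_zpow, e3, c1.inv_right.mul_zpow, inv_zpow']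
  calc b * a ^ i = b * a ^ i * b⁻¹ * b := by group
    _ = a ^ i * (z ^ (-i) * b) := by rw [e4, mul_assoc]
    _ = _ := by rw [← (c2.zpow_right (-i)).eq, mul_assoc]

theorem nf_h8 (h : AC a b z t s) (hg : g ∈ closure {a, b, z, t, s}) :
    ∃ i j k : ℤ, ∃ w, (w = 1 ∨ w = t ∨ w = s ∨ w = t * s) ∧ g = a ^ i * b ^ j * z ^ k * w := by
  have c1 : Commute a z := h.az
  have c2 : Commute b z := h.bz
  have key : ∀ x ∈ ({a, b, z, t, s} : Set G), ∀ y, (∃ i j k : ℤ, ∃ w, (w = 1 ∨ w = t ∨ w = s ∨ w = t * s) ∧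
      y = a ^ i * b ^ j * z ^ k * w) → ∃ i j k : ℤ, ∃ w, (w = 1 ∨ w = t ∨ w = s ∨ w = t * s) ∧
      x * y = a ^ i * b ^ j * z ^ k * w := by
    rintro x hx y ⟨i, j, k, w, hw, rfl⟩
    simp only [Set.mem_insert_iff, Set.mem_singleton_iff] at hx
    rcases hx with e | e | e | e | e <;> rw [e]
    · exact ⟨1 + i, j, k, w, hw, by group⟩
    · refine ⟨i, 1 + j, -i + k, w, hw, ?_⟩
      calc b * (a ^ i * b ^ j * z ^ k * w) = (b * a ^ i) * b ^ j * z ^ k * w := by group
        _ = a ^ i * b * (z ^ (-i) * b ^ j) * z ^ k * w := by rw [cth8_ba h]; group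
        _ = _ := by rw [← (c2.zpow_zpow j (-i)).eq]; group
    · refine ⟨i, j, 1 + k, w, hw, ?_⟩
      calc z * (a ^ i * b ^ j * z ^ k * w) = (z * (a ^ i * b ^ j)) * z ^ k * w := by group
        _ = _ := by rw [← ((c1.zpow_left i).mul_left (c2.zpow_left j)).eq]; group
    · refine ⟨-i, j, -k, t * w, ?_, ?_⟩
      · rcases hw with e | e | e | e <;> simp [e, h.tt, ← mul_assoc]
      · have tb : t * b * t⁻¹ = b := by rw [h.tb]; group
        calc t * (a ^ i * b ^ j * z ^ k * w)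
            = (t * a * t⁻¹) ^ i * (t * b * t⁻¹) ^ j * (t * z * t⁻¹) ^ k * (t * w) := by
              simp only [conj_zpow]; group
          _ = _ := by rw [h.ta, tb, h.tz]; group
    · refine ⟨i, -j, -k, s * w, ?_, ?_⟩
      · have st : s * (t * s) = t := by rw [← mul_assoc, ← h.ts, mul_assoc, h.ss, mul_one]
        rcases hw with e | e | e | e <;> simp [e, h.ss, st, ← h.ts]
      · have sa : s * a * s⁻¹ = a := by rw [h.sa]; group
        calc s * (a ^ i * b ^ j * z ^ k * w)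
            = (s * a * s⁻¹) ^ i * (s * b * s⁻¹) ^ j * (s * z * s⁻¹) ^ k * (s * w) := by
              simp only [conj_zpow]; group
          _ = _ := by rw [sa, h.sb, h.sz]; group
  have i3 : ∀ x : G, x * x * x = 1 → x⁻¹ = x * x := fun x e => inv_eq_of_mul_eq_one_left e
  have i2 : ∀ x : G, x * x = 1 → x⁻¹ = x := fun x e => inv_eq_of_mul_eq_one_left e
  induction hg using closure_induction_left with
  | one => exact ⟨0, 0, 0, 1, Or.inl rfl, by simp⟩
  | mul_left x hx y hy ih => exact key x hx y ih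
  | inv_mul_cancel x hx y hy ih =>
    have hx' := hx
    simp only [Set.mem_insert_iff, Set.mem_singleton_iff] at hx'
    rcases hx' with e | e | e | e | e
    · rw [i3 x (e ▸ h.a3), mul_assoc]; exact key x hx _ (key x hx y ih)
    · rw [i3 x (e ▸ h.b3), mul_assoc]; exact key x hx _ (key x hx y ih)
    · rw [i3 x (e ▸ h.z3), mul_assoc]; exact key x hx _ (key x hx y ih)
    · rw [i2 x (e ▸ h.tt)]; exact key x hx y ih
    · rw [i2 x (e ▸ h.ss)]; exact key x hx y ih

theorem cth8_z3 {x : G} (e : x * x * x = 1) : x ^ (3 : ℤ) = 1 := by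
  rw [show (3 : ℤ) = ((3 : ℕ) : ℤ) from rfl, zpow_natCast, pow_three', e]

theorem ct_h8 (h : AM a b z t s m n) (hz : z ≠ 1) (hC : ∀ g, Commute g z → g ∈ closure {a, b, z, t, s}) :
    ∀ g, Commute g b → Commute g t → g ∈ zpowers b ⊔ zpowers t := fun g gb gt => by
  have c1 : Commute a z := h.az
  have c2 : Commute b z := h.bz
  have nab : ¬ Commute a b := fun e => hz (by rw [← h.ab, e.eq]; group)
  have zz : z⁻¹ ≠ z := fun e => hz (by
    have := h.z3
    nth_rewrite 1 [← e] at this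
    simpa using this)
  have gz : Commute (n * g * n⁻¹) z := h.nb ▸ gb.conj n
  have gu : Commute (n * g * n⁻¹) (t * s) := h.nt ▸ gt.conj n
  obtain ⟨i, j, k, w, hw, e⟩ := nf_h8 h.toAC (hC _ gz)
  have xz : Commute (a ^ i * b ^ j * z ^ k) z :=
    ((c1.zpow_left i).mul_left (c2.zpow_left j)).mul_left ((Commute.refl z).zpow_left k)
  have wz : Commute w z := by
    have := xz.inv_left.mul_left (e ▸ gz)
    rwa [inv_mul_cancel_left] at this
  have wu : w = 1 ∨ w = t * s := by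
    rcases hw with e1 | e1 | e1 | e1
    · exact Or.inl e1
    · exact (zz (by rw [← h.tz, ← e1, wz.eq]; group)).elim
    · exact (zz (by rw [← h.sz, ← e1, wz.eq]; group)).elim
    · exact Or.inr e1
  have wc : Commute w (t * s) := by rcases wu with e1 | e1 <;> simp [e1]
  have xu : Commute (a ^ i * b ^ j * z ^ k) (t * s) := by
    have := (e ▸ gu).mul_left wc.inv_left
    rwa [mul_inv_cancel_right] at this
  have ua : t * s * a * (t * s)⁻¹ = a⁻¹ := by
    calc t * s * a * (t * s)⁻¹ = t * (s * a) * s⁻¹ * t⁻¹ := by group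
      _ = a⁻¹ := by rw [h.sa, ← h.ta]; group
  have ub : t * s * b * (t * s)⁻¹ = b⁻¹ := by
    calc t * s * b * (t * s)⁻¹ = t * (s * b * s⁻¹) * t⁻¹ := by group
      _ = (t * b * t⁻¹)⁻¹ := by rw [h.sb]; group
      _ = b⁻¹ := by rw [h.tb]; group
  have uz : t * s * z * (t * s)⁻¹ = z := by
    calc t * s * z * (t * s)⁻¹ = t * (s * z * s⁻¹) * t⁻¹ := by group
      _ = (t * z * t⁻¹)⁻¹ := by rw [h.sz]; group
      _ = z := by rw [h.tz, inv_inv]
  have k1 : (a ^ i)⁻¹ * (b ^ j)⁻¹ = a ^ i * b ^ j := by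
    have : (a ^ i)⁻¹ * (b ^ j)⁻¹ * z ^ k = a ^ i * b ^ j * z ^ k := by
      calc (a ^ i)⁻¹ * (b ^ j)⁻¹ * z ^ k = (t * s * a * (t * s)⁻¹) ^ i * (t * s * b * (t * s)⁻¹) ^ j *
            (t * s * z * (t * s)⁻¹) ^ k := by rw [ua, ub, uz]; group
        _ = t * s * (a ^ i * b ^ j * z ^ k) * (t * s)⁻¹ := by simp only [conj_zpow]; group
        _ = _ := by rw [← xu.eq]; group
    exact mul_right_cancel this
  have A3 : a ^ i * a ^ i * a ^ i = 1 := by
    rw [← zpow_add, ← zpow_add, show i + i + i = 3 * i by ring, zpow_mul,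
      cth8_z3 h.a3, one_zpow]
  have B3 : b ^ j * b ^ j * b ^ j = 1 := by
    rw [← zpow_add, ← zpow_add, show j + j + j = 3 * j by ring, zpow_mul,
      cth8_z3 h.b3, one_zpow]
  have k2 : a ^ i * b ^ j = 1 := by
    have e1 : a ^ i * a ^ i * (b ^ j * b ^ j) = 1 := by
      calc a ^ i * a ^ i * (b ^ j * b ^ j) = a ^ i * (a ^ i * b ^ j) * b ^ j := by group
        _ = 1 := by rw [← k1]; group
    have e2 : a ^ i * a ^ i = (a ^ i)⁻¹ := eq_inv_of_mul_eq_one_left A3
    have e3 : b ^ j * b ^ j = (b ^ j)⁻¹ := eq_inv_of_mul_eq_one_left B3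
    rw [e2, e3, k1] at e1
    exact e1
  rw [k2, one_mul] at e
  have eg : g = (n⁻¹ * z * n) ^ k * (n⁻¹ * w * n) := by
    have : (n⁻¹ * z * n) ^ k = n⁻¹ * z ^ k * n := by
      have := conj_zpow (a := n⁻¹) (b := z) (i := k)
      rwa [inv_inv] at this
    rw [this]
    calc g = n⁻¹ * (n * g * n⁻¹) * n := by group
      _ = _ := by rw [e]; group
  have nz : n⁻¹ * z * n = b := by rw [← h.nb]; group
  rw [eg, nz]
  refine mul_mem (mem_sup_left (zpow_mem (mem_zpowers b) k)) (mem_sup_right ?_)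
  rcases wu with e1 | e1
  · rw [e1, mul_one, inv_mul_cancel]; exact one_mem _
  · rw [e1, ← h.nt, show n⁻¹ * (n * t * n⁻¹) * n = t by group]; exact mem_zpowers t

end Cfsg.Agent.H10.Am
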