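import Cfsg.Agent.H7.Deg3
import Cfsg.Prelude.Def_DegreeGraph

/-! The character degree graph of a solvable group has at most two components. -/

set_option autoImplicit false

namespace Cfsg.Agent.H8.DG

open Cfsg Cfsg.Agent.H7

theorem card_cc_le {V : Type*} (Γ : SimpleGraph V) (P : V → Prop) (h : ∀ u v, (P u ↔ P v) → Γ.Reachable u v) :
    Nat.card Γ.ConnectedComponent ≤ 2 := by
  have : Nat.card Prop = 2 := by simp
  refine this ▸ Nat.card_le_card_of_injective (fun c : Γ.ConnectedComponent => P c.out) fun c d e => ?_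
  rw [← c.out_eq, ← d.out_eq]
  exact SimpleGraph.ConnectedComponent.sound (h _ _ (iff_of_eq e))

variable {G : Type*} [Group G] [Finite G]

theorem mem_cd {d : ℕ} : d ∈ charDegrees G ↔ d ∈ degSet G :=
  ⟨fun ⟨χ, h⟩ => mem_degSet.2 ⟨χ, χ.2, h⟩, fun h => have ⟨χ, h, e⟩ := mem_degSet.1 h; ⟨⟨χ, h⟩, e⟩⟩

theorem reach (u v : degreePrimes G) {d : ℕ} (hd : d ∈ degSet G) (h1 : u.1 ∣ d) (h2 : v.1 ∣ d) :
    ((degreeGraph G).induce (degreePrimes G)).Reachable u v := by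
  by_cases e : u = v
  · rw [e]
  have e' : u.1 ≠ v.1 := fun z => e (Subtype.ext z)
  exact SimpleGraph.Adj.reachable ⟨e', u.2.1, v.2.1, d, mem_cd.2 hd,
    ((Nat.coprime_primes u.2.1 v.2.1).2 e').mul_dvd_of_dvd_of_dvd h1 h2⟩

theorem reach' (u v : degreePrimes G) {s : ℕ} (hs : s.Prime) (h1 : ∃ d ∈ degSet G, u.1 ∣ d ∧ s ∣ d)
    (h2 : ∃ d ∈ degSet G, v.1 ∣ d ∧ s ∣ d) : ((degreeGraph G).induce (degreePrimes G)).Reachable u v :=
  have ⟨d, a, b, c⟩ := h1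
  have ⟨_, a', b', c'⟩ := h2
  (reach u ⟨s, hs, d, mem_cd.2 a, c⟩ a b c).trans (reach _ v a' c' b')

/-- two hubs -/
theorem exists_hubs [Group.IsSolvable G] : ∃ s t : ℕ, s.Prime ∧ t.Prime ∧ ∀ χ, IsIrrCharacter G χ → ∀ r : ℕ, r.Prime →
    r ∣ charDegree χ → (∃ d ∈ degSet G, r ∣ d ∧ s ∣ d) ∨ ∃ d ∈ degSet G, r ∣ d ∧ t ∣ d := by
  by_cases h1 : commutator G = ⊥
  · exact ⟨2, 2, Nat.prime_two, Nat.prime_two, fun χ hχ r hr h => absurd
      (Nat.eq_one_of_dvd_one ((deg_eq_one_iff hχ).2 (h1.trans_le bot_le) ▸ h)) hr.ne_one⟩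
  obtain ⟨K, _, h2, h3⟩ := exists_max_nonabelian h1
  have h4 : ∀ a ∈ commutator (G ⧸ K), ∀ b ∈ commutator (G ⧸ K), a * b = b * a := by
    have := not_not.mp (mt (h3 _ inferInstance) (H2.commutator_lt_of_isSolvable h2).not_ge)
    exact fun a ha b hb => Subgroup.commutator_eq_bot_iff_le_centralizer.mp this hb a ha
  obtain ⟨p, hp, h5⟩ | h5 := pgroup_or_frob h2 h3 h4
  · refine ⟨p, p, hp, hp, fun χ hχ r hr h => .inl ?_⟩
    by_cases e : p ∣ charDegree χ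
    · exact ⟨_, mem_degSet.2 ⟨χ, hχ, rfl⟩, h, e⟩
    haveI := Fact.mk hp
    obtain ⟨β, hβ⟩ := not_forall.1 (mt comm_iff_deg.2 fun z => h2 (eq_bot_iff.2 (Subgroup.commutator_le.2
      fun a _ b _ => commutatorElement_eq_one_iff_mul_comm.2 (z a b))))
    obtain ⟨hβ, b1⟩ := Classical.not_imp.1 hβ
    obtain ⟨k, hk⟩ := IsPGroup.iff_card.mp h5
    obtain ⟨a, -, ha⟩ := (Nat.dvd_prime_pow hp).mp (hk ▸ irr_degree_dvd_card hβ)
    have := gallagher_irr (f := K.subtype) (QuotientGroup.mk'_surjective K) (by simp) (irr_char hχ)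
      (irr_res_of_coprime (isNE_subtype K) hχ (by
        rw [K.range_subtype, Subgroup.index, hk]; exact (hp.coprime_iff_not_dvd.2 e).pow_left _)) hβ
    refine ⟨_, mem_degSet.2 ⟨_, this, rfl⟩, ?_⟩
    rw [deg_mul (char_comp _ (irr_char hβ)) (irr_char hχ), deg_comp, ha]
    exact ⟨h.mul_left _, (dvd_pow_self p fun z => b1 (by rw [ha, z, pow_zero])).mul_right _⟩
  have hF := frobSec_of_quot K h2 h4 h5
  generalize (commutator (G ⧸ K)).comap (QuotientGroup.mk' K) = N at hF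
  haveI := hF.nN
  haveI := hF.nK
  obtain ⟨s, hs, s1⟩ := Nat.exists_prime_and_dvd (mt Subgroup.index_eq_one.mp hF.ne)
  obtain ⟨t, ht, t1⟩ := Nat.exists_prime_and_dvd (mt Subgroup.relIndex_eq_one.mp hF.lt.not_ge)
  refine ⟨s, t, hs, ht, fun χ hχ r hr h => ?_⟩
  obtain ⟨ψ, hψ, h6⟩ := exists_irr_under N.subtype hχ
  obtain ⟨e, h7, h8⟩ := (isNE_subtype N).deg_ratio hψ hχ h6
  rcases (Nat.Prime.dvd_mul hr).1 (h7 ▸ h) with z | z
  · exact .inl ⟨_, hF.index_mem, z.trans (N.range_subtype ▸ h8), s1⟩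
  refine (hF.dichotomy hψ).imp (fun y => ⟨_, y, z.mul_left _, s1.mul_right _⟩) fun y =>
    ⟨_, mem_degSet.2 ⟨χ, hχ, rfl⟩, h, h7 ▸ Dvd.dvd.mul_left ?_ _⟩
  haveI := Fact.mk ht
  obtain ⟨R⟩ : Nonempty (Sylow t N) := inferInstance
  obtain ⟨g, hg, h3⟩ := SetLike.not_le_iff_exists.mp fun h3 : (R : Subgroup N) ≤ K.subgroupOf N =>
    R.not_dvd_index (t1.trans (Subgroup.index_dvd_of_le h3))
  obtain ⟨k, hk⟩ := R.isPGroup' ⟨g, hg⟩
  exact dvd_degree_of_vanish ht (irr_char hψ) (congrArg Subtype.val hk) (not_not.mp (mt (y g) h3))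

theorem manz [Group.IsSolvable G] :
    Nat.card ((degreeGraph G).induce (degreePrimes G)).ConnectedComponent ≤ 2 := by
  obtain ⟨s, t, hs, ht, h⟩ := exists_hubs (G := G)
  refine card_cc_le _ (fun u => ∃ d ∈ degSet G, u.1 ∣ d ∧ s ∣ d) fun u v e => ?_
  by_cases z : ∃ d ∈ degSet G, u.1 ∣ d ∧ s ∣ d
  · exact reach' u v hs z (e.1 z)
  obtain ⟨_, ⟨χ, rfl⟩, a⟩ := u.2.2
  obtain ⟨_, ⟨ψ, rfl⟩, b⟩ := v.2.2
  exact reach' u v ht ((h _ χ.2 _ u.2.1 a).resolve_left z) ((h _ ψ.2 _ v.2.1 b).resolve_left (mt e.2 z))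

end Cfsg.Agent.H8.DG
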