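import Cfsg.Agent.H8.DG1

/-! Relative degree graphs (Isaacs). -/

set_option autoImplicit false
set_option linter.unusedSectionVars false

namespace Cfsg.Agent.H8.DG

open Cfsg Cfsg.Agent.H7

/-- linear characters -/
def Lin (N : Type*) [Group N] := N →* ℂˣ

noncomputable instance (N : Type*) [Group N] : CommGroup (Lin N) := inferInstanceAs (CommGroup (N →* ℂˣ))

instance (N : Type*) [Group N] [Finite N] : Finite (Lin N) := inferInstanceAs (Finite (N →* ℂˣ))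

section

variable {N : Type*} [Group N] [Finite N] {θ : N → ℂ}

/-- as a function -/
def lf : Lin N →* N → ℂ := linFun

/-- the determinant -/
noncomputable def dt (θ : N → ℂ) : Lin N := detHom θ

theorem dt_lin (l : Lin N) (hθ : IsCharacter N θ) {d : ℕ} (hd : θ 1 = d) : dt (lf l * θ) = l ^ d * dt θ :=
  detHom_lin_mul l hθ hd

theorem dt_smul (e : ℕ) (hθ : IsCharacter N θ) : dt ((e : ℂ) • θ) = dt θ ^ e := detHom_natCast_smul e hθ

theorem dt_sum {ι : Type*} (s : Finset ι) {φ : ι → N → ℂ} (h : ∀ i ∈ s, IsCharacter N (φ i)) :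
    dt (∑ i ∈ s, φ i) = ∏ i ∈ s, dt (φ i) := detHom_sum s h

theorem dt_lf (l : Lin N) : dt (lf l) = l := detHom_linFun l

theorem irr_lf (l : Lin N) : IsIrrCharacter N (lf l) := irr_linFun l

theorem deg_lf (l : Lin N) : charDegree (lf l) = 1 := charDegree_eq ((linFun_one_apply l).trans Nat.cast_one.symm)

theorem lf_inj : Function.Injective (lf : Lin N → N → ℂ) := linFun_injective

end

variable {G : Type*} [Group G] [Finite G] {N : Subgroup G} [N.Normal] {θ φ : N → ℂ} {χ : G → ℂ}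
  {l m n : Lin N} {p a b c : ℕ}

/-- conjugation of linear characters -/
noncomputable def cl (g : G) : Lin N →* Lin N := MonoidHom.compHom' ((isNE_subtype N).cj g).toMonoidHom

/-- inertia group -/
noncomputable abbrev In (θ : N → ℂ) : Subgroup G := (isNE_subtype N).inertia θ

/-- product of the determinants of the conjugates -/
noncomputable def dl (θ : N → ℂ) : Lin N := ∏ φ ∈ (isNE_subtype N).orbit θ, dt φ

theorem cjf_lin (g : G) (l : Lin N) (θ : N → ℂ) :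
    (isNE_subtype N).cjf g (lf l * θ) = lf (cl g l) * (isNE_subtype N).cjf g θ := rfl

theorem mem_In {g : G} : g ∈ In (lf l) ↔ cl g l = l := lf_inj.eq_iff (a := cl g l)

theorem det_cjf (hθ : IsIrrCharacter N θ) (g : G) : dt ((isNE_subtype N).cjf g θ) = cl g (dt θ) :=
  detHom_comp ((isNE_subtype N).cj g).toMonoidHom (irr_char hθ)

theorem cl_dl (hθ : IsIrrCharacter N θ) (g : G) : cl g (dl θ) = dl θ := by
  have hf := isNE_subtype N
  have m : ∀ φ ∈ hf.orbit θ, hf.cjf g φ ∈ hf.orbit θ := fun φ h => by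
    obtain ⟨k, rfl⟩ := hf.mem_orbit.1 h
    exact hf.mem_orbit.2 ⟨k * g, hf.cjf_mul _ _ _⟩
  rw [dl, map_prod]
  exact Finset.prod_nbij (hf.cjf g) m (hf.cjf_injective g).injOn
    (Finset.surjOn_of_injOn_of_card_le _ m (hf.cjf_injective g).injOn le_rfl) fun φ h =>
      (det_cjf (hf.irr_of_mem_orbit hθ h) g).symm

theorem irr_lin (hθ : IsIrrCharacter N θ) (l : Lin N) : IsIrrCharacter N (lf l * θ) :=
  mul_comm θ _ ▸ irr_mul_linear hθ (char_linFun l) (linFun_one_apply l)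

theorem deg_lin (l : Lin N) (θ : N → ℂ) : charDegree (lf l * θ) = charDegree θ := by
  rw [charDegree, Pi.mul_apply, show lf l 1 = 1 from linFun_one_apply l, one_mul, charDegree]

theorem lin_cancel (l : Lin N) : Function.Injective fun θ : N → ℂ => lf l * θ := fun _ _ e =>
  funext fun x => mul_left_cancel₀ (Units.ne_zero _) (congrFun e x)

theorem shift (hθ : IsIrrCharacter N θ) (h1 : (In θ).index.Coprime (In (lf l)).index)
    (h2 : (In (lf l * θ)).index.Coprime (In (lf l)).index) :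
    dl (lf l * θ) = l ^ ((In θ).index * charDegree θ) * dl θ := by
  classical
  have hf := isNE_subtype N
  have k : ∀ {ψ}, (In ψ).index.Coprime (In (lf l)).index → ∀ φ ∈ hf.orbit ψ, ∃ h, cl h l = l ∧ hf.cjf h ψ = φ :=
    fun {ψ} c φ h => by
      obtain ⟨g, rfl⟩ := hf.mem_orbit.1 h
      obtain ⟨x, hx, y, hy, rfl⟩ := H1.exists_mul_of_coprime_index c g
      exact ⟨y, mem_In.1 hy, by rw [hf.cjf_mul, hf.mem_inertia.1 hx]⟩
  have : hf.orbit (lf l * θ) = (hf.orbit θ).image (lf l * ·) := by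
    ext φ
    rw [Finset.mem_image]
    refine ⟨fun h => ?_, fun ⟨ψ, h, e⟩ => ?_⟩
    · obtain ⟨g, e, rfl⟩ := k h2 φ h
      exact ⟨_, hf.mem_orbit.2 ⟨g, rfl⟩, by rw [cjf_lin, e]⟩
    · obtain ⟨g, e', rfl⟩ := k h1 ψ h
      exact hf.mem_orbit.2 ⟨g, by rw [cjf_lin, e', e]⟩
  rw [dl, this, Finset.prod_image (lin_cancel l).injOn, dl, ← hf.card_orbit, mul_comm _ (charDegree θ), pow_mul,
    ← Finset.prod_const, ← Finset.prod_mul_distrib]
  refine Finset.prod_congr rfl fun φ h => dt_lin l (irr_char (hf.irr_of_mem_orbit hθ h)) ?_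
  obtain ⟨g, rfl⟩ := hf.mem_orbit.1 h
  rw [hf.cjf_apply_one, char_one_eq (irr_char hθ)]

theorem In_mul (hθ : IsIrrCharacter N θ) (h : (charDegree θ * orderOf (dt θ)).Coprime (orderOf l)) :
    In (lf l * θ) = In (lf l) ⊓ In θ := by
  have hf := isNE_subtype N
  refine le_antisymm (fun g hg => ?_) fun g hg => ?_
  · have e := hf.mem_inertia.1 hg
    have d := congrArg (fun ψ => dt ψ ^ orderOf (dt θ)) e
    simp only [cjf_lin] at d e
    rw [dt_lin _ (irr_char (hf.irr_cjf g hθ)) ((hf.cjf_apply_one g θ).trans (char_one_eq (irr_char hθ))),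
      dt_lin _ (irr_char hθ) (char_one_eq (irr_char hθ)), det_cjf hθ, mul_pow, mul_pow, ← map_pow (cl g) (dt θ),
      pow_orderOf_eq_one, map_one, mul_one, mul_one, ← pow_mul, ← pow_mul, ← div_eq_one, ← div_pow] at d
    have : cl g l = l := div_eq_one.1 (orderOf_eq_one_iff.1 (Nat.eq_one_of_dvd_coprimes h (orderOf_dvd_of_pow_eq_one d)
      (orderOf_dvd_of_pow_eq_one (by rw [div_pow, ← map_pow, pow_orderOf_eq_one, map_one, div_one]))))
    exact ⟨mem_In.2 this, lin_cancel l (this ▸ e :)⟩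
  · rw [hf.mem_inertia, cjf_lin, mem_In.1 hg.1, hf.mem_inertia.1 hg.2]

/-- `a` is the degree of an irreducible character over `θ` -/
def Ov (θ : N → ℂ) (a : ℕ) : Prop := ∃ χ, IsIrrCharacter G χ ∧ ip (fun x : N => χ x) θ ≠ 0 ∧ charDegree χ = a

theorem exists_ov (hθ : IsIrrCharacter N θ) : ∃ a, Ov θ a :=
  have ⟨χ, h, k⟩ := exists_irr_over N.subtype_injective hθ
  ⟨_, χ, h, k, rfl⟩

theorem Ov.mem (h : Ov θ a) (hθ : IsIrrCharacter N θ) (h1 : θ ≠ 1) : a ∈ relCharDegrees N := by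
  obtain ⟨χ, hχ, k, rfl⟩ := h
  refine ⟨⟨χ, hχ⟩, by_contra fun z => k ?_, rfl⟩
  push Not at z
  rw [show (fun x : N => χ x) = χ 1 • (1 : N → ℂ) from funext fun x => by simpa using z x x.2, ip_smul_left,
    ip_irr_ne irr_one hθ h1.symm, mul_zero]

theorem exists_under (h : a ∈ relCharDegrees N) : ∃ θ : N → ℂ, IsIrrCharacter N θ ∧ θ ≠ 1 ∧ Ov θ a := by
  obtain ⟨χ, ⟨x, hx, e⟩, rfl⟩ := h
  obtain ⟨θ, hθ, k⟩ := exists_irr_under N.subtype χ.2
  exact ⟨θ, hθ, fun z => e ((isNE_subtype N).apply_eq_one_of_ip_one χ.2 (z ▸ k) ⟨x, hx⟩), χ, χ.2, k, rfl⟩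

theorem ov_one : Ov (1 : N → ℂ) 1 := ⟨1, irr_one, ip_one_one.trans_ne one_ne_zero, charDegree_eq (by simp)⟩

theorem Ov.det (h : Ov θ a) (hN : N ≤ commutator G) (hθ : IsIrrCharacter N θ) :
    ∃ e, a = e * ((In θ).index * charDegree θ) ∧ dl θ ^ e = 1 := by
  obtain ⟨χ, hχ, k, rfl⟩ := h
  have hf := isNE_subtype N
  obtain ⟨e, he⟩ := ip_char_nat (char_comp N.subtype (irr_char hχ)) (irr_char hθ)
  refine ⟨e, ?_, ?_⟩
  · have := hf.clifford_degree hχ hθ k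
    rw [he, char_one_eq (irr_char hχ), char_one_eq (irr_char hθ), mul_assoc] at this
    exact_mod_cast this
  · have c := fun φ h => irr_char (hf.irr_of_mem_orbit (φ := φ) hθ h)
    rw [dl, ← dt_sum _ c, ← dt_smul e (char_sum _ c), ← he, ← hf.clifford hχ hθ k]
    exact (detHom_comp _ (irr_char hχ)).trans
      (MonoidHom.ext fun x => Abelianization.commutator_subset_ker (detHom χ) (hN x.2))

theorem Ov.dvd (h : Ov θ a) (hN : N ≤ commutator G) (hθ : IsIrrCharacter N θ) : (In θ).index * charDegree θ ∣ a :=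
  have ⟨_, e, _⟩ := h.det hN hθ
  e ▸ dvd_mul_left _ _

theorem dl_inv (h : (In θ).index = 1) : dl θ = dt θ := by
  rw [dl, (isNE_subtype N).orbit_of_inv ((isNE_subtype N).inv_iff_inertia.2 (Subgroup.index_eq_one.1 h)),
    Finset.prod_singleton]

theorem eq_lin (hθ : IsIrrCharacter N θ) (h : charDegree θ = 1) : θ = lf (dt θ) := by
  obtain ⟨μ, rfl⟩ := exists_linFun (irr_char hθ) (by rw [char_one_eq (irr_char hθ), h, Nat.cast_one])
  exact congrArg _ (dt_lf μ).symm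

theorem eq_one_of_pow (h1 : l ^ a = 1) (h2 : l ^ b = 1) (c : a.Coprime b) : l = 1 :=
  orderOf_eq_one_iff.1 (Nat.eq_one_of_dvd_coprimes c (orderOf_dvd_of_pow_eq_one h1) (orderOf_dvd_of_pow_eq_one h2))

theorem not_cop {d : ℕ} (h1 : d ∣ a) (h2 : d ∣ b) (h : d ≠ 1) : ¬ a.Coprime b :=
  fun c => h (Nat.eq_one_of_dvd_coprimes c h1 h2)

/-- the case of an invariant linear character -/
theorem central (hN : N ≤ commutator G) (hp : p.Prime) {k : ℕ} (hl : l ^ p ^ k = 1) (l1 : l ≠ 1) (hi : ∀ g, cl g l = l)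
    (ha : a ∈ relCharDegrees N) (h0 : ¬ p ∣ a) : ∃ b ∈ relCharDegrees N, p ∣ b ∧ ¬ a.Coprime b := by
  obtain ⟨θ, hθ, θ1, h⟩ := exists_under ha
  have i : (In (lf l)).index = 1 := Subgroup.index_eq_one.2 (top_le_iff.1 fun g _ => mem_In.2 (hi g))
  have s := shift (l := l) hθ (by simp [i]) (by simp [i])
  have I : In (lf l * θ) = In θ := Subgroup.ext fun g => by
    rw [(isNE_subtype N).mem_inertia, cjf_lin, hi, (lin_cancel l).eq_iff]; rfl
  obtain ⟨e, rfl, he⟩ := h.det hN hθ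
  have key : ∀ b, Ov (lf l * θ) b → p ∣ b ∧ ¬ (e * ((In θ).index * charDegree θ)).Coprime b := fun b hb => by
    obtain ⟨e', rfl, he'⟩ := hb.det hN (irr_lin hθ l)
    rw [s, mul_pow] at he'
    rw [I, deg_lin]
    refine ⟨by_contra fun z => l1 (eq_one_of_pow (a := e * ((In θ).index * charDegree θ) * e') ?_ hl
      (((Nat.Prime.coprime_iff_not_dvd hp).2 (hp.not_dvd_mul h0 (mt (Dvd.dvd.mul_right · _) z))).symm.pow_right k)), ?_⟩
    · have := congrArg (· ^ e) he'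
      simp only [mul_pow, one_pow] at this
      rwa [pow_right_comm (dl θ), he, one_pow, mul_one, ← pow_mul, ← pow_mul, mul_comm e', ← mul_assoc,
        mul_comm _ e] at this
    by_cases z : (In θ).index * charDegree θ = 1
    · rw [z] at h0 ⊢
      rw [mul_one] at h0
      rw [mul_one, mul_one]
      refine fun c => θ1 ?_
      rw [eq_lin hθ (Nat.eq_one_of_mul_eq_one_left z), ← dl_inv (Nat.eq_one_of_mul_eq_one_right z),
        eq_one_of_pow he (b := e' * p ^ k) ?_ (c.mul_right ((hp.coprime_iff_not_dvd.2 h0).symm.pow_right k)), map_one]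
      have := congrArg (· ^ p ^ k) he'
      simp only [mul_pow, one_pow] at this
      rwa [z, pow_one, pow_right_comm, hl, one_pow, one_mul, ← pow_mul] at this
    · exact not_cop (dvd_mul_left _ _) (dvd_mul_left _ _) z
  obtain ⟨b, hb⟩ := exists_ov (irr_lin hθ l)
  exact ⟨b, hb.mem (irr_lin hθ l) fun z => hp.one_lt.ne' (Nat.dvd_one.1 (key 1 (z ▸ ov_one)).1), key b hb⟩

/-- no invariant linear character of `p`-power order -/
def NC (p : ℕ) (N : Subgroup G) [N.Normal] : Prop := ∀ (l : Lin N) (k : ℕ), l ^ p ^ k = 1 → (∀ g, cl g l = l) → l = 1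

/-- orbit length -/
noncomputable abbrev nn (l : Lin N) : ℕ := (In (lf l)).index

variable {k j : ℕ}

theorem NC.ne (h : NC p N) (hl : l ^ p ^ k = 1) (l1 : l ≠ 1) : nn l ≠ 1 := fun e =>
  l1 (h l k hl fun _ => mem_In.1 ((Subgroup.index_eq_one.1 e).ge trivial))

theorem NC.dl (h : NC p N) (hl : l ^ p ^ k = 1) : dl (lf l) = 1 := by
  refine h _ k ?_ (cl_dl (irr_lf l))
  rw [DG.dl, ← Finset.prod_pow]
  refine Finset.prod_eq_one fun φ h => ?_
  obtain ⟨g, rfl⟩ := (isNE_subtype N).mem_orbit.1 h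
  rw [det_cjf (irr_lf l), dt_lf, ← map_pow, hl, map_one]

theorem cop_ord (hp : p.Prime) (hl : l ^ p ^ k = 1) (h : ¬ p ∣ a) : a.Coprime (orderOf l) :=
  ((hp.coprime_iff_not_dvd.2 h).symm.pow_right k).coprime_dvd_right (orderOf_dvd_of_pow_eq_one hl)

theorem Ov.typ (h : Ov θ a) (hN : N ≤ commutator G) (hp : p.Prime) (hθ : IsIrrCharacter N θ) (h0 : ¬ p ∣ a) :
    ¬ p ∣ orderOf (dt θ) ∨ ∃ (l : Lin N) (k : ℕ), l ^ p ^ k = 1 ∧ l ≠ 1 ∧ nn l ∣ a := by
  obtain ⟨x, y, -, -, e, ⟨k, hk⟩, hy⟩ := H4.exists_part_decomp p (dt θ)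
  have d : ¬ p ∣ charDegree θ := fun z => h0 ((z.mul_left _).trans (h.dvd hN hθ))
  obtain ⟨j, hj⟩ := exists_pow_eq_self_of_coprime (cop_ord hp hk d)
  have o : dt (lf (x ^ j)⁻¹ * θ) = y := by
    rw [dt_lin _ (irr_char hθ) (char_one_eq (irr_char hθ)), inv_pow, pow_right_comm, hj, e, inv_mul_cancel_left]
  have y0 := hp.coprime_iff_not_dvd.1 hy.symm
  have hx : (x ^ j) ^ p ^ k = 1 := by rw [pow_right_comm, hk, one_pow]
  by_cases z : x ^ j = 1
  · rw [z, inv_one, map_one, one_mul] at o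
    exact .inl (o ▸ y0)
  refine .inr ⟨_, k, hx, z, .trans ?_ ((dvd_mul_right _ _).trans (h.dvd hN hθ))⟩
  have := In_mul (l := x ^ j) (irr_lin hθ (x ^ j)⁻¹) (cop_ord hp hx (by rw [deg_lin, o]; exact hp.not_dvd_mul d y0))
  rw [← mul_assoc, ← map_mul, mul_inv_cancel, map_one, one_mul] at this
  exact Subgroup.index_dvd_of_le (this.trans_le inf_le_left)

theorem Ov.mul (h : Ov θ a) (hN : N ≤ commutator G) (hθ : IsIrrCharacter N θ) (l1 : nn l ≠ 1)
    (c : (charDegree θ * orderOf (dt θ)).Coprime (orderOf l)) :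
    ∃ b ∈ relCharDegrees N, Ov (lf l * θ) b ∧ nn l ∣ b ∧ (In θ).index * charDegree θ ∣ b := by
  have key : ∀ b, Ov (lf l * θ) b → nn l ∣ b ∧ (In θ).index * charDegree θ ∣ b := fun b hb => by
    have := hb.dvd hN (irr_lin hθ l)
    rw [In_mul hθ c, deg_lin] at this
    exact ⟨((Subgroup.index_dvd_of_le inf_le_left).mul_right _).trans this,
      (mul_dvd_mul_right (Subgroup.index_dvd_of_le inf_le_right) _).trans this⟩
  obtain ⟨b, hb⟩ := exists_ov (irr_lin hθ l)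
  exact ⟨b, hb.mem (irr_lin hθ l) fun z => l1 (Nat.dvd_one.1 (key 1 (z ▸ ov_one)).1), hb, key b hb⟩

theorem Ov.att (h : Ov θ a) (hN : N ≤ commutator G) (hp : p.Prime) (nc : NC p N) (hθ : IsIrrCharacter N θ) (θ1 : θ ≠ 1)
    (h0 : ¬ p ∣ a) (o : ¬ p ∣ orderOf (dt θ)) (hl : l ^ p ^ k = 1) (l1 : l ≠ 1) :
    ∃ b ∈ relCharDegrees N, ¬ a.Coprime b ∧ nn l ∣ b := by
  obtain ⟨b, hb, b1, b2, b3⟩ := h.mul hN hθ (nc.ne hl l1)
    (cop_ord hp hl (hp.not_dvd_mul (fun z => h0 ((z.mul_left _).trans (h.dvd hN hθ))) o))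
  refine ⟨b, hb, ?_, b2⟩
  by_cases z : (In θ).index * charDegree θ = 1
  swap
  · exact not_cop (h.dvd hN hθ) b3 z
  obtain ⟨e, rfl, he⟩ := h.det hN hθ
  obtain ⟨e', rfl, he'⟩ := b1.det hN (irr_lin hθ l)
  have i := Nat.eq_one_of_mul_eq_one_right z
  have q := eq_lin hθ (Nat.eq_one_of_mul_eq_one_left z)
  rw [dl_inv i] at he
  rw [q, mul_comm (lf l), shift (irr_lf l) (by simp [← q, i]) (by simp [← q, i]), nc.dl hl, mul_one, ← pow_mul] at he'
  have dv : In (lf l * θ) ≤ In (lf l) := fun g hg => lin_cancel (dt θ) (by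
    have := (isNE_subtype N).mem_inertia.1 hg
    rwa [q, mul_comm, cjf_lin, mem_In.1 (q ▸ (Subgroup.index_eq_one.1 i).ge trivial)] at this)
  rw [deg_lf, mul_one, mul_comm] at he'
  exact fun c => θ1 (q.trans (by rw [eq_one_of_pow he he' ((c.coprime_dvd_left (dvd_mul_right _ _)).coprime_dvd_right
    (mul_dvd_mul_left _ ((Subgroup.index_dvd_of_le dv).mul_right _))), map_one]))

theorem NC.pair (nc : NC p N) (hp : p.Prime) (hl : l ^ p ^ k = 1) (hm : m ^ p ^ j = 1) (l1 : l ≠ 1) (h0 : ¬ p ∣ nn m)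
    (c : (nn m).Coprime (nn l)) : ¬ (nn (l * m)).Coprime (nn l) := fun c' => by
  have := shift (irr_lf m) c (map_mul lf l m ▸ c')
  rw [← map_mul, nc.dl (k := k + j) (by
    rw [mul_pow, pow_add, pow_mul, hl, mul_comm (p ^ k), pow_mul, hm, one_pow, one_pow, one_mul]), nc.dl hm, mul_one,
    deg_lf, mul_one] at this
  exact l1 (eq_one_of_pow this.symm (pow_orderOf_eq_one l) (cop_ord hp hl h0))

/-- distance at most two -/
def R2 (N : Subgroup G) (a c : ℕ) : Prop := ∃ b ∈ relCharDegrees N, ¬ a.Coprime b ∧ ¬ b.Coprime c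

theorem R2.symm (h : R2 N a c) : R2 N c a :=
  have ⟨b, h1, h2, h3⟩ := h
  ⟨b, h1, mt Nat.Coprime.symm h3, mt Nat.Coprime.symm h2⟩

theorem Ov.r2 (h : Ov θ a) (h' : Ov φ c) (hN : N ≤ commutator G) (hp : p.Prime) (nc : NC p N) (hθ : IsIrrCharacter N θ)
    (hφ : IsIrrCharacter N φ) (θ1 : θ ≠ 1) (φ1 : φ ≠ 1) (h0 : ¬ p ∣ a) (h1 : ¬ p ∣ c) (o : p ∣ orderOf (dt θ)) :
    R2 N a c := by
  obtain ⟨l, k, hl, l1, la⟩ := (h.typ hN hp hθ h0).resolve_left (not_not.2 o)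
  rcases h'.typ hN hp hφ h1 with o' | ⟨m, j, hm, m1, mc⟩
  · obtain ⟨b, hb, b1, b2⟩ := h'.att hN hp nc hφ φ1 h1 o' hl l1
    exact ⟨b, hb, not_cop la b2 (nc.ne hl l1), mt Nat.Coprime.symm b1⟩
  by_cases z : (nn m).Coprime (nn l)
  · have p1 := nc.pair hp hl hm l1 (fun y => h1 (y.trans mc)) z
    have p2 := nc.pair hp hm hl m1 (fun y => h0 (y.trans la)) z.symm
    obtain ⟨b, hb⟩ := exists_ov (irr_lf (l * m))
    have d := (dvd_mul_right _ _).trans (hb.dvd hN (irr_lf _))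
    refine ⟨b, hb.mem (irr_lf _) fun y => p1 ?_, fun y => p1 ((y.coprime_dvd_left la).coprime_dvd_right d).symm,
      fun y => p2 (mul_comm l m ▸ (y.coprime_dvd_left d).coprime_dvd_right mc)⟩
    rw [nn, y, Subgroup.index_eq_one.2 (top_le_iff.1 fun _ _ => rfl)]
    exact Nat.coprime_one_left _
  · exact ⟨a, h.mem hθ θ1, not_cop la la (nc.ne hl l1), fun y => z ((y.coprime_dvd_left la).coprime_dvd_right mc).symm⟩

theorem der_sub (N : Subgroup G) : ⁅N, N⁆.subgroupOf N = commutator N := by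
  rw [← Subgroup.map_subtype_commutator, Subgroup.subgroupOf, Subgroup.comap_map_eq_self_of_injective N.subtype_injective]

theorem ord_dvd (l : Lin N) : orderOf l ∣ ⁅N, N⁆.relIndex N := by
  rw [Subgroup.relIndex, der_sub]
  refine orderOf_dvd_of_pow_eq_one (MonoidHom.ext fun x => ?_)
  exact (map_pow (show N →* ℂˣ from l) x _).symm.trans
    (Abelianization.commutator_subset_ker _ (Subgroup.pow_index_mem _ x))

theorem exists_plin (hp : p.Prime) (h : p ∣ ⁅N, N⁆.relIndex N) : ∃ (l : Lin N) (k : ℕ), l ^ p ^ k = 1 ∧ l ≠ 1 := by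
  rw [Subgroup.relIndex, der_sub] at h
  haveI := Fact.mk hp
  obtain ⟨x, hx⟩ := exists_prime_orderOf_dvd_card' (G := Abelianization N) p h
  have x1 : x ∉ (⊥ : Subgroup _) := fun e => hp.one_lt.ne' (by rw [← hx, Subgroup.mem_bot.1 e, orderOf_one])
  obtain ⟨μ, -, e, -⟩ := exists_lin_ne_one mul_comm ⊥ x1 x1
  obtain ⟨x, rfl⟩ := QuotientGroup.mk_surjective x
  obtain ⟨u, v, -, -, e', ⟨k, hk⟩, hv⟩ := H4.exists_part_decomp (G := Lin N) p (μ.comp Abelianization.of)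
  refine ⟨u, k, hk, fun z => e (orderOf_eq_one_iff.1 (Nat.eq_one_of_dvd_coprimes hv (orderOf_dvd_of_pow_eq_one ?_)
    (hx ▸ orderOf_map_dvd μ _)))⟩
  rw [z, one_mul] at e'
  exact DFunLike.congr_fun (F := N →* ℂˣ)
    (e' ▸ pow_orderOf_eq_one v : (show Lin N from μ.comp Abelianization.of) ^ orderOf v = 1) x

theorem exists_att (hN : N ≤ commutator G) (hp : p.Prime) (nc : NC p N) (h : p ∣ ⁅N, N⁆.relIndex N)
    (ha : a ∈ relCharDegrees N) (h0 : ¬ p ∣ a) :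
    ∃ (l : Lin N) (k : ℕ), l ^ p ^ k = 1 ∧ l ≠ 1 ∧ ∃ b ∈ relCharDegrees N, ¬ a.Coprime b ∧ nn l ∣ b := by
  obtain ⟨θ, hθ, θ1, t⟩ := exists_under ha
  rcases t.typ hN hp hθ h0 with o | ⟨l, k, hl, l1, la⟩
  · obtain ⟨l, k, hl, l1⟩ := exists_plin hp h
    exact ⟨l, k, hl, l1, t.att hN hp nc hθ θ1 h0 o hl l1⟩
  · exact ⟨l, k, hl, l1, a, ha, not_cop la la (nc.ne hl l1), la⟩

/-- the graph -/
abbrev Gr (N : Subgroup G) : SimpleGraph (relCharDegrees N) := commonDivisorGraph.induce (relCharDegrees N)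

theorem adj {u v : relCharDegrees N} (e : u ≠ v) (h : ¬ u.1.Coprime v.1) : (Gr N).Adj u v := by
  refine ⟨fun z => e (Subtype.ext z), Nat.one_lt_iff_ne_zero_and_ne_one.2 ⟨fun z => ?_, h⟩⟩
  obtain ⟨χ, -, e⟩ := u.2
  exact (irr_degree_pos χ.2).ne' (e.trans (Nat.eq_zero_of_gcd_eq_zero_left z))

theorem rch (u v : relCharDegrees N) (h : ¬ u.1.Coprime v.1) : (Gr N).Reachable u v := by
  by_cases e : u = v
  · rw [e]
  exact (adj e h).reachable

theorem R2.rch {u v : relCharDegrees N} (h : R2 N u v) : (Gr N).Reachable u v :=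
  have ⟨b, h1, h2, h3⟩ := h
  (DG.rch u ⟨b, h1⟩ h2).trans (DG.rch _ v h3)

theorem rch_of_not_nc (hN : N ≤ commutator G) (hp : p.Prime) (h : ¬ NC p N) (u v : relCharDegrees N) :
    (Gr N).Reachable u v := by
  simp only [NC, not_forall] at h
  obtain ⟨l, k, hl, hi, l1⟩ := h
  have : ∀ u : relCharDegrees N, ∃ w : relCharDegrees N, p ∣ w ∧ (Gr N).Reachable u w := fun u => by
    by_cases z : p ∣ u
    · exact ⟨u, z, .rfl⟩
    obtain ⟨b, hb, b1, b2⟩ := central hN hp hl l1 hi u.2 z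
    exact ⟨⟨b, hb⟩, b1, rch _ _ b2⟩
  obtain ⟨w, h1, h2⟩ := this u
  obtain ⟨w', h3, h4⟩ := this v
  exact (h2.trans (rch _ _ (not_cop h1 h3 hp.ne_one))).trans h4.symm

theorem rch_side (hN : N ≤ commutator G) (hp : p.Prime) (h : p ∣ ⁅N, N⁆.relIndex N) (u v : relCharDegrees N)
    (e : p ∣ u ↔ p ∣ v) : (Gr N).Reachable u v := by
  by_cases z : p ∣ u
  · exact rch _ _ (not_cop z (e.1 z) hp.ne_one)
  have z' := mt e.2 z
  by_cases nc : NC p N
  swap
  · exact rch_of_not_nc hN hp nc u v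
  obtain ⟨θ, hθ, θ1, t⟩ := exists_under u.2
  obtain ⟨φ, hφ, φ1, s⟩ := exists_under v.2
  by_cases o : p ∣ orderOf (dt θ)
  · exact (t.r2 s hN hp nc hθ hφ θ1 φ1 z z' o).rch
  by_cases o' : p ∣ orderOf (dt φ)
  · exact (s.r2 t hN hp nc hφ hθ φ1 θ1 z' z o').symm.rch
  obtain ⟨l, k, hl, l1⟩ := exists_plin hp h
  obtain ⟨b, hb, b1, b2⟩ := t.att hN hp nc hθ θ1 z o hl l1
  obtain ⟨c, hc, c1, c2⟩ := s.att hN hp nc hφ φ1 z' o' hl l1
  exact ((rch u ⟨b, hb⟩ b1).trans (rch _ ⟨c, hc⟩ (not_cop b2 c2 (nc.ne hl l1)))).trans (rch v _ c1).symm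

theorem sides (hN : N ≤ commutator G) {u v : relCharDegrees N} (h : ¬ (Gr N).Reachable u v) (hp : p.Prime)
    (hm : p ∣ ⁅N, N⁆.relIndex N) (hu : p ∣ u) {q : ℕ} (hq : q.Prime) (hm' : q ∣ ⁅N, N⁆.relIndex N) :
    q ∣ u ∧ ¬ q ∣ v := by
  have s : ∀ {q : ℕ}, q.Prime → q ∣ ⁅N, N⁆.relIndex N → q ∣ u → ¬ q ∣ v := fun hq hm a b =>
    h (rch_side hN hq hm u v (iff_of_true a b))
  suffices q ∣ u from ⟨this, s hq hm' this⟩
  by_contra z
  have nc : ∀ {q : ℕ}, q.Prime → NC q N := fun hq => by_contra fun y => h (rch_of_not_nc hN hq y u v)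
  obtain ⟨l, k, hl, l1, b, hb, b1, b2⟩ := exists_att hN hp (nc hp) hm v.2 (s hp hm hu)
  obtain ⟨m, j, hm, m1, c, hc, c1, c2⟩ := exists_att hN hq (nc hq) hm' u.2 z
  obtain ⟨_, t⟩ := exists_ov (irr_lf m)
  obtain ⟨d, hd, -, d1, d2⟩ := t.mul hN (irr_lf m) ((nc hp).ne hl l1) (cop_ord hp hl (by
    rw [deg_lf, dt_lf, one_mul]
    exact fun y => z (((Nat.prime_dvd_prime_iff_eq hp hq).1 (hp.dvd_of_dvd_pow
      (y.trans (orderOf_dvd_of_pow_eq_one hm)))) ▸ hu)))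
  exact h (((rch u ⟨c, hc⟩ c1).trans (rch _ ⟨d, hd⟩ (not_cop c2 ((dvd_mul_right _ _).trans d2) ((nc hq).ne hm m1)))).trans
    ((rch v ⟨b, hb⟩ b1).trans (rch _ _ (not_cop b2 d1 ((nc hp).ne hl l1)))).symm)

theorem sides' (hN : N ≤ commutator G) {u v : relCharDegrees N} (h : ¬ (Gr N).Reachable u v) (hp : p.Prime)
    (hm : p ∣ ⁅N, N⁆.relIndex N) (hu : p ∣ u) :
    v.1.Coprime (⁅N, N⁆.relIndex N) ∧ ∀ r : ℕ, r.Prime → r ∣ ⁅N, N⁆.relIndex N → r ∣ u :=
  ⟨Nat.coprime_of_dvd fun _ hq a b => (sides hN h hp hm hu hq b).2 a, fun _ hq b => (sides hN h hp hm hu hq b).1⟩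

theorem exists_p (h : ⁅N, N⁆ < N) : ∃ p : ℕ, p.Prime ∧ p ∣ ⁅N, N⁆.relIndex N :=
  Nat.exists_prime_and_dvd (mt Subgroup.relIndex_eq_one.1 h.not_ge)

theorem Ov.mem' (h : Ov θ a) (hθ : IsIrrCharacter N θ) (h1 : charDegree θ ≠ 1) : a ∈ relCharDegrees ⁅N, N⁆ := by
  obtain ⟨χ, hχ, k, rfl⟩ := h
  refine ⟨⟨χ, hχ⟩, by_contra fun z => h1 ((deg_eq_one_iff hθ).2 ((der_sub N).ge.trans (le_trans (fun x hx => ?_)
    (charKer_le_of_ip (char_comp N.subtype (irr_char hχ)) hθ k)))), rfl⟩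
  push Not at z
  exact (H6.mem_charKer_iff (char_comp N.subtype (irr_char hχ))).2 (z x hx)

theorem rel_mono {M : Subgroup G} (h : M ≤ N) : relCharDegrees M ⊆ relCharDegrees N :=
  fun _ ⟨χ, ⟨x, hx, e⟩, d⟩ => ⟨χ, ⟨x, h hx, e⟩, d⟩

theorem ne_bot (h : a ∈ relCharDegrees N) : N ≠ ⊥ := by
  obtain ⟨χ, ⟨x, hx, e⟩, -⟩ := h
  rintro rfl
  exact e (by rw [Subgroup.mem_bot.1 hx])

theorem der_lt [Group.IsSolvable N] (h : N ≠ ⊥) : ⁅N, N⁆ < N := by
  haveI := (Subgroup.nontrivial_iff_ne_bot N).2 h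
  refine lt_of_le_of_ne (Subgroup.commutator_le_left _ _) fun e =>
    (Group.IsSolvable.commutator_lt_top_of_nontrivial N).ne ?_
  rw [← der_sub, e, Subgroup.subgroupOf_self]

theorem r2_of_rch : ∀ (n : ℕ) (N : Subgroup G) [N.Normal] [Group.IsSolvable N], Nat.card N = n → N ≤ commutator G →
    ∀ w u v, ¬ (Gr N).Reachable w u → ¬ (Gr N).Reachable w v → R2 N u v := by
  intro n
  induction n using Nat.strong_induction_on with
  | _ n ih =>
  intro N _ _ hn hN w u v hu hv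
  have lt := der_lt (ne_bot w.2)
  obtain ⟨p, hp, hm⟩ := exists_p lt
  have s1 := mt (rch_side hN hp hm w u) hu
  have s2 := mt (rch_side hN hp hm w v) hv
  by_cases z : p ∣ u
  · have z' : p ∣ v := by tauto
    exact ⟨u, u.2, not_cop z z hp.ne_one, not_cop z z' hp.ne_one⟩
  have pw : p ∣ w := by tauto
  have cu := (sides' hN hu hp hm pw).1
  have cv := (sides' hN hv hp hm pw).1
  have nc : ∀ {q : ℕ}, q.Prime → NC q N := fun hq => by_contra fun y => hu (rch_of_not_nc hN hq y w u)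
  obtain ⟨θ, hθ, θ1, t⟩ := exists_under u.2
  obtain ⟨φ, hφ, φ1, s⟩ := exists_under v.2
  have nd : ∀ {q a : ℕ} {l : Lin N}, q.Prime → q ∣ orderOf l → a.Coprime (⁅N, N⁆.relIndex N) → ¬ q ∣ a :=
    fun hq h c y => not_cop y (h.trans (ord_dvd _)) hq.ne_one c
  by_cases o : dt θ = 1
  swap
  · obtain ⟨q, hq, h⟩ := Nat.exists_prime_and_dvd (mt orderOf_eq_one_iff.1 o)
    exact t.r2 s hN hq (nc hq) hθ hφ θ1 φ1 (nd hq h cu) (nd hq h cv) h
  by_cases o' : dt φ = 1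
  swap
  · obtain ⟨q, hq, h⟩ := Nat.exists_prime_and_dvd (mt orderOf_eq_one_iff.1 o')
    exact (s.r2 t hN hq (nc hq) hφ hθ φ1 θ1 (nd hq h cv) (nd hq h cu) h).symm
  have d1 : charDegree θ ≠ 1 := fun y => θ1 (by rw [eq_lin hθ y, o, map_one])
  have d2 : charDegree φ ≠ 1 := fun y => φ1 (by rw [eq_lin hφ y, o', map_one])
  obtain ⟨ψ, hψ, ψ1, r⟩ := exists_under w.2
  have d3 : charDegree ψ ≠ 1 := fun y => by
    rw [eq_lin hψ y] at r ψ1
    generalize dt ψ = l at r ψ1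
    have l1 : nn l ≠ 1 := fun y => by
      obtain ⟨q, hq, j, h⟩ := Nat.exists_prime_and_dvd (mt orderOf_eq_one_iff.1 fun y : l = 1 => ψ1 (y ▸ map_one _))
      have := nc hq (l ^ j) 1 (by rw [pow_one, ← pow_mul, mul_comm, ← h, pow_orderOf_eq_one]) fun g => by
        rw [map_pow, mem_In.1 ((Subgroup.index_eq_one.1 y).ge trivial)]
      have := Nat.le_of_dvd (Nat.pos_of_mul_pos_left (h ▸ orderOf_pos l)) (orderOf_dvd_of_pow_eq_one this)
      have := hq.one_lt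
      have := orderOf_pos l
      nlinarith
    have dv := (dvd_mul_left _ _).trans (t.dvd hN hθ)
    obtain ⟨b, hb, -, b1, b2⟩ := t.mul hN hθ l1 (by
      rw [o, orderOf_one, mul_one]; exact (cu.coprime_dvd_left dv).coprime_dvd_right (ord_dvd l))
    exact hu ((rch w ⟨b, hb⟩ (not_cop ((dvd_mul_right _ _).trans (r.dvd hN (irr_lf l))) b1 l1)).trans
      (rch _ u (not_cop ((dvd_mul_left _ _).trans b2) dv d1)))
  haveI : Group.IsSolvable ↥⁅N, N⁆ := Group.isSolvable_of_isSolvable_injective (Subgroup.inclusion_injective lt.le)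
  have m : ∀ {x y : relCharDegrees ⁅N, N⁆}, (Gr _).Reachable x y →
      (Gr N).Reachable ⟨x, rel_mono lt.le x.2⟩ ⟨y, rel_mono lt.le y.2⟩ :=
    fun h => h.map (SimpleGraph.induceHomOfLE _ (rel_mono lt.le)).toHom
  obtain ⟨b, hb, h⟩ := ih _ (hn ▸ H2.card_lt_of_lt lt) ⁅N, N⁆ rfl (lt.le.trans hN) ⟨w, r.mem' hψ d3⟩
    ⟨u, t.mem' hθ d1⟩ ⟨v, s.mem' hφ d2⟩ (mt m hu) (mt m hv)
  exact ⟨b, rel_mono lt.le hb, h⟩

end Cfsg.Agent.H8.DG
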