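import Mathlib
import Cfsg.Agent.H9.TwoCl
import Cfsg.Agent.H6.Frobenius

/-!
Groups with three class sizes, I: tools.
-/

set_option autoImplicit false
set_option linter.unusedSectionVars false
set_option linter.unusedVariables false

namespace Cfsg.Agent.H8.Ito

open Cfsg Subgroup Cfsg.Agent.FT Cfsg.Agent.H28 Cfsg.Agent.H9.TC
open scoped commutatorElement

variable {G : Type*} [Group G] [Finite G] {C D H K S B U : Subgroup G} {p q r s t : ℕ} {x y w : G}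

/-- `H` has a noncentral `r`-element -/
def NC (r : ℕ) (H : Subgroup G) : Prop := ∃ y ∈ H, PiElt {r} y ∧ y ∉ center G

theorem NC.mono (h : NC r H) (e : H ≤ K) : NC r K := let ⟨y, a, b⟩ := h; ⟨y, e a, b⟩

theorem le_nrm_of_normal (H K : Subgroup G) [K.Normal] : H ≤ N(K) := le_top.trans (normalizer_eq_top _).ge

theorem nc_iff (hr : r.Prime) : NC r H ↔ r ∣ (center G).relIndex H :=
  ⟨fun ⟨y, a, b, c⟩ => dvd_relIndex_of_pElt (le_nrm_of_normal _ _) a b c hr, exists_pElt_not_mem hr⟩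

theorem NC.of_index (hr : r.Prime) (h : NC r C[x]) (e : C[x].index = C[y].index) : NC r C[y] := by
  rw [nc_iff hr] at h ⊢
  have a1 := relIndex_mul_index (center_le_cen1 x)
  rw [← relIndex_mul_index (center_le_cen1 y), e] at a1
  rwa [← Nat.eq_of_mul_eq_mul_right (cs_pos y) a1]

theorem comm_of_center {π : Set ℕ} {a u : G} (ha : PiElt π a) (hu : PiElt πᶜ u) (h : ⁅a, u⁆ ∈ center G) :
    a * u = u * a := by
  have e : a * u * a⁻¹ * u⁻¹ ∈ center G := h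
  have e1 : (a * u * a⁻¹) * u⁻¹ = u⁻¹ * (a * u * a⁻¹) := by
    have := mem_center_iff.1 e u
    calc _ = u⁻¹ * (u * (a * u * a⁻¹ * u⁻¹)) := by group
      _ = _ := by rw [this]; group
  have e2 : a * (u * a⁻¹ * u⁻¹) = (u * a⁻¹ * u⁻¹) * a := by
    have := mem_center_iff.1 e a⁻¹
    calc _ = a * (a⁻¹ * (a * u * a⁻¹ * u⁻¹)) := by group
      _ = a * (a * u * a⁻¹ * u⁻¹ * a⁻¹) := by rw [this]
      _ = a * (u * a⁻¹ * u⁻¹) := by
        have := mem_center_iff.1 e a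
        calc _ = a * (a * u * a⁻¹ * u⁻¹) * a⁻¹ := by group
          _ = _ := by rw [this]; group
      _ = a⁻¹ * (a * (a * u * a⁻¹ * u⁻¹)) := by group
      _ = _ := by rw [mem_center_iff.1 e a]; group
  have e3 := (ha.mul (ha.inv.conj u) e2).eq_one (by
    have := (hu.conj a).mul hu.inv e1
    rwa [show a * u * a⁻¹ * u⁻¹ = a * (u * a⁻¹ * u⁻¹) by group] at this)
  calc a * u = a * (u * a⁻¹ * u⁻¹) * (u * a) := by group
    _ = _ := by rw [e3, one_mul]

theorem norm_cen1 (h : ∀ g ∈ S, ⁅w, g⁆ ∈ center G) : S ≤ N(C[w]) := fun g hg =>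
  mem_normalizer_fintype fun y hy => by
    have e := mem_center_iff.1 (h g⁻¹ (inv_mem hg)) y
    rw [SetLike.mem_coe, mem_cen1] at hy ⊢
    rw [commutatorElement_def, inv_inv] at e
    have e1 : g⁻¹ * w⁻¹ * g * y = y * (g⁻¹ * w⁻¹ * g) := by
      calc _ = w⁻¹ * (w * g⁻¹ * w⁻¹ * g * y) := by group
        _ = w⁻¹ * (y * w) * (g⁻¹ * w⁻¹ * g) := by rw [← e]; group
        _ = _ := by rw [hy]; group
    calc _ = w * g * (g⁻¹ * w⁻¹ * g * y) * g⁻¹ * w := by group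
      _ = _ := by rw [e1]; group

/-- a noncentral element of an `s`-group, central modulo the centre -/
theorem exists_zbar (hS : PGrp s S) (h : ¬ S ≤ center G) :
    ∃ w ∈ S, w ∉ center G ∧ (∀ g ∈ S, ⁅w, g⁆ ∈ center G) ∧ S ≤ N(C[w]) :=
  let ⟨w, a, b, c⟩ := hS.nil.exists_comm_mem (Nml.refl S) h
  ⟨w, a, b, fun g hg => (c g hg).1, norm_cen1 fun g hg => (c g hg).1⟩

/-- the `s`-elements of `C` are central in `C`, the noncentral ones have centralizer `C` -/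
structure Gd (C : Subgroup G) (s : ℕ) : Prop where
  prime : s.Prime
  nc : NC s C
  le : ∀ b ∈ C, PiElt {s} b → C ≤ C[b]
  cen : ∀ b ∈ C, PiElt {s} b → b ∉ center G → C[b] ≤ C

theorem Gd.good (h : Gd C s) (hS : Syl s S C) : Good C s S := by
  have a1 : C ≤ C(S) := centsC fun b hb => le_cen1.1 (h.le b (hS.le hb) (hS.pi.piElt hb))
  obtain ⟨y, a, b, c⟩ := h.nc
  exact ⟨h.prime, hS.pi, a1, hS.le, hS.norms_of_nml (cents_norm a1) le_rfl,
    fun e => c (e (hS.mem_of_cen a b (a1 a))), fun b hb => h.cen b (hS.le hb) (hS.pi.piElt hb)⟩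

theorem Gd.elt (h : Gd C s) (hd : s ∣ C.index) : ∃ g ∈ N(C), g ∉ C ∧ PiElt {s} g := by
  obtain ⟨S, hS⟩ := exists_syl s C
  refine exists_nrm (N := ⊤) h.prime hS hd ?_
  rw [inf_top_eq]
  exact le_antisymm (h.good hS).cen_le (h.good hS).le

theorem Gd.false (h1 : Gd C q) (h2 : Gd C r) (hne : q ≠ r) (d1 : q ∣ C.index) (d2 : r ∣ C.index) : False :=
  let ⟨_, a⟩ := exists_syl q C
  let ⟨_, b⟩ := exists_syl r C
  (h1.good a).false (h2.good b) hne (h1.elt d1) (h2.elt d2)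

/-- `Gd` inside the subgroup `D` -/
structure GdR (D C : Subgroup G) (s : ℕ) : Prop where
  prime : s.Prime
  sub : C ≤ D
  nc : ∃ y ∈ C, PiElt {s} y ∧ ¬ D ≤ C[y]
  le : ∀ b ∈ C, PiElt {s} b → C ≤ C[b]
  cen : ∀ b ∈ C, PiElt {s} b → ¬ D ≤ C[b] → D ⊓ C[b] ≤ C

theorem mem_center_sub {y : D} : y ∈ center D ↔ D ≤ C[(y : G)] :=
  ⟨fun h g hg => mem_cen1.2 (congrArg Subtype.val (mem_center_iff.1 h ⟨g, hg⟩)),
    fun h => mem_center_iff.2 fun g => Subtype.ext (mem_cen1.1 (h g.2))⟩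

theorem piElt_coe {π : Set ℕ} {y : D} : PiElt π y ↔ PiElt π (y : G) := by rw [PiElt, PiElt, Subgroup.orderOf_coe]

theorem GdR.gd (h : GdR D C s) : Gd (C.subgroupOf D) s := by
  obtain ⟨y, a, b, c⟩ := h.nc
  refine ⟨h.prime, ⟨⟨y, h.sub a⟩, a, piElt_coe.2 b, fun e => c (mem_center_sub.1 e)⟩, fun b hb hs g hg => ?_,
    fun b hb hs hz g hg => ?_⟩
  · exact mem_cen1.2 (Subtype.ext (mem_cen1.1 (h.le b hb (piElt_coe.1 hs) hg)))
  · exact h.cen b hb (piElt_coe.1 hs) (mt mem_center_sub.2 hz)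
      ⟨g.2, mem_cen1.2 (congrArg Subtype.val (mem_cen1.1 hg))⟩

theorem GdR.elt (h : GdR D C s) (hd : s ∣ C.relIndex D) : ∃ g ∈ D ⊓ N(C), g ∉ C ∧ PiElt {s} g := by
  obtain ⟨g, a, b, c⟩ := h.gd.elt hd
  rw [← so_nrm h.sub] at a
  exact ⟨g, ⟨g.2, a⟩, b, piElt_coe.1 c⟩

theorem GdR.false (h1 : GdR D C q) (h2 : GdR D C r) (hne : q ≠ r) (d1 : q ∣ C.relIndex D)
    (d2 : r ∣ C.relIndex D) : False := h1.gd.false h2.gd hne d1 d2

theorem card_conj_union (T : Subgroup G) (h : ¬ N(T) ≤ T) :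
    2 * (⋃ g : G, ((cj g T : Set G) \ {1})).ncard + 2 ≤ Nat.card G := by
  classical
  haveI := Fintype.ofFinite G
  have e : (⋃ g : G, ((cj g T : Set G) \ {1})) = ⋃ c : G ⧸ N(T), ((cj c.out T : Set G) \ {1}) := by
    refine le_antisymm (Set.iUnion_subset fun g => ?_) (Set.iUnion_subset fun c => Set.subset_iUnion
      (fun g : G => ((cj g T : Set G) \ {1})) c.out)
    obtain ⟨n, hn⟩ := QuotientGroup.mk_out_eq_mul N(T) g
    refine Set.subset_iUnion_of_subset (g : G ⧸ N(T)) ?_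
    rw [hn, ← cj_cj, cj_of_mem_nrm n.2]
  haveI := Fintype.ofFinite (G ⧸ N(T))
  have a1 : (⋃ c : G ⧸ N(T), ((cj c.out T : Set G) \ {1})).ncard ≤ N(T).index * (#T - 1) := by
    refine (Set.ncard_iUnion_le_of_fintype _).trans (le_of_eq ?_)
    rw [Finset.sum_congr rfl (g := fun _ => #T - 1) fun c _ => by
      rw [Set.ncard_sdiff_singleton_of_mem (one_mem _), ← card_cj c.out T]; rfl]
    simp [index_eq_card]
  have a2 : 2 * #T ≤ #N(T) := by
    have := card_mul_relIndex (le_nrm T)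
    have h2 : 1 < T.relIndex N(T) := one_lt_relIndex h
    nlinarith
  have a3 := N(T).card_mul_index
  have a4 := index_pos' N(T)
  have a5 := card_pos T
  rw [e]
  obtain ⟨k, hk⟩ : ∃ k, #T = k + 1 := ⟨#T - 1, by omega⟩
  rw [hk] at a1 a2
  simp only [Nat.add_sub_cancel] at a1
  nlinarith

theorem cnt {T U : Subgroup G} (h : ∀ x : G, ∃ g, x ∈ cj g T ∨ x ∈ cj g U) : N(T) ≤ T ∨ N(U) ≤ U := by
  by_contra! hc
  have a1 := card_conj_union T hc.1
  have a2 := card_conj_union U hc.2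
  have a3 : (Set.univ : Set G) ⊆ insert 1 ((⋃ g : G, ((cj g T : Set G) \ {1})) ∪ ⋃ g : G, ((cj g U : Set G) \ {1})) := by
    intro x _
    by_cases e : x = 1
    · exact Or.inl e
    obtain ⟨g, hg | hg⟩ := h x
    · exact Or.inr (Or.inl (Set.mem_iUnion.2 ⟨g, hg, e⟩))
    · exact Or.inr (Or.inr (Set.mem_iUnion.2 ⟨g, hg, e⟩))
  have a4 := (Set.ncard_le_ncard a3).trans ((Set.ncard_insert_le _ _).trans
    (Nat.add_le_add_right (Set.ncard_union_le _ _) 1))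
  rw [Set.ncard_univ] at a4
  omega

theorem sol_of_index (hp : p.Prime) (hq : q.Prime) [K.Normal] (hK : Sol K) (h : PiNat {p, q} K.index) :
    Group.IsSolvable G := by
  have a0 := (index_pos' K).ne'
  obtain ⟨a, ha⟩ := (piNat_partn {p} K.index).exists_pow (partn_pos _ _).ne'
  obtain ⟨b, hb⟩ := PiNat.exists_pow (p := q) (n := partn {p}ᶜ K.index) (fun r hr hd =>
    (h r hr (hd.trans (partn_dvd _ _))).resolve_left (piNat_partn _ _ r hr hd)) (partn_pos _ _).ne'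
  haveI : Group.IsSolvable (G ⧸ K) := H6.isSolvable_of_card_dvd hp hq (a := a) (b := b) (by
    rw [← ha, ← hb, partn_mul_compl _ a0, index_eq_card])
  haveI := hK
  exact Group.isSolvable_of_ker_le_range K.subtype (QuotientGroup.mk' K) (by simp)

/-- `N(C)/C` has a nontrivial normal subgroup of prime power order -/
theorem exists_nml' (hs : s ≠ 2) (hB : PGrp s B) (hab : Ab B) (le : C ≤ C(B)) (nrm : N(C) ≤ N(B))
    (nc : ¬ B ≤ center G) (cen : ∀ g ∈ N(C), g ∉ C → PiElt {2} g → ∀ b ∈ B, g * b = b * g → b ∈ center G)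
    (hne : C < N(C)) : ∃ t U, C < U ∧ U ⊴ N(C) ∧ PiNat {t} (C.relIndex U) := by
  have key : ∀ (t : ℕ) (V : Subgroup (Quo C)), V ≠ ⊥ → ⊤ ≤ N(V) → PGrp t V →
      ∃ t U, C < U ∧ U ⊴ N(C) ∧ PiNat {t} (C.relIndex U) := fun t V h1 h2 h3 =>
    ⟨t, qpre(C, V), (le_qpre V).lt_of_ne fun e => h1 (le_bot_iff.1 (qpre_le_qpre.1
      (e.ge.trans (qpre_bot C).ge))), ⟨qpre_le V, norms_qpre le_rfl (le_top.trans h2)⟩,
      (relIndex_qpre_self V).symm ▸ h3⟩
  have key2 : ∀ L, C < L → L ⊴ N(C) → ¬ 2 ∣ C.relIndex L →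
      ∃ t U, C < U ∧ U ⊴ N(C) ∧ PiNat {t} (C.relIndex U) := fun L h1 h2 h3 => by
    obtain ⟨V, h4, hV⟩ := exists_minNml (M := ⊤) (quo_ne_bot h2.le h1.not_ge) (quo_nrm C ▸ pmap_norms _ h2.nrm)
    rw [← card_quo h2.le] at h3
    obtain ⟨t, ht, h5⟩ := hV.abelem (odd_order_solvable (Nat.not_even_iff_odd.1 fun e =>
      h3 (e.two_dvd.trans (card_dvd_of_le h4))))
    exact key t V hV.ne hV.nrm (h5.pGrp ht)
  by_cases he : 2 ∣ C.relIndex N(C)
  swap
  · exact key2 _ hne (Nml.refl _) he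
  have hK : C ≤ N(C) ⊓ Kz B := le_inf (le_nrm C) fun g hg b hb => by
    rw [← le hg b hb]; simp
  rcases hK.lt_or_eq with h1 | h1
  · refine key2 _ h1 ⟨inf_le_left, normsI (le_nrm _) (nrm.trans (nrm_Kz B))⟩ fun e => ?_
    obtain ⟨x, hx, x1, x2⟩ := exists_pElt_not_mem Nat.prime_two e
    exact nc fun b hb => cen x hx.1 x2 x1 b hb (comm_of_center x1 ((hB.piElt hb).pi hs) (hx.2 b hb))
  haveI := Fact.mk Nat.prime_two
  rw [← card_quo le_rfl, quo_nrm, card_top] at he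
  obtain ⟨u, hu⟩ := exists_prime_orderOf_dvd_card' 2 he
  have h2 : ∀ x ∈ N(C), orderOf coset(C, x) = 2 → ∀ b ∈ B, x * b * x⁻¹ * b ∈ center G := by
    intro x hx e b hb
    have a1 : x * b * x⁻¹ ∈ B := (mem_normalizer_iff.1 (nrm hx) b).1 hb
    have a2 : x ^ 2 ∈ C := by rw [← coset_eq_one_iff (pow_mem hx 2), coset_pow hx, ← e, pow_orderOf_eq_one]
    have a3 : constt {2}ᶜ x ∈ C := (piElt_constt _ x).mem_of_pow_mem (n := 2)
      (by rw [compl_compl]; exact (pnat_iff Nat.prime_two two_ne_zero).2 ⟨1, rfl⟩)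
      (constt_pow _ x 2 ▸ constt_mem _ a2)
    refine cen (constt {2} x) (constt_mem _ hx) (fun a4 => ?_) (piElt_constt _ x) _ (mul_mem a1 hb)
      (mem_cen1.1 (constt_mem _ (mem_cen1.2 ?_)))
    · rw [coset_of_mem (mem_of_constt_mem _ a4 a3), orderOf_one] at e
      exact absurd e (by decide)
    · have a4 := le a2 b hb
      have a5 := ab_iff_forall.1 hab _ a1 b hb
      calc _ = x ^ 2 * b * x⁻¹ * b := by rw [sq]; group
        _ = b * (x * b * x⁻¹) * x := by rw [← a4, sq]; group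
        _ = _ := by rw [← a5]
  refine key 2 ⟪u⟫ (fun e => ?_) (fun v _ => ?_) (pGrp_of_card_prime Nat.prime_two (by rw [Nat.card_zpowers, hu]))
  · rw [zpowers_eq_bot.1 e, orderOf_one] at hu
    exact absurd hu (by decide)
  · refine norms_zpowers_of_cen1 le_rfl (mem_cen1.2 ?_)
    obtain ⟨x, hx, rfl⟩ := exists_coset u
    obtain ⟨g, hg, rfl⟩ := exists_coset v
    have a0 : g * x * g⁻¹ ∈ N(C) := mul_mem (mul_mem hg hx) (inv_mem hg)
    have a1 : g * x * g⁻¹ * x⁻¹ ∈ C := h1.ge ⟨N(C).mul_mem a0 (N(C).inv_mem hx), fun b hb => by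
      have a2 := (mem_normalizer_iff''.1 (nrm hx) b).1 hb
      convert mul_mem (h2 _ a0 (by rw [coset_conj hg hx, ← hu]; exact (MulAut.conj _).orderOf_eq _) _ a2)
        (inv_mem (h2 x hx hu _ a2)) using 1
      group⟩
    rw [← coset_eq_one_iff (mul_mem a0 (inv_mem hx)), coset_mul a0 (inv_mem hx), coset_conj hg hx,
      coset_inv hx] at a1
    rw [← mul_inv_eq_one, ← a1]; group

end Cfsg.Agent.H8.Ito
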