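import Mathlib
import Cfsg.Agent.H8.Ito1
import Cfsg.Agent.H5.Frob
import Cfsg.Agent.H1.KW
import Cfsg.Agent.H27.Kazarin

/-!
Groups with three class sizes, II: no proper inclusion between centralizers.
-/

set_option autoImplicit false
set_option linter.unusedSectionVars false
set_option linter.unusedVariables false

namespace Cfsg.Agent.H8.Ito

open Cfsg Subgroup Cfsg.Agent.FT Cfsg.Agent.H28 Cfsg.Agent.H9.TC
open scoped commutatorElement Pointwise

variable {G : Type*} [Group G] [Finite G] {T D H K S B U : Subgroup G} {m n p q r s t : ℕ} {b x y w : G}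

local notation "mk" => QuotientGroup.mk' (center G)

theorem ab_center' : Ab (center G) := ab_iff.2 (center_le_cen' _)

theorem mk_eq_one : mk x = 1 ↔ x ∈ center G := QuotientGroup.eq_one_iff x

theorem sol_of_center (h : Group.IsSolvable (G ⧸ center G)) : Group.IsSolvable G :=
  haveI : Sol (center G) := ab_center'.sol
  Group.isSolvable_of_ker_le_range (center G).subtype mk (by simp)

theorem exists_part (hx : x ∉ center G) : ∃ t : ℕ, t.Prime ∧ constt {t} x ∉ center G := by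
  by_contra! hc
  exact hx (mem_of_forall_constt fun p hp _ => hc p hp)

theorem not_center_of_le (hx : x ∉ center G) (h : C[y] ≤ C[x]) : y ∉ center G := fun e =>
  hx (cen1_eq_top_iff.1 (eq_top_iff.2 ((cen1_eq_top_iff.2 e).ge.trans h)))

theorem conj_not_center (g : G) (hx : x ∉ center G) : g * x * g⁻¹ ∉ center G := fun e =>
  hx (by simpa [mul_assoc] using Normal.conj_mem inferInstance _ e g⁻¹)

theorem nc_of_dvd (hr : r.Prime) (h : r ∣ C[x].index) : NC r (⊤ : Subgroup G) := by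
  obtain ⟨y, -, a, b⟩ := exists_pElt_not_mem (H := ⊤) hr (relIndex_top_right C[x] ▸ h)
  exact ⟨y, trivial, a, fun e => b (center_le_cen1 x e)⟩

/-- `T` is abelian and the centralizer of each of its noncentral elements -/
structure CA (T : Subgroup G) : Prop where
  ab : Ab T
  z : center G ≤ T
  cen : ∀ b ∈ T, b ∉ center G → C[b] = T

theorem CA.gd (h : CA T) (hs : s.Prime) (hn : NC s T) : Gd T s :=
  ⟨hs, hn, fun b hb _ => h.ab.le_cen1 hb, fun b hb _ hz => (h.cen b hb hz).le⟩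

theorem CA.conj (h : CA T) (hr : r.Prime) (hd : ¬ r ∣ T.index) (hb : PiElt {r} b) (hz : b ∉ center G) :
    ∃ g, cj g C[b] = T := by
  obtain ⟨P, hP, hle⟩ := exists_syl_le_of_not_dvd hr hd
  obtain ⟨g, -, hg⟩ := hP.syl_elt (mem_top b) hb
  exact ⟨g, (cj_cen1 g b).trans (h.cen _ (hle hg) (conj_not_center g hz))⟩

theorem CA.sol_pow (hab : Ab T) (h : PiNat {p} T.index) : Group.IsSolvable G := by
  obtain ⟨P, hP⟩ := exists_syl p (⊤ : Subgroup G)
  exact sol_top.1 (H1.kegel_wielandt (hP.mulEq_of_relIndex le_top (relIndex_top_right T ▸ h)) hP.pi.nil hab.nil)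

theorem CA.sol (h : CA T) (h1 : ¬ T ≤ center G) (h2 : T ≠ ⊤) (h3 : N(T) ≤ T) : Group.IsSolvable G := by
  have e : ∀ g : G, mk g ∈ T.map mk ↔ g ∈ T := fun g => by
    rw [← mem_comap, comap_map_eq, QuotientGroup.ker_mk', sup_eq_left.2 h.z]
  obtain ⟨K, -, hK, hF⟩ := H5b.exists_frob_of_compl (H := T.map mk) ⟨fun a => h1 fun g hg =>
    mk_eq_one.1 (mem_bot.1 (a ▸ (e g).2 hg)), fun a => h2 (eq_top_iff.2 fun g _ => (e g).1 (a ▸ mem_top _)),
    fun g hg => eq_bot_iff.2 fun u hu => by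
      obtain ⟨g, rfl⟩ := QuotientGroup.mk'_surjective _ g
      obtain ⟨u, rfl⟩ := QuotientGroup.mk'_surjective _ u
      have a1 := H1.mem_conj_smul_iff.1 hu.2
      rw [← map_inv, ← map_mul, ← map_mul, e] at a1
      by_contra hz
      have a2 : u ∉ center G := fun a => hz (mem_bot.2 (mk_eq_one.2 a))
      refine hg ((e g).2 (inv_mem_iff.1 (h3 (cj_eq_self.1 ?_))))
      conv_lhs => rw [← h.cen u ((e u).1 hu.1) a2, cj_cen1]
      exact h.cen _ (by simpa using a1) (conj_not_center _ a2)⟩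
  exact sol_of_center (sol_top.1 (H1.kegel_wielandt hF.sd.mulEq (H5b.frob_ker_nil hF) (h.ab.map _).nil))

/-- no proper inclusion between centralizers of noncentral elements -/
def FG (G : Type*) [Group G] : Prop := ∀ x y : G, x ∉ center G → y ∉ center G → C[x] ≤ C[y] → C[x] = C[y]

theorem FG.eq (h : FG G) (hne : p ≠ q) (hx : PiElt {p} x) (hy : PiElt {q} y) (zx : x ∉ center G) (zy : y ∉ center G)
    (e : y ∈ C[x]) : C[x] = C[y] := by
  have a1 := cen1_mul_pi hx (hy.pi (π := {p}ᶜ) hne.symm) (mem_cen1.1 e).symm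
  have a2 := not_center_of_le zx (a1.le.trans inf_le_left)
  exact (h _ _ a2 zx (a1.le.trans inf_le_left)).symm.trans (h _ _ a2 zy (a1.le.trans inf_le_right))

def Big (x : G) : Prop := x ∉ center G ∧ ∃ p q : ℕ, p.Prime ∧ q.Prime ∧ p ≠ q ∧ NC p C[x] ∧ NC q C[x]

theorem Big.of_index (h : Big x) (e : C[x].index = C[y].index) : Big y :=
  let ⟨a, p, q, hp, hq, hne, b, c⟩ := h
  ⟨fun z => a (cs_eq_one.1 (e.trans (cs_eq_one.2 z))), p, q, hp, hq, hne, b.of_index hp e, c.of_index hq e⟩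

theorem Big.other (h : Big x) (t : ℕ) : ∃ q : ℕ, q.Prime ∧ q ≠ t ∧ NC q C[x] := by
  obtain ⟨a, p, q, hp, hq, hne, b, c⟩ := h
  by_cases e : p = t
  · exact ⟨q, hq, e ▸ hne.symm, c⟩
  · exact ⟨p, hp, e, b⟩

theorem FG.ca (h : FG G) (hx : Big x) : CA C[x] := by
  obtain ⟨t, ht, zt⟩ := exists_part hx.1
  obtain ⟨q, hq, hne, y, a, b, c⟩ := hx.other t
  have e := h _ _ hx.1 zt (cen1_le_cen1_constt _ x)
  have e' := h.eq hne.symm (piElt_constt _ x) b zt c (e ▸ a)
  have a1 : Ab C[x] := ab_iff.2 (le_of_forall_pElt fun u hu z hz hz' => le_cen1.1 (by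
    by_cases zz : z ∈ center G
    · exact le_top.trans (cen1_eq_top_iff.2 zz).ge
    by_cases eu : u = t
    · exact (e.trans (e'.trans (h.eq (eu ▸ hne) b hz' c zz (e' ▸ e ▸ hz)))).le
    · exact (e.trans (h.eq (Ne.symm eu) (piElt_constt _ x) hz' zt zz (e ▸ hz))).le))
  exact ⟨a1, center_le_cen1 x, fun b hb hz => (h _ _ hx.1 hz (a1.le_cen1 hb)).symm⟩

theorem FG.conj (h : FG G) (hx : Big x) (e : C[x].index = C[y].index) : ∃ g, cj g C[x] = C[y] := by
  obtain ⟨r, hr, ⟨b, b1, b2, b3⟩, hd⟩ : ∃ r : ℕ, r.Prime ∧ NC r C[x] ∧ ¬ r ∣ C[x].index := by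
    by_contra! hc
    obtain ⟨a, p, q, hp, hq, hne, b, c⟩ := id hx
    exact ((h.ca hx).gd hp b).false ((h.ca hx).gd hq c) hne (hc p hp b) (hc q hq c)
  rw [← (h.ca hx).cen b b1 b3]
  exact (h.ca (hx.of_index e)).conj hr (e ▸ hd) b2 b3

theorem FG.sol_two (h : FG G) (hx : Big x) (hy : Big y)
    (hc : ∀ z : G, z ∉ center G → C[z].index = C[x].index ∨ C[z].index = C[y].index) : Group.IsSolvable G := by
  have key : ∀ x : G, Big x → N(C[x]) ≤ C[x] → Group.IsSolvable G := fun x hx e =>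
    (h.ca hx).sol (fun a => hx.1 (a (self_mem_cen1 x))) (mt cen1_eq_top_iff.1 hx.1) e
  refine (cnt fun z => ?_).elim (key x hx) (key y hy)
  by_cases hz : z ∈ center G
  · exact ⟨1, Or.inl ((cj_one _).ge (center_le_cen1 x hz))⟩
  rcases hc z hz with e | e
  · obtain ⟨g, hg⟩ := h.conj hx e.symm
    exact ⟨g, Or.inl (hg.ge (self_mem_cen1 z))⟩
  · obtain ⟨g, hg⟩ := h.conj hy e.symm
    exact ⟨g, Or.inr (hg.ge (self_mem_cen1 z))⟩

theorem part_of_mk {V : Subgroup (G ⧸ center G)} (hV : PGrp r V) (hx : mk x ∈ V) : mk (constt {r} x) = mk x := by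
  rw [constt_map, (hV.piElt hx).constt_eq]

theorem FG.sol_one (h : FG G) (hx : Big x) (hp : p.Prime)
    (hc : ∀ z : G, z ∉ center G → C[z].index ≠ C[x].index → ∀ r : ℕ, r.Prime → NC r C[z] → r = p) :
    Group.IsSolvable G := by
  have h1 : ∀ r : ℕ, r.Prime → r ≠ p → ∀ b : G, PiElt {r} b → b ∉ center G → C[x].index = C[b].index :=
    fun r hr hne b hb hz => by_contra fun e => hne (hc b hz (Ne.symm e) r hr ⟨b, self_mem_cen1 b, hb, hz⟩)
  have h2 : ∀ r : ℕ, r.Prime → r ≠ p → r ∣ C[x].index → Gd C[x] r := fun r hr hne hd =>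
    let ⟨b, _, a, c⟩ := nc_of_dvd hr hd
    (h.ca hx).gd hr (NC.of_index hr ⟨b, self_mem_cen1 b, a, c⟩ (h1 r hr hne b a c).symm)
  by_cases e : PiNat {p} C[x].index
  · exact CA.sol_pow (h.ca hx).ab e
  obtain ⟨s, hs, hd, hsp⟩ : ∃ s : ℕ, s.Prime ∧ s ∣ C[x].index ∧ s ≠ p := by
    by_contra! hc; exact e hc
  have h3 : PiNat {p, s} C[x].index := fun r hr hd' => by
    by_contra hc
    rw [Set.mem_insert_iff, Set.mem_singleton_iff, not_or] at hc
    exact (h2 r hr hc.1 hd').false (h2 s hs hsp hd) hc.2 hd' hd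
  by_cases e' : PiNat {s} C[x].index
  · exact CA.sol_pow (h.ca hx).ab e'
  have h4 : ¬ NC p C[x] := fun a => e' fun r hr hd' => (h3 r hr hd').resolve_left fun (b : r = p) =>
    ((h.ca hx).gd hp a).false (h2 s hs hsp hd) hsp.symm (b ▸ hd') hd
  obtain ⟨S, hS⟩ := exists_syl s (⊤ : Subgroup G)
  obtain ⟨w, w1, w2, w3, -⟩ := exists_zbar hS.pi fun a =>
    not_dvd_index_of_syl_le hs hS (a.trans (center_le_cen1 x)) hd
  have w4 := h1 s hs hsp w (hS.pi.piElt w1) w2
  obtain ⟨g, g1, g2⟩ := SetLike.not_le_iff_exists.1 fun a : S ≤ C[w] => not_dvd_index_of_syl_le hs hS a (w4 ▸ hd)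
  have c1 : ∀ a b : G, mk a * mk b = mk b * mk a ↔ ⁅a, b⁆ ∈ center G := fun a b => by
    rw [← mk_eq_one, map_commutatorElement, commutatorElement_eq_one_iff_mul_comm]
  have k1 : PiNat {p} C[mk w].index := by
    rw [← index_comap_of_surjective _ (QuotientGroup.mk'_surjective (center G))]
    intro r hr hd'
    have b1 : C[w] ≤ C[mk w].comap mk := fun a ha => mem_comap.2 (mem_cen1.2 (by
      rw [← map_mul, mem_cen1.1 ha, map_mul]))
    have b2 : S ≤ C[mk w].comap mk := fun a ha => mem_comap.2 (mem_cen1.2 ((c1 w a).2 (w3 a ha)).symm)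
    refine (h3 r hr (hd'.trans ?_)).resolve_right fun (b : r = s) => not_dvd_index_of_syl_le hs hS b2 (b ▸ hd')
    rw [w4]; exact index_dvd_of_le b1
  obtain ⟨k, hk⟩ := k1.exists_pow (cs_pos _).ne'
  obtain ⟨V, V1, hV⟩ := exists_minNml (K := normalClosure {mk w}) (M := ⊤) (fun a => w2 (mk_eq_one.1
    (mem_bot.1 (a ▸ subset_normalClosure rfl)))) (le_nrm_of_normal _ _)
  obtain ⟨r, hr, hV'⟩ := hV.abelem (H1.isSolvable_of_le V1 (H27.kazarin hp hk.dvd))
  have hVr := hV'.pGrp hr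
  haveI : V.Normal := normalizer_eq_top_iff.1 (eq_top_iff.2 hV.nrm)
  have lift : ∀ u ∈ V, u ≠ 1 → ∃ v : G, mk v = u ∧ PiElt {r} v ∧ v ∉ center G := fun u hu u1 => by
    obtain ⟨v, rfl⟩ := QuotientGroup.mk'_surjective _ u
    exact ⟨_, part_of_mk hVr hu, piElt_constt _ v, fun a => u1 ((part_of_mk hVr hu).symm.trans (mk_eq_one.2 a))⟩
  by_cases hrp : r = p
  · subst hrp
    have a1 : ⟪mk w⟫ ⊔ ⟪mk g⟫ ≤ S.map mk :=
      sup_le (zpowers_le.2 (mem_map_of_mem _ w1)) (zpowers_le.2 (mem_map_of_mem _ g1))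
    refine absurd (le_bot_iff.1 (coprime_abelian_gen_cent1 (A := ⟪mk w⟫ ⊔ ⟪mk g⟫) ((ab_zpowers _).sup (ab_zpowers _)
      (by rw [cen_zpowers, zpowers_le]; exact mem_cen1.2 ((c1 w g).2 (w3 g g1)).symm)) (fun a => ?_)
      (le_nrm_of_normal _ _) (hVr.cop_of_ne ((hS.pi.map _).mono a1) hsp.symm) fun a ha a2 u hu => ?_)) hV.ne
    · obtain ⟨a, ea⟩ := cyc_iff.1 a
      obtain ⟨a, rfl⟩ := QuotientGroup.mk'_surjective _ a
      obtain ⟨i, hi⟩ := ea.le (mem_sup_left (mem_zpowers _))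
      obtain ⟨j, hj⟩ := ea.le (mem_sup_right (mem_zpowers _))
      simp only [← map_zpow] at hi hj
      rw [← cen1_eq_of_mk_eq hi] at g2
      refine g2 (cen1_le_cen1_of_mem_zpowers (zpow_mem_zpowers a i) (cen1_comm.1 ?_))
      rw [← cen1_eq_of_mk_eq hj]
      exact cen1_le_cen1_of_mem_zpowers (zpow_mem_zpowers a j) (self_mem_cen1 a)
    · by_contra u1
      obtain ⟨v, rfl, v1, v2⟩ := lift u hu.1 u1
      obtain ⟨a, a3, rfl⟩ := a1 ha
      have a4 := hS.pi.piElt a3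
      exact h4 (NC.of_index hr ⟨v, mem_cen1.2 (comm_of_center v1 (a4.pi hsp) ((c1 v a).1 (mem_cen1.1 hu.2))), v1, v2⟩
        (h1 s hs hsp a a4 fun z => a2 (mk_eq_one.2 z)).symm)
  obtain ⟨u, hu, u1⟩ := exists_ne_one hV.ne
  obtain ⟨v, rfl, v1, v2⟩ := lift u hu u1
  have v3 := h1 r hr hrp v v1 v2
  have hT := h.ca (hx.of_index v3)
  obtain ⟨q, hq, hqr, b, b1, b2, b3⟩ := (hx.of_index v3).other r
  have a1 : V.comap mk ≤ N(C[v]) := norm_cen1 fun a ha => (c1 v a).1 (hV'.ab.comm hu ha)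
  haveI : C[v].Normal := normalizer_eq_top_iff.1 (eq_top_iff.2 fun z _ => cj_eq_self.1 (by
    have a2 : mk (z * v * z⁻¹) ∈ V := by rw [map_mul, map_mul, map_inv]; exact Normal.conj_mem inferInstance _ hu _
    have a3 := (mem_normalizer_iff.1 (a1 a2) b).1 b1
    have a4 : mk ⁅z * v * z⁻¹, b⁆ ∈ V := by
      rw [map_commutatorElement, commutatorElement_def, mul_assoc, mul_assoc, ← mul_assoc (mk b)]
      exact mul_mem a2 (Normal.conj_mem inferInstance _ (inv_mem a2) _)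
    have a5 : PiElt {q} ⁅z * v * z⁻¹, b⁆ := (b2.conj _).mul b2.inv (hT.ab.comm a3 (inv_mem b1))
    have a6 := comm_of_center (v1.conj z) (b2.pi hqr) (mk_eq_one.1 ((part_of_mk hVr a4).symm.trans (by
      rw [(a5.pi (π := {r}ᶜ) hqr).constt_eq_one, map_one])))
    rw [cj_cen1]
    exact hT.cen _ ((hT.cen b b1 b3).le (mem_cen1.2 a6)) (conj_not_center z v2)))
  exact sol_of_index hp hs hT.ab.sol (v3 ▸ h3)

/-- two sizes of noncentral classes, at least three primes -/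
structure T3 (G : Type*) [Group G] (m n : ℕ) : Prop where
  cs : ∀ x : G, x ∉ center G → C[x].index = m ∨ C[x].index = n
  three : ∀ p q : ℕ, p.Prime → q.Prime → ∃ r : ℕ, r.Prime ∧ r ≠ p ∧ r ≠ q ∧ NC r (⊤ : Subgroup G)

theorem T3.sol_fg (H : T3 G m n) (h : FG G) : Group.IsSolvable G := by
  obtain ⟨x, hx⟩ : ∃ x : G, Big x := by
    obtain ⟨p, hp, -, -, a, -, a1, a2⟩ := H.three 2 2 Nat.prime_two Nat.prime_two
    obtain ⟨q, hq, hqp, -, b, -, b1, b2⟩ := H.three p p hp hp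
    obtain ⟨r, hr, hrp, hrq, c, -, c1, c2⟩ := H.three p q hp hq
    have key : ∀ (p q : ℕ) (a b : G), p.Prime → q.Prime → p ≠ q → PiElt {p} a → PiElt {q} b → a ∉ center G →
        b ∉ center G → C[a].index = C[b].index → ∃ x : G, Big x := fun p q a b hp hq hne a1 b1 a2 b2 e =>
      ⟨b, b2, p, q, hp, hq, hne, NC.of_index hp ⟨a, self_mem_cen1 a, a1, a2⟩ e, b, self_mem_cen1 b, b1, b2⟩
    have := H.cs a a2
    have := H.cs b b2
    have := H.cs c c2
    by_cases e : C[a].index = C[b].index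
    · exact key p q a b hp hq hqp.symm a1 b1 a2 b2 e
    by_cases e : C[a].index = C[c].index
    · exact key p r a c hp hr hrp.symm a1 c1 a2 c2 e
    · exact key q r b c hq hr hrq.symm b1 c1 b2 c2 (by omega)
  by_cases e : ∃ y : G, y ∉ center G ∧ C[y].index ≠ C[x].index
  swap
  · exact h.sol_one hx Nat.prime_two fun z hz hne => absurd ⟨z, hz, hne⟩ e
  obtain ⟨y, hy, hne⟩ := e
  have a1 : ∀ z : G, z ∉ center G → C[z].index = C[x].index ∨ C[z].index = C[y].index := fun z hz => by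
    have := H.cs x hx.1
    have := H.cs y hy
    have := H.cs z hz
    omega
  by_cases hb : Big y
  · exact h.sol_two hx hb a1
  obtain ⟨p, hp, zp⟩ := exists_part hy
  exact h.sol_one hx hp fun z hz hne' r hr hn => by_contra fun e => hb ⟨hy, r, p, hr, hp, e,
    hn.of_index hr ((a1 z hz).resolve_left hne'), _, constt_mem _ (self_mem_cen1 y), piElt_constt _ y, zp⟩

end Cfsg.Agent.H8.Ito
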