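import Mathlib
import Cfsg.Agent.H8.Ito2

/-!
Groups with three class sizes, III: one centralizer properly contains another.
-/

set_option autoImplicit false
set_option linter.unusedSectionVars false
set_option linter.unusedVariables false

namespace Cfsg.Agent.H8.Ito

open Cfsg Subgroup Cfsg.Agent.FT Cfsg.Agent.H28 Cfsg.Agent.H9.TC
open scoped commutatorElement Pointwise

variable {G : Type*} [Group G] [Finite G] {C D : Subgroup G} {m k p q r s t : ℕ} {b f u v w x y : G} {π : Set ℕ}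

theorem cen1_of_part (h : constt π x ∈ center G) : C[constt πᶜ x] = C[x] := by
  rw [← cen1_constt_inf π x, cen1_eq_top_iff.2 h, top_inf_eq]

theorem idx_le {A B : Subgroup G} (h : A ≤ B) : B.index ≤ A.index := Nat.le_of_dvd (index_pos' A) (index_dvd_of_le h)

/-- class sizes `1, m, k m` with an inclusion of centralizers -/
structure NF (G : Type*) [Group G] (m k : ℕ) : Prop where
  cs : ∀ x : G, x ∉ center G → C[x].index = m ∨ C[x].index = k * m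
  lt : m < k * m
  ex : ∃ x y : G, C[x].index = k * m ∧ C[y].index = m ∧ y ∉ center G ∧ C[x] ≤ C[y]

namespace NF

theorem m1 (H : NF G m k) : 1 < m := let ⟨_, _, _, a, b, _⟩ := H.ex; a ▸ one_lt_cs b

theorem k1 (H : NF G m k) : 1 < k := by
  by_contra e
  have := H.lt
  have : k * m ≤ 1 * m := Nat.mul_le_mul_right m (by omega)
  omega

theorem nz (H : NF G m k) (h : C[x].index = m ∨ C[x].index = k * m) : x ∉ center G := fun e => by
  have := cs_eq_one.2 e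
  have := H.m1
  have := H.lt
  omega

theorem eqI (H : NF G m k) (hx : C[x].index = m) (hy : y ∉ center G) (h : C[x] ≤ C[y]) : C[x] = C[y] :=
  eq_of_le_of_index_le h (by have := H.cs y hy; have := H.lt; omega)

theorem eqII (H : NF G m k) (hy : C[y].index = k * m) (h : C[x] ≤ C[y]) : C[x] = C[y] :=
  eq_of_le_of_index_le h (by have := H.cs x (not_center_of_le (H.nz (Or.inr hy)) h); have := H.lt; omega)

theorem pn (H : NF G m k) (hr : r.Prime) (h : NC r (⊤ : Subgroup G)) : r ∣ k * m := by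
  obtain ⟨y, -, a, b⟩ := h
  by_contra e
  refine b (mem_center_of_pElt hr (fun x hx => ?_) a)
  by_cases z : x ∈ center G
  · exact hr.one_lt.ne' (Nat.dvd_one.1 (cs_eq_one.2 z ▸ hx))
  rcases H.cs x z with c | c <;> rw [c] at hx
  · exact e (hx.mul_left k)
  · exact e hx

theorem rel (H : NF G m k) (h : C ≤ D) (hC : C.index = k * m) (hD : D.index = m) : C.relIndex D = k := by
  have := relIndex_mul_index h
  rw [hC, hD] at this
  exact Nat.eq_of_mul_eq_mul_right (by have := H.m1; omega) this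

theorem cenII (H : NF G m k) (hx : PiElt π x) (e : C[x].index = k * m) (hy : PiElt πᶜ y) (h : y ∈ C[x]) :
    C[x] ≤ C[y] := by
  have a := cen1_mul_pi hx hy (mem_cen1.1 h).symm
  exact (H.eqII e (a.le.trans inf_le_left)).ge.trans (a.le.trans inf_le_right)

end NF

/-- `C` is a small centralizer -/
def II (n : ℕ) (C : Subgroup G) : Prop := ∃ z, C = C[z] ∧ C[z].index = n

theorem II.idx {n : ℕ} (h : II n C) : C.index = n := let ⟨_, a, b⟩ := h; a ▸ b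

theorem II.z {n : ℕ} (h : II n C) : center G ≤ C := let ⟨z, a, _⟩ := h; a ▸ center_le_cen1 z

namespace NF

theorem dich (H : NF G m k) (hx : PiElt π x) (z : x ∉ center G) (hy : PiElt πᶜ y) (h : y ∈ C[x]) :
    C[x] ≤ C[y] ∨ II (k * m) (C[x] ⊓ C[y]) := by
  have a := cen1_mul_pi hx hy (mem_cen1.1 h).symm
  exact (H.cs _ (not_center_of_le z (a.le.trans inf_le_left))).imp
    (fun e => (H.eqI e z (a.le.trans inf_le_left)).ge.trans (a.le.trans inf_le_right)) fun e => ⟨_, a.symm, e⟩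

theorem ncII (H : NF G m k) (hr : r.Prime) (h : NC r (⊤ : Subgroup G)) (hC : II (k * m) C) : NC r C := by
  obtain ⟨x, rfl, hx⟩ := hC
  by_contra e
  have a1 : ∀ C, II (k * m) C → ¬ NC r C := fun C ⟨z, a, c⟩ d => e (NC.of_index hr (a ▸ d) (c.trans hx.symm))
  have a2 : ∀ b, PiElt {r} b → b ∉ center G → C[b].index = m := fun b c d =>
    (H.cs b d).resolve_right fun a => a1 _ ⟨b, rfl, a⟩ ⟨b, self_mem_cen1 b, c, d⟩
  have a3 : ∀ b, PiElt {r} b → b ∉ center G → ∀ u ∈ C[b], PiElt {r}ᶜ u → C[b] ≤ C[u] := fun b c d u hu hu' =>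
    (H.dich c d hu' hu).resolve_right fun a => a1 _ a ⟨b, ⟨self_mem_cen1 b, cen1_comm.1 hu⟩, c, d⟩
  obtain ⟨x₀, y₀, hx₀, hy₀, z₀, hle⟩ := H.ex
  obtain ⟨b, b1, b2, b3⟩ : ∃ b, PiElt {r} b ∧ b ∉ center G ∧ C[y₀] = C[b] := by
    by_cases c : constt {r} y₀ ∈ center G
    · obtain ⟨b₀, -, c1, c2⟩ := h
      obtain ⟨b, d1, d2, d3⟩ := NC.of_index hr ⟨b₀, self_mem_cen1 b₀, c1, c2⟩ ((a2 b₀ c1 c2).trans hy₀.symm)
      exact ⟨b, d2, d3, (H.eqI (a2 b d2 d3) z₀ ((a3 b d2 d3 _ (constt_mem _ (cen1_comm.1 d1))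
        (piElt_constt _ _)).trans (cen1_of_part c).le)).symm⟩
    · exact ⟨_, piElt_constt _ _, c, H.eqI hy₀ c (cen1_le_cen1_constt _ _)⟩
  have a4 : constt {r} x₀ ∈ center G := by_contra fun c =>
    a1 _ ⟨x₀, rfl, hx₀⟩ ⟨_, constt_mem _ (self_mem_cen1 x₀), piElt_constt _ _, c⟩
  have := idx_le (b3.le.trans ((a3 b b1 b2 _ (constt_mem _ (b3.le (hle (self_mem_cen1 x₀))))
    (piElt_constt _ _)).trans (cen1_of_part a4).le))
  have := H.lt
  omega

theorem ncI (H : NF G m k) (hr : r.Prime) (h : NC r (⊤ : Subgroup G)) (hy : C[y].index = m) : NC r C[y] :=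
  let ⟨x₀, _, a, b, _, c⟩ := H.ex
  ((H.ncII hr h ⟨x₀, rfl, a⟩).mono c).of_index hr (b.trans hy.symm)

theorem nck (H : NF G m k) (hr : r.Prime) (h : r ∣ k) : NC r (⊤ : Subgroup G) :=
  let ⟨_, _, a, _⟩ := H.ex
  nc_of_dvd hr (a ▸ h.mul_right m)

theorem fpf (H : NF G m k) (hC : II (k * m) C) (hab : Ab C) (hr : r.Prime) (hd : ¬ r ∣ k) (h1 : f ∈ N(C))
    (h2 : PiElt {r} f) (hb : b ∈ C) (hz : b ∉ center G) (h : f ∈ C[b]) : f ∈ C := by
  have a := hab.le_cen1 hb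
  rcases H.cs b hz with e | e
  · by_contra c
    exact hd (H.rel a hC.idx e ▸ (dvd_relIndex_of_pElt (H := C[b] ⊓ N(C)) inf_le_right ⟨h, h1⟩ h2 c hr).trans
      (relIndex_dvd_of_le' (le_inf a (le_nrm C)) inf_le_left))
  · obtain ⟨z, rfl, -⟩ := hC
    exact (H.eqII e a).ge h

end NF

/-- at least three primes -/
structure N3 (G : Type*) [Group G] (m k : ℕ) : Prop extends NF G m k where
  three : ∀ p q : ℕ, p.Prime → q.Prime → ∃ r : ℕ, r.Prime ∧ r ≠ p ∧ r ≠ q ∧ NC r (⊤ : Subgroup G)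

namespace N3

theorem L1 (H : N3 G m k) (hy : C[y].index = m) (hk : PiNat {s} k)
    (h : ∀ t : ℕ, t.Prime → t ≠ s → ∀ b ∈ C[y], PiElt {t} b → C[y] ≤ C[b]) : False := by
  have hs := hk.prime_of_ne_one H.k1.ne'
  have key : ∀ t : ℕ, t.Prime → t ≠ s → NC t (⊤ : Subgroup G) → Gd C[y] t ∧ t ∣ C[y].index := fun t ht hne hn =>
    ⟨⟨ht, H.ncI ht hn hy, h t ht hne, fun b hb hb' hz => (H.eqI hy hz (h t ht hne b hb hb')).ge⟩,
      hy ▸ (ht.dvd_mul.1 (H.pn ht hn)).resolve_left fun e => hne (hk t ht e)⟩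
  obtain ⟨q, hq, q1, -, q2⟩ := H.three s s hs hs
  obtain ⟨r, hr, r1, r2, r3⟩ := H.three s q hs hq
  exact (key q hq q1 q2).1.false (key r hr r1 r3).1 r2.symm (key q hq q1 q2).2 (key r hr r1 r3).2

theorem abII (H : N3 G m k) (hC : II (k * m) C) : Ab C := by
  obtain ⟨x, rfl, hx⟩ := id hC
  by_contra hne
  have lt := H.lt
  have F : ∀ (π : Set ℕ) (z : G), PiElt π z → C[z] = C[x] → ∀ t ∉ π, ∀ b ∈ C[x], PiElt {t} b → C[x] ≤ C[b] :=
    fun π z hz e t ht b hb hb' => e ▸ H.cenII hz (e ▸ hx) (hb'.pi ht) (e ▸ hb)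
  obtain ⟨p, hp, sp⟩ : ∃ p : ℕ, p.Prime ∧ ¬ ∀ b ∈ C[x], PiElt {p} b → C[x] ≤ C[b] := by
    by_contra! hc
    exact hne (ab_iff.2 (le_of_forall_pElt fun t ht b hb hb' => le_cen1.1 (hc t ht b hb hb')))
  have I : ∀ p : ℕ, (¬ ∀ b ∈ C[x], PiElt {p} b → C[x] ≤ C[b]) → ∀ z, PiElt {p}ᶜ z → z ∉ center G → C[x] ≤ C[z] →
      C[z].index = m := fun p sp z hz hz' e =>
    (H.cs z hz').resolve_right fun a => sp (F _ z hz (H.eqII a e).symm p fun c => c rfl)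
  have J : ∀ p : ℕ, (¬ ∀ b ∈ C[x], PiElt {p} b → C[x] ≤ C[b]) → ∀ s t : ℕ, s ≠ p → t ≠ p → s ≠ t → ∀ u v : G,
      PiElt {s} u → PiElt {t} v → u ∉ center G → v ∉ center G → C[x] ≤ C[u] → C[x] ≤ C[v] → v ∈ C[u] →
      C[u] = C[v] := fun p sp s t h1 h2 h3 u v u1 v1 u2 v2 u3 v3 e => by
    have a := cen1_mul_pi u1 (v1.pi (π := {s}ᶜ) h3.symm) (mem_cen1.1 e).symm
    have c := I p sp _ ((u1.pi h1).mul (v1.pi h2) (mem_cen1.1 e).symm) (not_center_of_le u2 (a.le.trans inf_le_left))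
      (a ▸ le_inf u3 v3)
    exact (H.eqI c u2 (a.le.trans inf_le_left)).symm.trans (H.eqI c v2 (a.le.trans inf_le_right))
  have h1 : ∀ q : ℕ, q.Prime → q ≠ p → ∀ b ∈ C[x], PiElt {q} b → C[x] ≤ C[b] := fun q hq hqp => by
    by_contra sq
    have z : ∀ p : ℕ, (¬ ∀ b ∈ C[x], PiElt {p} b → C[x] ≤ C[b]) → constt {p} x ∉ center G := fun p sp c =>
      sp (F _ _ (piElt_constt _ x) (cen1_of_part c) p fun c => c rfl)
    have a1 : C[constt {p}ᶜ x] ≤ C[constt {q} x] := by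
      rw [← constt_constt_of_subset (π := {q}) (ρ := {p}ᶜ) (Set.singleton_subset_iff.2 hqp)]
      exact cen1_le_cen1_constt _ _
    have a2 := H.eqI (I p sp _ (piElt_constt _ x) (not_center_of_le (z q sq) a1) (cen1_le_cen1_constt _ _)) (z q sq) a1
    have a3 := cen1_constt_inf {p} x
    rw [a2] at a3
    obtain ⟨r, hr, r1, r2, r3⟩ := H.three p q hp hq
    obtain ⟨y, y1, y2, y3⟩ := H.ncII hr r3 hC
    have a4 := F {p, q} _ (((piElt_constt {p} x).pi (Or.inl rfl)).mul ((piElt_constt {q} x).pi (Or.inr rfl))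
      (constt_comm _ _ x)) ((cen1_mul_pi (piElt_constt {p} x) ((piElt_constt {q} x).pi hqp) (constt_comm _ _ x)).trans a3)
      r (fun c => c.elim r1 r2) y y1 y2
    have a5 := J q sq p r hqp.symm r2 r1.symm _ y (piElt_constt _ x) y2 (z p sp) y3 (cen1_le_cen1_constt _ _) a4
      (cen1_le_cen1_constt _ _ y1)
    have a6 := J p sp q r hqp r1 r2.symm _ y (piElt_constt _ x) y2 (z q sq) y3 (cen1_le_cen1_constt _ _) a4
      (cen1_le_cen1_constt _ _ y1)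
    rw [a5, a6, inf_idem] at a3
    have := I p sp y (y2.pi r1) y3 a4
    rw [a3] at this
    omega
  obtain ⟨q, hq, q1, -, q2⟩ := H.three p p hp hp
  obtain ⟨r, hr, r1, r2, r3⟩ := H.three p q hp hq
  obtain ⟨u, u1, u2, u3⟩ := H.ncII hq q2 hC
  obtain ⟨v, v1, v2, v3⟩ := H.ncII hr r3 hC
  have e := J p sp q r q1 r1 r2.symm u v u2 v2 u3 v3 (h1 q hq q1 u u1 u2) (h1 r hr r1 v v1 v2) (h1 q hq q1 u u1 u2 v1)
  have hle := h1 q hq q1 u u1 u2
  have hD := I p sp u (u2.pi q1) u3 hle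
  have h2 : ∀ t : ℕ, t.Prime → t ≠ p → ∀ b ∈ C[x], PiElt {t} b → C[u] ≤ C[b] := fun t ht hne b hb hb' => by
    by_cases z : b ∈ center G
    · exact le_top.trans (cen1_eq_top_iff.2 z).ge
    by_cases c : t = q
    · exact (e.trans (J p sp r t r1 hne (c ▸ r2) v b v2 hb' v3 z (e ▸ hle) (h1 t ht hne b hb hb') (e ▸ hle hb))).le
    · exact (J p sp q t q1 hne (Ne.symm c) u b u2 hb' u3 z hle (h1 t ht hne b hb hb') (hle hb)).le
  have h3 : ∀ t : ℕ, t.Prime → t ≠ p → ∀ w ∈ C[u], PiElt {t} w → w ∈ C[x] := fun t ht hne w hw hw' => by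
    obtain ⟨S, hS⟩ := exists_syl t C[x]
    have a1 : S ≤ C(C[u]) := fun b hb => le_cen1.1 (h2 t ht hne b (hS.le hb) (hS.pi.piElt hb))
    refine ((show C[u] ≤ C[w] ∨ II (k * m) (C[u] ⊓ C[w]) by
      by_cases c : t = q
      · rw [e]; exact H.dich v2 v3 (hw'.pi (c ▸ r2.symm)) (e ▸ hw)
      · exact H.dich u2 u3 (hw'.pi c) hw).elim (fun a => cen1_comm.1 (a (hle (self_mem_cen1 x)))) fun a => ?_)
    obtain ⟨T, hT, a2⟩ := (hS.pi.sup hw'.zpowers (cents_norm ((zpowers_le.2 hw).trans (centsC a1)))).exists_syl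
      (M := C[u] ⊓ C[w]) (sup_le (le_inf (hS.le.trans hle) (a1.trans (cen_le_cen1 hw)))
        (zpowers_le.2 ⟨hw, self_mem_cen1 w⟩))
    have a3 : #(C[u] ⊓ C[w] : Subgroup G) = #C[x] := by
      have e1 := (C[u] ⊓ C[w]).card_mul_index
      rw [← C[x].card_mul_index, a.idx, hx] at e1
      exact Nat.eq_of_mul_eq_mul_right (by omega) e1
    have a4 : S = T := eq_of_card_le (le_sup_left.trans a2) (by rw [hS.card_syl ht, hT.card_syl ht, a3])
    exact hS.le (a4.ge (a2 (mem_sup_right (mem_zpowers w))))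
  exact H.L1 hD (H.rel hle hx hD ▸ piNat_relIndex_of_forall (π := {p}) h3) fun t ht hne b hb hb' =>
    h2 t ht hne b (h3 t ht hne b hb hb') hb'

theorem onep (H : N3 G m k) (hu : C[u].index = m) (hne : ¬ Ab C[u]) (u1 : PiElt {q} u) (v1 : PiElt {r} v)
    (hqr : r ≠ q) (v2 : v ∉ center G) : ¬ C[u] ≤ C[v] := fun hle => by
  have u2 := H.nz (Or.inl hu)
  have e := H.eqI hu v2 hle
  have h1 : ∀ w : C[u], C[w].index = 1 ∨ C[w].index = k := fun w => by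
    refine (em _).imp cs_eq_one.2 fun z => ?_
    obtain ⟨t, ht, z'⟩ : ∃ t : ℕ, t.Prime ∧ ¬ C[u] ≤ C[constt {t} (w : G)] := by
      by_contra! hc
      exact z (mem_center_sub.2 (le_cen1.2 (mem_of_forall_constt fun t ht _ => le_cen1.1 (hc t ht))))
    have a1 : II (k * m) (C[u] ⊓ C[constt {t} (w : G)]) := Or.resolve_left (by
      by_cases c : t = q
      · have := H.dich v1 v2 ((piElt_constt {t} (w : G)).pi (c ▸ hqr.symm)) (constt_mem _ (e.le w.2))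
        rwa [← e] at this
      · exact H.dich u1 u2 ((piElt_constt _ _).pi c) (constt_mem _ w.2)) z'
    rw [← H.rel inf_le_left a1.idx hu]
    congr 1
    ext g
    exact ⟨fun a => ⟨g.2, cen1_le_cen1_constt _ _ (mem_cen1.2 (congrArg Subtype.val (mem_cen1.1 a)))⟩, fun a =>
      mem_cen1.2 (Subtype.ext ((H.abII a1).comm a ⟨w.2, cen1_le_cen1_constt _ _ (self_mem_cen1 _)⟩))⟩
  obtain ⟨s, hs, hd⟩ := Nat.exists_prime_and_dvd H.k1.ne'
  have h2 : PiNat {s} k := fun t ht hd' => ito_prime_eq h1 (by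
    by_contra! hc
    exact hne (ab_iff.2 fun w hw => le_cen1.1 (mem_center_sub.1 (hc ⟨w, hw⟩)))) ht hs hd' hd
  refine H.L1 hu h2 fun t ht hts b hb hb' => mem_center_sub.1 (mem_center_of_pElt (y := ⟨b, hb⟩) ht (fun w hw => ?_)
    (piElt_coe.2 hb'))
  rcases h1 w with c | c <;> rw [c] at hw
  · exact ht.one_lt.ne' (Nat.dvd_one.1 hw)
  · exact hts (h2 t ht hw)

theorem ii (H : N3 G m k) (hu : C[u].index = m) (hne : ¬ Ab C[u]) (u1 : PiElt {p} u) (htp : t ≠ p) (hw : w ∈ C[u])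
    (w1 : PiElt {t} w) (w2 : w ∉ center G) : II (k * m) (C[u] ⊓ C[w]) :=
  (H.dich u1 (H.nz (Or.inl hu)) (w1.pi htp) hw).resolve_left (H.onep hu hne u1 w1 htp w2)

theorem gdr (H : N3 G m k) (hu : C[u].index = m) (hne : ¬ Ab C[u]) (u1 : PiElt {p} u) (hC : II (k * m) C)
    (hle : C ≤ C[u]) (hq : q.Prime) (hqp : q ≠ p) (hn : NC q (⊤ : Subgroup G)) : GdR C[u] C q :=
  let ⟨y, a, b, c⟩ := H.ncII hq hn hC
  ⟨hq, hle, ⟨y, a, b, H.onep hu hne u1 b hqp c⟩, fun b hb _ => (H.abII hC).le_cen1 hb, fun b hb hb' hz =>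
    (eq_of_le_of_index_le (le_inf hle ((H.abII hC).le_cen1 hb)) (hC.idx.trans (H.ii hu hne u1 hqp (hle hb) hb'
      fun e => hz (le_top.trans (cen1_eq_top_iff.2 e).ge)).idx.symm).le).ge⟩

theorem two (H : N3 G m k) (hu : C[u].index = m) (hne : ¬ Ab C[u]) (u1 : PiElt {p} u) (hq : q.Prime) (hr : r.Prime)
    (hqp : q ≠ p) (hrp : r ≠ p) (dq : q ∣ k) (dr : r ∣ k) : q = r := by
  by_contra e
  obtain ⟨w, w1, w2, w3⟩ := H.ncI hq (H.nck hq dq) hu
  have hC := H.ii hu hne u1 hqp w1 w2 w3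
  have a := H.rel inf_le_left hC.idx hu
  exact (H.gdr hu hne u1 hC inf_le_left hq hqp (H.nck hq dq)).false
    (H.gdr hu hne u1 hC inf_le_left hr hrp (H.nck hr dr)) e (a ▸ dq) (a ▸ dr)

theorem nab (H : N3 G m k) (hu : C[u].index = m) (hC : II (k * m) C) (hle : C ≤ C[u]) : ¬ Ab C[u] := fun e => by
  obtain ⟨z, rfl, hz⟩ := hC
  have := idx_le (e.le_cen1 (hle (self_mem_cen1 z)))
  have := H.lt
  omega

theorem gdII (H : N3 G m k) (hC : II (k * m) C) (hr : r.Prime) (hn : NC r (⊤ : Subgroup G)) (hd : ¬ r ∣ k) :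
    Gd C r := by
  refine ⟨hr, H.ncII hr hn hC, fun b hb _ => (H.abII hC).le_cen1 hb, fun v hv v1 v2 => ?_⟩
  have hle := (H.abII hC).le_cen1 hv
  refine (H.cs v v2).elim (fun hu => False.elim ?_) fun e => by
    obtain ⟨z, rfl, -⟩ := hC
    exact (H.eqII e hle).ge
  have hne := H.nab hu hC hle
  obtain ⟨q, hq, dq⟩ := Nat.exists_prime_and_dvd H.k1.ne'
  have hqr : q ≠ r := fun e => hd (e ▸ dq)
  have hk : PiNat {q} k := fun t ht dt => H.two hu hne v1 ht hq (fun e => hd (e ▸ dt)) hqr dt dq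
  obtain ⟨Q, hQ⟩ := exists_syl q C[v]
  have a1 : ∀ C, II (k * m) C → C ≤ C[v] → ¬ Q ≤ C := fun C hC hle e =>
    (p'nat_iff hq).1 ((p'nat_relIndex_iff hle).2 ⟨Q, hQ, e⟩) (H.rel hle hC.idx hu ▸ dq)
  obtain ⟨w, w1, w2, -, w3⟩ := exists_zbar hQ.pi fun e => a1 C hC hle (e.trans hC.z)
  have hC1 := H.ii hu hne v1 hqr (hQ.le w1) (hQ.pi.piElt w1) w2
  have a2 := H.rel inf_le_left hC1.idx hu
  have a3 : C[v] ≤ N(C[v] ⊓ C[w]) := (hQ.mulEq_of_relIndex inf_le_left (a2 ▸ hk)).sup.ge.trans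
    (sup_le (normsI (norms_of_le hQ.le) w3) (le_nrm _))
  obtain ⟨g, g1, g2⟩ := SetLike.not_le_iff_exists.1 (a1 _ hC1 inf_le_left)
  obtain ⟨t, ht, t1, t2, t3⟩ := H.three q r hq hr
  obtain ⟨b, b1, b2, b3⟩ := H.ncII ht t3 (H.ii hu hne v1 hqr (hQ.le g1) (hQ.pi.piElt g1) fun e => g2 (hC1.z e))
  exact g2 ((H.gdr hu hne v1 hC1 inf_le_left ht t2 t3).cen b (b2.mem_of_relIndex b1.1 a3 (a2 ▸ hk.p' t1.symm)) b2
    (H.onep hu hne v1 b2 t2 b3) ⟨hQ.le g1, cen1_comm.1 b1.2⟩)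

theorem false (H : N3 G m k) : False := by
  obtain ⟨x₀, y₀, hx₀, hy₀, z₀, hle₀⟩ := H.ex
  obtain ⟨p, hp, zp⟩ := exists_part z₀
  have e₀ := H.eqI hy₀ zp (cen1_le_cen1_constt _ _)
  have u1 := piElt_constt {p} y₀
  rw [e₀] at hy₀ hle₀
  generalize constt {p} y₀ = u at *
  have hne := H.nab hy₀ ⟨x₀, rfl, hx₀⟩ hle₀
  obtain ⟨r, hr, hrp, r1, r2⟩ : ∃ r : ℕ, r.Prime ∧ r ≠ p ∧ NC r (⊤ : Subgroup G) ∧ ¬ r ∣ k := by
    by_contra! hc
    obtain ⟨q, hq, q1, -, q2⟩ := H.three p p hp hp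
    obtain ⟨r, hr, r1, r2, r3⟩ := H.three p q hp hq
    exact r2 (H.two hy₀ hne u1 hr hq r1 q1 (hc r hr r1 r3) (hc q hq q1 q2))
  obtain ⟨q, hq, hqp, hqr, q1⟩ := H.three p r hp hr
  obtain ⟨w, w1, w2, w3⟩ := H.ncI hq q1 hy₀
  have hC := H.ii hy₀ hne u1 hqp w1 w2 w3
  have hle : C[u] ⊓ C[w] ≤ C[u] := inf_le_left
  generalize C[u] ⊓ C[w] = C at hC hle
  have hab := H.abII hC
  have gr := H.gdII hC hr r1 r2
  have dr := hC.idx ▸ H.pn hr r1
  have dq : q ∣ k := by_contra fun e => (H.gdII hC hq q1 e).false gr hqr (hC.idx ▸ H.pn hq q1) dr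
  have gq := H.gdr hy₀ hne u1 hC hle hq hqp q1
  obtain ⟨g, g1, g2, g3⟩ := gq.elt (H.rel hle hC.idx hy₀ ▸ dq)
  obtain ⟨f, f1, f2, f3⟩ := gr.elt dr
  have hlt : C < N(C) := (le_nrm C).lt_of_ne fun e => f2 (e.ge f1)
  obtain ⟨R, hR⟩ := exists_syl r C
  obtain ⟨A, hA⟩ := exists_syl q C
  have aC : C ≤ C(A) := hab.cents hA.le le_rfl
  have nA : N(C) ≤ N(A) := hA.norms_of_nml (cents_norm aC) le_rfl
  obtain ⟨b, b1, b2, b3⟩ := H.ncII hq q1 hC
  have b4 := hA.mem_of_cen b1 b2 (aC b1)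
  obtain ⟨t, U, c1, c2, c3⟩ : ∃ t U, C < U ∧ U ⊴ N(C) ∧ PiNat {t} (C.relIndex U) := by
    by_cases e : r = 2
    · exact exists_nml' (e ▸ hqr) hA.pi (hab.mono hA.le) aC nA (fun a => b3 (a b4)) (fun g a1 a2 a3 b hb c =>
        by_contra fun z => a2 (H.fpf hC hab hr r2 a1 (e ▸ a3) (hA.le hb) z (mem_cen1.2 c))) hlt
    · exact (gr.good hR).exists_nml e hlt
  by_cases e : r = t
  swap
  · exact (gr.good hR).contra f1 f2 f3 e c1 c2 c3
  subst e
  obtain ⟨T, hT⟩ := exists_syl r U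
  have h1 := (hT.mulEq_of_relIndex c1.le c3).comm_eq_of_cents' aC
  have hUB : U ≤ N(A) := c2.le.trans nA
  have h2 : ⁅A, U⁆ ≠ ⊥ := fun e => by
    obtain ⟨f, a1, a2, a3⟩ := exists_pElt_not_mem hr (c3.dvd_of_ne_one (one_lt_relIndex c1.not_ge).ne')
    exact a3 (H.fpf hC hab hr r2 (c2.le a1) a2 b1 b3 (cen_le_cen1 b4 (comm_eq_bot'.1 e a1)))
  obtain ⟨d, hd, d1⟩ := exists_ne_one (g3.zpowers.meet_cen (hA.pi.mono (comm_le_left hUB))
    ((zpowers_le.2 g1.2).trans (normsR nA c2.nrm)) h2)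
  have d2 := comm_le_left hUB hd.1
  by_cases hz : d ∈ center G
  · exact d1 ((coprime_abel_cent_TI (hT.le.trans hUB) (hA.pi.cop_of_ne hT.pi hqr) (hab.mono hA.le)).le
      ⟨h1 ▸ hd.1, center_le_cen' _ hz⟩)
  · exact g2 (gq.cen d (hA.le d2) (hA.pi.piElt d2) (H.onep hy₀ hne u1 (hA.pi.piElt d2) hqp hz)
      ⟨g1.1, mem_cen1.2 (hd.2 g (mem_zpowers g))⟩)

end N3

theorem exists_nf {m n : ℕ} (cs : ∀ x : G, x ∉ center G → C[x].index = m ∨ C[x].index = n) (hlt : m < n)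
    (h : ¬ FG G) : ∃ k, n = k * m ∧ NF G m k := by
  simp only [FG, not_forall] at h
  obtain ⟨x, y, hx, hy, hle, hne⟩ := h
  have a1 : C[y].index < C[x].index := lt_of_not_ge fun e => hne (eq_of_le_of_index_le hle e)
  have a2 := cs x hx
  have a3 := cs y hy
  have a4 : C[x].index = n := by omega
  have a5 : C[y].index = m := by omega
  obtain ⟨k, hk⟩ := exists_eq_mul_left_of_dvd (a4 ▸ a5 ▸ index_dvd_of_le hle : m ∣ n)
  exact ⟨k, hk, hk ▸ cs, hk ▸ hlt, x, y, hk ▸ a4, a5, hy, hle⟩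

theorem ito {m n : ℕ} (cs : ∀ x : G, x ∉ center G → C[x].index = m ∨ C[x].index = n) (hlt : m < n) :
    Group.IsSolvable G := by
  by_cases h3 : ∀ p q : ℕ, p.Prime → q.Prime → ∃ r : ℕ, r.Prime ∧ r ≠ p ∧ r ≠ q ∧ NC r (⊤ : Subgroup G)
  · by_cases h : FG G
    · exact T3.sol_fg ⟨cs, h3⟩ h
    · obtain ⟨k, -, H⟩ := exists_nf cs hlt h
      exact (N3.false ⟨H, h3⟩).elim
  push Not at h3
  obtain ⟨p, q, hp, hq, h⟩ := h3
  exact sol_of_index hp hq ab_center'.sol fun r hr hd => by_contra fun e => h r hr (fun a => e (Or.inl a))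
    (fun a => e (Or.inr a)) ((nc_iff hr).2 (relIndex_top_right (center G) ▸ hd))

end Cfsg.Agent.H8.Ito
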