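import Mathlib
import Cfsg.Agent.S0215
import Cfsg.Agent.S1939
import Cfsg.Agent.S1243
import Cfsg.Agent.H2.Cores

/-!
Tools on weakly closed 2-elements and fusion in the centre of a Sylow 2-subgroup.
-/

set_option autoImplicit false
set_option linter.unusedSectionVars false
set_option linter.unusedVariables false

namespace Cfsg.Agent.H8.Kt

open Cfsg Subgroup
open scoped Pointwise

universe u

variable {G : Type u} [Group G] [Finite G]

theorem split2 (h : G) : ∃ i j : ℤ, h = h ^ i * h ^ j ∧ Odd (orderOf (h ^ i)) ∧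
    ∃ k : ℕ, (h ^ j) ^ (2 ^ k) = 1 := by
  obtain ⟨a, m, hm, e⟩ := Nat.exists_eq_two_pow_mul_odd (orderOf_pos h).ne'
  have hc : IsCoprime ((2 ^ a : ℕ) : ℤ) (m : ℤ) :=
    Nat.isCoprime_iff_coprime.2 (Nat.Coprime.pow_left _ (Nat.coprime_two_left.2 hm))
  obtain ⟨i, j, hij⟩ := hc
  have h0 : h ^ (((2 ^ a * m : ℕ)) : ℤ) = 1 := by
    rw [zpow_natCast, ← e, pow_orderOf_eq_one]
  refine ⟨i * (2 ^ a : ℕ), j * m, by rw [← zpow_add, hij, zpow_one], ?_, a, ?_⟩
  · refine hm.of_dvd_nat (orderOf_dvd_of_pow_eq_one ?_)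
    rw [← zpow_natCast, ← zpow_mul, show i * ((2 ^ a : ℕ) : ℤ) * m = ((2 ^ a * m : ℕ) : ℤ) * i by
      push_cast; ring, zpow_mul, h0, one_zpow]
  · rw [← zpow_natCast, ← zpow_mul, show j * (m : ℤ) * ((2 ^ a : ℕ) : ℤ) = ((2 ^ a * m : ℕ) : ℤ) * j by
      push_cast; ring, zpow_mul, h0, one_zpow]

theorem fix_of_odd {g u : G} (hg : Odd (orderOf g)) (h : g * (g * u * g⁻¹) * g⁻¹ = u) :
    g * u * g⁻¹ = u := by
  have h2 : Commute (g ^ 2) u := by
    have : g ^ 2 * u = u * g ^ 2 := by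
      conv_rhs => rw [← h]
      rw [pow_two]; group
    exact this
  obtain ⟨k, hk⟩ := hg
  have h3 : g = (g ^ 2) ^ (k + 1) := by
    rw [← pow_mul, show 2 * (k + 1) = (2 * k + 1) + 1 by ring, ← hk, pow_succ, pow_orderOf_eq_one,
      one_mul]
  have h4 : Commute g u := by rw [h3]; exact h2.pow_left _
  rw [h4.eq]; group

theorem eq_one_of_odd {c : G} {m k : ℕ} (hm : Odd m) (h1 : c ^ m = 1) (h2 : c ^ 2 ^ k = 1) :
    c = 1 := by
  have := Nat.dvd_gcd (orderOf_dvd_of_pow_eq_one h1) (orderOf_dvd_of_pow_eq_one h2)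
  rw [Nat.Coprime.gcd_eq_one (Nat.Coprime.pow_right _ (Nat.coprime_two_right.2 hm))] at this
  exact orderOf_eq_one_iff.1 (Nat.dvd_one.1 this)

theorem pgroup_zpowers {c : G} {k : ℕ} (h : c ^ 2 ^ k = 1) : IsPGroup 2 (zpowers c) := by
  rintro ⟨x, i, rfl⟩
  refine ⟨k, Subtype.ext ?_⟩
  show (c ^ i) ^ 2 ^ k = 1
  rw [← zpow_natCast, ← zpow_mul, mul_comm, zpow_mul, zpow_natCast, h, one_zpow]

theorem pow_of_mem (T : Sylow 2 G) {c : G} (h : c ∈ (T : Subgroup G)) : ∃ k : ℕ, c ^ 2 ^ k = 1 := by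
  obtain ⟨k, hk⟩ := T.2 ⟨c, h⟩
  exact ⟨k, congrArg Subtype.val hk⟩

theorem conj_into (K : Subgroup G) (T : Sylow 2 G) (R : Subgroup G) (hR : IsPGroup 2 R)
    (hRK : R ≤ K) (hTK : (T : Subgroup G) ≤ K) :
    ∃ k ∈ K, ∀ r ∈ R, k * r * k⁻¹ ∈ (T : Subgroup G) := by
  have h1 : IsPGroup 2 (R.subgroupOf K) := hR.comap_subtype
  obtain ⟨Q, hQ⟩ := h1.exists_le_sylow
  obtain ⟨k, hk⟩ := MulAction.exists_smul_eq K Q (T.subtype hTK)
  refine ⟨k, k.2, fun r hr => ?_⟩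
  have h2 : (⟨r, hRK hr⟩ : K) ∈ (Q : Subgroup K) := hQ hr
  have h3 : k * ⟨r, hRK hr⟩ * k⁻¹ ∈ ((k • Q : Sylow 2 K) : Subgroup K) := by
    rw [Sylow.coe_subgroup_smul]
    exact ⟨_, h2, rfl⟩
  rw [hk] at h3
  exact h3

theorem conj_elt (T : Sylow 2 G) {c : G} {k : ℕ} (h : c ^ 2 ^ k = 1) :
    ∃ g : G, g * c * g⁻¹ ∈ (T : Subgroup G) := by
  obtain ⟨g, -, hg⟩ := conj_into ⊤ T _ (pgroup_zpowers h) le_top le_top
  exact ⟨g, hg c (mem_zpowers c)⟩

theorem mem_of_norm (T : Sylow 2 G) {c : G} {k : ℕ} (h : c ^ 2 ^ k = 1)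
    (hc : c ∈ normalizer ((T : Subgroup G) : Set G)) : c ∈ (T : Subgroup G) := by
  have := (pgroup_zpowers h).inf_normalizer_sylow T
  have h2 : c ∈ zpowers c ⊓ normalizer ((T : Subgroup G) : Set G) := ⟨mem_zpowers c, hc⟩
  exact (this.le h2).2

theorem odd_rel (T : Sylow 2 G) (N : Subgroup G) [N.Normal] :
    ¬ 2 ∣ (T : Subgroup G).relIndex N := by
  have h1 := relIndex_mul_relIndex ((T : Subgroup G) ⊓ N) N ((T : Subgroup G) ⊔ N)
    inf_le_right le_sup_right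
  have h2 := relIndex_mul_relIndex ((T : Subgroup G) ⊓ N) (T : Subgroup G) ((T : Subgroup G) ⊔ N)
    inf_le_left le_sup_left
  rw [relIndex_sup_right, inf_relIndex_right] at h1
  rw [inf_relIndex_left, ← h1, mul_comm] at h2
  have h3 : N.relIndex (T : Subgroup G) ≠ 0 := FiniteIndex.index_ne_zero
  have h4 := Nat.eq_of_mul_eq_mul_right (Nat.pos_of_ne_zero h3) h2
  rw [← h4]
  exact fun h => T.not_dvd_index (h.trans (relIndex_dvd_index_of_le le_sup_left))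

theorem le_of_central (hO : pPrimeCore 2 G = ⊥) (N Z : Subgroup G) [hN : N.Normal] (hZN : Z ≤ N)
    (hc : ∀ z ∈ Z, ∀ n ∈ N, z * n = n * z) (hZ : IsPGroup 2 Z) (hi : ¬ 2 ∣ Z.relIndex N) :
    N ≤ Z := by
  haveI : (Z.subgroupOf N).Normal := ⟨fun n hn g => by
    have : (g * n * g⁻¹ : N) = n := Subtype.ext (by
      show (g : G) * n * (g : G)⁻¹ = n
      rw [← hc n hn g g.2]; group)
    rwa [this]⟩
  obtain ⟨k, hk⟩ := (IsPGroup.iff_card).1 (hZ.comap_subtype (K := N))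
  have hcop : (Nat.card (Z.subgroupOf N)).Coprime (Z.subgroupOf N).index := by
    rw [show Nat.card (Z.subgroupOf N) = 2 ^ k from hk]
    exact Nat.Coprime.pow_left _ ((Nat.Prime.coprime_iff_not_dvd Nat.prime_two).2 hi)
  obtain ⟨K, hK⟩ := exists_right_complement'_of_coprime hcop
  haveI : K.Normal := ⟨fun n hn g => by
    obtain ⟨⟨a, b⟩, e⟩ := (hK.existsUnique g).exists
    have ha : ((a : N) : G) ∈ Z := a.2
    have : g * n * g⁻¹ = (b : N) * n * (b : N)⁻¹ := by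
      rw [← e]
      apply Subtype.ext
      have := hc _ ha _ (((b : N) * n * (b : N)⁻¹ : N)).2
      simp only [Subgroup.coe_mul, Subgroup.coe_inv] at this ⊢
      calc _ = ((a : N) : G) * (((b : N) : G) * n * ((b : N) : G)⁻¹) * ((a : N) : G)⁻¹ := by group
        _ = _ := by rw [this]; group
    rw [this]
    exact K.mul_mem (K.mul_mem b.2 hn) (K.inv_mem b.2)⟩
  have h1 : K ≤ pPrimeCore 2 N := H2.le_pPrimeCore (by
    rw [← hK.symm.index_eq_card]
    exact ((Nat.Prime.coprime_iff_not_dvd Nat.prime_two).2 hi).symm)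
  rw [H2.pPrimeCore_eq_bot_of_isSubnormal hN.isSubnormal hO, le_bot_iff] at h1
  subst h1
  have h2 : Z.subgroupOf N = ⊤ := by simpa using hK.sup_eq_top
  exact subgroupOf_eq_top.1 h2

theorem normal_of_le_center {Z : Subgroup G} (h : Z ≤ center G) : Z.Normal :=
  ⟨fun n hn g => by rwa [mem_center_iff.1 (h hn) g, mul_inv_cancel_right]⟩

theorem center_pgroup (hO : pPrimeCore 2 G = ⊥) : IsPGroup 2 (center G) := by
  rintro ⟨c, hc⟩
  obtain ⟨i, j, e, ho, k, hk⟩ := split2 c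
  have h1 : zpowers (c ^ i) = ⊥ := by
    refine (H2.pPrimeCore_eq_bot_iff (p := 2)).1 hO _ ?_ ?_
    · exact normal_of_le_center (zpowers_le.2 ((center G).zpow_mem hc i))
    · rw [Nat.card_zpowers]; exact Nat.coprime_two_right.2 ho
  rw [zpowers_eq_bot] at h1
  rw [h1, one_mul] at e
  exact ⟨k, Subtype.ext (by show c ^ 2 ^ k = 1; rw [e]; exact hk)⟩

theorem central_le (T : Sylow 2 G) (hO : pPrimeCore 2 G = ⊥) : center G ≤ (T : Subgroup G) := by
  intro c hc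
  obtain ⟨k, hk⟩ := center_pgroup hO ⟨c, hc⟩
  refine mem_of_norm T (k := k) (congrArg Subtype.val hk) ?_
  exact center_le_normalizer _ hc

theorem core_quot (hO : pPrimeCore 2 G = ⊥) (Z : Subgroup G) [Z.Normal] (hZ : Z ≤ center G) :
    pPrimeCore 2 (G ⧸ Z) = ⊥ := by
  refine (H2.pPrimeCore_eq_bot_iff (p := 2)).2 fun N hN hc => ?_
  have hZN : Z ≤ N.comap (QuotientGroup.mk' Z) := fun z hz => by
    rw [mem_comap, QuotientGroup.mk'_apply, (QuotientGroup.eq_one_iff z).2 hz]; exact N.one_mem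
  have h := le_of_central hO (N.comap (QuotientGroup.mk' Z)) Z hZN
    (fun z hz n _ => ((mem_center_iff.1 (hZ hz)) n).symm) ((center_pgroup hO).to_le hZ) (by
      have h1 : Z.relIndex (N.comap (QuotientGroup.mk' Z)) = Nat.card N := by
        have h0 := relIndex_ker (N.comap (QuotientGroup.mk' Z)) (QuotientGroup.mk' Z)
        rwa [QuotientGroup.ker_mk', map_comap_eq_self_of_surjective
          (QuotientGroup.mk'_surjective Z)] at h0
      rw [h1]
      exact (Nat.Prime.coprime_iff_not_dvd Nat.prime_two).1 hc.symm)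
  rw [eq_bot_iff]
  intro n hn
  obtain ⟨n, rfl⟩ := QuotientGroup.mk'_surjective Z n
  exact (QuotientGroup.eq_one_iff n).2 (h hn)

theorem mem_of_mk (T : Sylow 2 G) (Z : Subgroup G) [Z.Normal] (hZ : Z ≤ (T : Subgroup G)) {g : G}
    (h : QuotientGroup.mk' Z g ∈
      ((T.mapSurjective (QuotientGroup.mk'_surjective Z) : Sylow 2 (G ⧸ Z)) : Subgroup (G ⧸ Z))) :
    g ∈ (T : Subgroup G) := by
  obtain ⟨t, ht, e⟩ := h
  have : t⁻¹ * g ∈ Z := QuotientGroup.eq.1 e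
  simpa using (T : Subgroup G).mul_mem ht (hZ this)

theorem zstar : ∀ (n : ℕ) (G : Type u) [Group G] [Finite G], Nat.card G = n →
    pPrimeCore 2 G = ⊥ → ∀ (T : Sylow 2 G) (x : G), x ∈ (T : Subgroup G) →
    (∀ g : G, g * x * g⁻¹ ∈ (T : Subgroup G) → g * x * g⁻¹ = x) → x ∈ center G := by
  intro n
  induction n using Nat.strong_induction_on with
  | _ n ih =>
  intro G _ _ hn hO T x hx hw
  by_cases h1 : x = 1
  · rw [h1]; exact one_mem _
  obtain ⟨k, hk⟩ := pow_of_mem T hx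
  obtain ⟨j, -, hj⟩ := (Nat.dvd_prime_pow Nat.prime_two).1 (orderOf_dvd_of_pow_eq_one hk)
  obtain _ | j := j
  · exact absurd (orderOf_eq_one_iff.1 hj) h1
  have ht : orderOf (x ^ 2 ^ j) = 2 := by
    rw [orderOf_pow_of_dvd (by positivity) (by rw [hj]; exact pow_dvd_pow 2 (Nat.le_succ j)), hj,
      pow_succ, Nat.mul_div_cancel_left _ (by positivity)]
  have htT : x ^ 2 ^ j ∈ (T : Subgroup G) := pow_mem hx _
  obtain ⟨N, hN, hNo, hc⟩ := S0215.result T _ ht htT (S1939.result T x hx hw _)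
  have hN1 : N = ⊥ := (H2.pPrimeCore_eq_bot_iff (p := 2)).1 hO N hN (Nat.coprime_two_right.2 hNo)
  have htc : x ^ 2 ^ j ∈ center G := mem_center_iff.2 fun g => by
    have := hc g
    rw [hN1, mem_bot] at this
    calc _ = (x ^ 2 ^ j * g * (x ^ 2 ^ j)⁻¹ * g⁻¹) * g * x ^ 2 ^ j := by rw [this]; group
      _ = _ := by group
  have hZ : zpowers (x ^ 2 ^ j) ≤ center G := zpowers_le.2 htc
  haveI : (zpowers (x ^ 2 ^ j)).Normal := normal_of_le_center hZ
  have hZT : zpowers (x ^ 2 ^ j) ≤ (T : Subgroup G) := zpowers_le.2 htT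
  have hlt : Nat.card (G ⧸ zpowers (x ^ 2 ^ j)) < n := by
    have := card_eq_card_quotient_mul_card_subgroup (zpowers (x ^ 2 ^ j))
    rw [Nat.card_zpowers, ht] at this
    have h2 : 0 < Nat.card (G ⧸ zpowers (x ^ 2 ^ j)) := Nat.card_pos
    omega
  have h2 := ih _ hlt _ rfl (core_quot hO _ hZ)
    (T.mapSurjective (QuotientGroup.mk'_surjective _)) (QuotientGroup.mk' _ x) ⟨x, hx, rfl⟩
    (fun g hg => by
      obtain ⟨g, rfl⟩ := QuotientGroup.mk'_surjective _ g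
      rw [← map_inv, ← map_mul, ← map_mul] at hg ⊢
      rw [hw g (mem_of_mk T _ hZT hg)])
  refine mem_center_iff.2 fun g => ?_
  have h3 : g * x * g⁻¹ ∈ (T : Subgroup G) := by
    refine mem_of_mk T _ hZT ?_
    rw [map_mul, map_mul, mem_center_iff.1 h2, map_inv, mul_inv_cancel_right]
    exact ⟨x, hx, rfl⟩
  calc _ = (g * x * g⁻¹) * g := by group
    _ = _ := by rw [hw g h3]

theorem odd_conj (T : Sylow 2 G) {x g : G} (hx : ∀ u ∈ (T : Subgroup G), u * x = x * u)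
    (hy : ∀ u ∈ (T : Subgroup G), u * (g * x * g⁻¹) = (g * x * g⁻¹) * u) :
    ∃ h ∈ normalizer ((T : Subgroup G) : Set G), Odd (orderOf h) ∧ h * x * h⁻¹ = g * x * g⁻¹ := by
  obtain ⟨h, hh, e⟩ := S1243.result T (T : Subgroup G) ⟨le_rfl, fun a ha =>
    eq_of_le_of_card_ge ha (by rw [card_map_of_injective (MulAut.conj a).injective])⟩ x g
    (mem_centralizer_iff.2 hx) (mem_centralizer_iff.2 hy)
  obtain ⟨i, j, e1, ho, k, hk⟩ := split2 h
  refine ⟨h ^ i, zpow_mem hh i, ho, ?_⟩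
  have h2 := hx _ (mem_of_norm T hk (zpow_mem hh j))
  rw [← e]
  conv_rhs => rw [e1]
  calc _ = h ^ i * (x * h ^ j) * (h ^ i * h ^ j)⁻¹ := by group
    _ = _ := by rw [← h2]; group

theorem three (hO : pPrimeCore 2 G = ⊥) (T : Sylow 2 G) {x : G} (hxT : x ∈ (T : Subgroup G))
    (hx : ∀ u ∈ (T : Subgroup G), u * x = x * u) (hc : x ∉ center G) :
    ∃ g h : G, g * x * g⁻¹ ∈ (T : Subgroup G) ∧ h * x * h⁻¹ ∈ (T : Subgroup G) ∧
      g * x * g⁻¹ ≠ x ∧ h * x * h⁻¹ ≠ x ∧ h * x * h⁻¹ ≠ g * x * g⁻¹ := by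
  have h1 : ∃ g : G, g * x * g⁻¹ ∈ (T : Subgroup G) ∧ g * x * g⁻¹ ≠ x := by
    by_contra h
    push Not at h
    exact hc (zstar _ G rfl hO T x hxT h)
  obtain ⟨g, hg, hgx⟩ := h1
  by_contra hn
  push Not at hn
  have key : ∀ h : G, h * x * h⁻¹ ∈ (T : Subgroup G) → h * x * h⁻¹ = x ∨ h * x * h⁻¹ = g * x * g⁻¹ :=
    fun h hh => by
      by_cases e : h * x * h⁻¹ = x
      · exact Or.inl e
      · exact Or.inr (hn g h hg hh hgx e)
  have hy : ∀ u ∈ (T : Subgroup G), u * (g * x * g⁻¹) = (g * x * g⁻¹) * u := fun u hu => by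
    have e0 : (u * g) * x * (u * g)⁻¹ = u * (g * x * g⁻¹) * u⁻¹ := by group
    rcases key (u * g) (by rw [e0]; exact mul_mem (mul_mem hu hg) (inv_mem hu)) with e | e
    · exfalso; apply hgx
      rw [e0] at e
      calc _ = u⁻¹ * (u * (g * x * g⁻¹) * u⁻¹) * u := by group
        _ = u⁻¹ * (x * u) := by rw [e]; group
        _ = _ := by rw [← hx u hu]; group
    · rw [e0] at e
      calc _ = (u * (g * x * g⁻¹) * u⁻¹) * u := by group
        _ = _ := by rw [e]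
  obtain ⟨h, hh, ho, e⟩ := odd_conj T hx hy
  have e0 : (h * h) * x * (h * h)⁻¹ = h * (h * x * h⁻¹) * h⁻¹ := by group
  rcases key (h * h) (by rw [e0, e]; exact (mem_normalizer_iff.1 hh _).1 hg) with e1 | e1
  · exact hgx (e ▸ fix_of_odd ho (e0 ▸ e1))
  · rw [e0, ← e] at e1
    apply hgx
    rw [← e]
    exact mul_left_cancel (mul_right_cancel e1)

end Cfsg.Agent.H8.Kt
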