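import Mathlib
import Cfsg.Agent.H8.Kt1
import Cfsg.Agent.S0202
import Cfsg.Agent.S0203
import Cfsg.Agent.S0483
import Cfsg.Agent.H10.Congr
import Cfsg.Agent.H10.SmallId

/-!
Groups with a strongly closed four-group of index at most two in a Sylow 2-subgroup.
-/

set_option autoImplicit false
set_option linter.unusedSectionVars false
set_option linter.unusedVariables false

namespace Cfsg.Agent.H8.Kt

open Cfsg Subgroup
open scoped Pointwise MatrixGroups commutatorElement

universe u

variable {H : Type u} [Group H] [Finite H]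

/-- The conclusion. -/
def Concl (H : Type u) [Group H] : Prop :=
  Nonempty (H ≃* ↥(alternatingGroup (Fin 4))) ∨ Nonempty (H ≃* Equiv.Perm (Fin 4)) ∨
    ∃ S : Subgroup H, S.Normal ∧ IsSimpleGroup ↥S ∧ ¬ IsMulCommutative ↥S ∧
      Subgroup.centralizer (S : Set H) = ⊥ ∧
      ∃ (F : Type) (_ : Field F) (_ : Fintype F), 3 < Fintype.card F ∧
        (Fintype.card F % 8 = 3 ∨ Fintype.card F % 8 = 5) ∧
        Nonempty (↥S ≃* Matrix.ProjectiveSpecialLinearGroup (Fin 2) F)

theorem simple_psl {X : Type u} [Group X] [Finite X] [IsSimpleGroup X] (hnc : ¬ IsMulCommutative X)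
    (T : Sylow 2 X) (hT : IsKleinFour (T : Subgroup X)) :
    ∃ (F : Type) (_ : Field F) (_ : Fintype F), 3 < Fintype.card F ∧
        (Fintype.card F % 8 = 3 ∨ Fintype.card F % 8 = 5) ∧
        Nonempty (X ≃* Matrix.ProjectiveSpecialLinearGroup (Fin 2) F) := by
  have hc : Nat.card X = 4 * (T : Subgroup X).index := by
    rw [← (T : Subgroup X).card_mul_index, hT.card_four]
  have hodd : ¬ 2 ∣ (T : Subgroup X).index := T.not_dvd_index
  haveI : Group.IsPerfect X := ⟨by
    refine (IsSimpleGroup.eq_bot_or_eq_top_of_normal _ inferInstance).resolve_left fun e => hnc ?_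
    refine ⟨⟨fun a b => ?_⟩⟩
    have : ⁅a, b⁆ ∈ _root_.commutator X := commutator_mem_commutator (mem_top a) (mem_top b)
    rw [e, mem_bot, commutatorElement_eq_one_iff_mul_comm] at this
    exact this⟩
  have hO : oddCore X = ⊥ := by
    haveI : (oddCore X).Characteristic := H2.pPrimeCore_characteristic (p := 2)
    refine (IsSimpleGroup.eq_bot_or_eq_top_of_normal _ inferInstance).resolve_right fun e => ?_
    have := (H2.pPrimeCore_eq_top_iff (p := 2)).1 e
    rw [hc] at this
    exact absurd (Nat.Coprime.coprime_mul_right this) (by norm_num)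
  have e0 : X ≃* X ⧸ oddCore X :=
    ((QuotientGroup.quotientMulEquivOfEq hO).trans QuotientGroup.quotientBot).symm
  rcases S0483.result T 2 le_rfl IsKleinFour.nonempty_mulEquiv with
    ⟨F, _, _, ho, h3, ⟨e⟩⟩ | ⟨⟨e⟩⟩
  · refine ⟨F, _, _, h3, ?_, ⟨e0.trans e⟩⟩
    obtain ⟨u, hu⟩ := ho
    have h2 := H10.card_PSL2 (F := F)
    rw [← Nat.card_congr (e0.trans e).toEquiv, Nat.card_eq_fintype_card (α := F), hc, hu,
      Nat.add_sub_cancel, Nat.gcd_mul_right_right] at h2
    rw [hu]
    generalize (T : Subgroup X).index = m at *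
    obtain ⟨w, hw⟩ : ∃ w, u = 4 * w ∨ u = 4 * w + 1 ∨ u = 4 * w + 2 ∨ u = 4 * w + 3 :=
      ⟨u / 4, by omega⟩
    rcases hw with rfl | rfl | rfl | rfl
    · exfalso; apply hodd
      exact ⟨(8 * w + 1) * w * (4 * w + 1), by nlinarith⟩
    · omega
    · omega
    · exfalso; apply hodd
      exact ⟨(8 * w + 7) * (4 * w + 3) * (w + 1), by nlinarith⟩
  · exfalso
    have h2 := two_mul_nat_card_alternatingGroup (α := Fin 7)
    rw [← Nat.card_congr (e0.trans e).toEquiv, hc, Nat.card_perm, Nat.card_fin] at h2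
    simp only [Nat.factorial] at h2
    omega

/-- The endgame data. -/
structure Eg (T : Sylow 2 H) (V : Subgroup H) (a b c : H) : Prop where
  hO : pPrimeCore 2 H = ⊥
  le : V ≤ (T : Subgroup H)
  mem : ∀ v, v ∈ V ↔ v = 1 ∨ v = a ∨ v = b ∨ v = c
  a1 : a ≠ 1
  ab : a ≠ b
  ac : a ≠ c
  bc : b ≠ c
  cb : IsConj a b
  cc : IsConj a c
  cl : ∀ t ∈ (T : Subgroup H), IsConj a t → t ∈ V
  idx : ∀ s ∈ (T : Subgroup H), ∀ t ∈ (T : Subgroup H), s ∉ V → t ∉ V → s⁻¹ * t ∈ V
  cent : ∀ t ∈ (T : Subgroup H), (∀ v ∈ V, t * v = v * t) → t ∈ V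

namespace Eg

variable {T : Sylow 2 H} {V : Subgroup H} {a b c : H} (h : Eg T V a b c)
include h

theorem aV : a ∈ V := (h.mem a).2 (by simp)

theorem conj {v : H} (hv : v ∈ V) (h1 : v ≠ 1) : IsConj a v := by
  rcases (h.mem v).1 hv with e | e | e | e
  · exact absurd e h1
  · rw [e]
  · rw [e]; exact h.cb
  · rw [e]; exact h.cc

theorem ne1 {v : H} (hv : IsConj a v) : v ≠ 1 := by
  rintro rfl
  exact h.a1 (isConj_one_left.1 hv)

theorem card : Nat.card V = 4 := by
  have e : (V : Set H) = {1, a, b, c} := Set.ext fun v => h.mem v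
  have h1 := h.ne1 h.cb
  have h2 := h.ne1 h.cc
  rw [← SetLike.coe_sort_coe, Nat.card_coe_set_eq, e, Set.ncard_insert_of_notMem (by
    simp [h.a1.symm, h1.symm, h2.symm]), Set.ncard_insert_of_notMem (by simp [h.ab, h.ac]),
    Set.ncard_pair h.bc]

theorem ord : orderOf a = 2 := by
  obtain ⟨x, hx⟩ := exists_prime_orderOf_dvd_card' (G := V) 2 (by rw [h.card]; norm_num)
  have h1 : (x : H) ≠ 1 := fun e => by
    rw [show x = 1 from Subtype.ext e, orderOf_one] at hx
    norm_num at hx
  rw [← hx, ← Subgroup.orderOf_coe]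
  obtain ⟨g, hg⟩ := isConj_iff.1 (h.conj x.2 h1)
  rw [← hg]
  exact (MulEquiv.orderOf_eq (MulAut.conj g) a).symm

theorem ordc {v : H} (hv : IsConj a v) : orderOf v = 2 := by
  obtain ⟨g, hg⟩ := isConj_iff.1 hv
  rw [← hg, ← h.ord]
  exact (MulEquiv.orderOf_eq (MulAut.conj g) a)

theorem sq {v : H} (hv : v ∈ V) : v ^ 2 = 1 := by
  by_cases e : v = 1
  · simp [e]
  · rw [← h.ordc (h.conj hv e), pow_orderOf_eq_one]

theorem klein : IsKleinFour V := by
  refine ⟨h.card, ?_⟩
  haveI : Nontrivial V := ⟨⟨⟨a, h.aV⟩, 1, fun e => h.a1 (congrArg Subtype.val e)⟩⟩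
  rw [Monoid.exponent_eq_prime_iff Nat.prime_two]
  intro g hg
  rw [← Subgroup.orderOf_coe]
  exact h.ordc (h.conj g.2 fun e => hg (Subtype.ext e))

theorem comm {v w : H} (hv : v ∈ V) (hw : w ∈ V) : v * w = w * v := by
  haveI := h.klein
  exact congrArg Subtype.val ((IsKleinFour.isMulCommutative (G := V)).is_comm.comm ⟨v, hv⟩ ⟨w, hw⟩)

theorem le_normal (M : Subgroup H) [hM : M.Normal] (h1 : M ≠ ⊥) : V ≤ M := by
  have h2 : 2 ∣ Nat.card M := by
    by_contra h2
    exact h1 ((H2.pPrimeCore_eq_bot_iff (p := 2)).1 h.hO M hM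
      ((Nat.Prime.coprime_iff_not_dvd Nat.prime_two).2 h2).symm)
  obtain ⟨x, hx⟩ := exists_prime_orderOf_dvd_card' (G := M) 2 h2
  rw [← Subgroup.orderOf_coe] at hx
  obtain ⟨g, hg⟩ := conj_elt T (c := (x : H)) (k := 1) (by rw [pow_one, ← hx, pow_orderOf_eq_one])
  have h3 : g * x * g⁻¹ ∈ M := hM.conj_mem _ x.2 g
  have h4 : g * x * g⁻¹ ≠ 1 := fun e => by
    rw [conj_eq_one_iff] at e
    rw [e, orderOf_one] at hx
    norm_num at hx
  generalize g * x * g⁻¹ = t at *
  have h5 : ∃ v ∈ V, v ∈ M ∧ v ≠ 1 := by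
    by_cases ht : t ∈ V
    · exact ⟨t, ht, h3, h4⟩
    · have : ¬ ∀ v ∈ V, t * v = v * t := fun e => ht (h.cent t hg e)
      push Not at this
      obtain ⟨v, hv, e⟩ := this
      have hv1 : v ≠ 1 := fun e' => e (by simp [e'])
      refine ⟨t * v * t⁻¹ * v⁻¹, V.mul_mem (h.cl _ (mul_mem (mul_mem hg (h.le hv)) (inv_mem hg))
        ((h.conj hv hv1).trans (isConj_iff.2 ⟨t, rfl⟩))) (V.inv_mem hv), ?_, fun e' => e ?_⟩
      · have := M.mul_mem h3 (hM.conj_mem _ (M.inv_mem h3) v)
        simpa [mul_assoc] using this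
      · calc _ = (t * v * t⁻¹ * v⁻¹) * (v * t) := by group
          _ = _ := by rw [e', one_mul]
  obtain ⟨v, hv, hvM, hv1⟩ := h5
  intro w hw
  by_cases e : w = 1
  · rw [e]; exact M.one_mem
  · obtain ⟨g, hg⟩ := isConj_iff.1 ((h.conj hv hv1).symm.trans (h.conj hw e))
    rw [← hg]; exact hM.conj_mem _ hvM g

theorem nocyc : H10.NoCycNormal H := fun N hN hc => by
  by_contra h1
  haveI := h.klein
  exact IsKleinFour.not_isCyclic (G := V) (Subgroup.isCyclic_of_le (h.le_normal N h1))

theorem foc : _root_.commutator H ⊓ (T : Subgroup H) ≤ V := by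
  rw [commutator_inf_eq_focalSubgroup, focalSubgroup, closure_le]
  rintro g ⟨hg, x, hx, u, rfl⟩
  have e : ⁅x, u⁆ = (x⁻¹)⁻¹ * (u * x⁻¹ * u⁻¹) := by rw [commutatorElement_def]; group
  have h1 : u * x⁻¹ * u⁻¹ ∈ (T : Subgroup H) := by
    have := mul_mem (inv_mem hx) hg
    rwa [e, inv_inv, inv_mul_cancel_left] at this
  have hx' := inv_mem hx
  rw [e]
  generalize x⁻¹ = y at *
  by_cases hy : y ∈ V
  · by_cases e1 : y = 1
    · simp [e1]
    · exact V.mul_mem (V.inv_mem hy) (h.cl _ h1 ((h.conj hy e1).trans (isConj_iff.2 ⟨u, rfl⟩)))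
  · refine h.idx _ hx' _ h1 hy fun h2 => hy ?_
    by_cases e1 : y = 1
    · rw [e1]; exact V.one_mem
    · exact h.cl _ hx' ((h.conj h2 (by rwa [Ne, conj_eq_one_iff])).trans
        (isConj_iff.2 ⟨u, rfl⟩).symm)

theorem solv_case [hV : V.Normal] : Nat.card H = 12 ∨ Nat.card H = 24 := by
  have hC : centralizer (V : Set H) ≤ V := by
    refine le_of_central h.hO _ V (fun v hv => mem_centralizer_iff.2 fun w hw => h.comm hw hv)
      (fun z hz n hn => mem_centralizer_iff.1 hn z hz) (T.2.to_le h.le) ?_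
    have h1 := odd_rel T (centralizer (V : Set H))
    have e : (T : Subgroup H) ⊓ centralizer (V : Set H) = V ⊓ centralizer (V : Set H) :=
      le_antisymm (fun t ht => ⟨h.cent t ht.1 fun v hv => (mem_centralizer_iff.1 ht.2 v hv).symm,
        ht.2⟩) (inf_le_inf_right _ h.le)
    rwa [← inf_relIndex_right, e, inf_relIndex_right] at h1
  have horb : MulAction.orbit (ConjAct H) a = {a, b, c} := by
    ext t
    rw [ConjAct.mem_orbit_conjAct]
    constructor
    · intro ht
      obtain ⟨g, hg⟩ := isConj_iff.1 ht.symm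
      have h1 : t ∈ V := hg ▸ hV.conj_mem _ h.aV g
      exact ((h.mem t).1 h1).resolve_left (h.ne1 ht.symm)
    · rintro (rfl | rfl | rfl)
      · exact IsConj.refl _
      · exact h.cb.symm
      · exact h.cc.symm
  have hi : (centralizer ({a} : Set H)).index = 3 := by
    have h0 : (centralizer ({a} : Set H)).index = (MulAction.stabilizer (ConjAct H) a).index := by
      rw [centralizer_eq_comap_stabilizer]
      exact index_comap_of_surjective (f := (ConjAct.toConjAct (G := H)).toMonoidHom) _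
        ConjAct.toConjAct.surjective
    rw [h0, MulAction.index_stabilizer, horb, Set.ncard_insert_of_notMem (by simp [h.ab, h.ac]),
      Set.ncard_pair h.bc]
  have hVC : V ≤ centralizer ({a} : Set H) := fun v hv =>
    mem_centralizer_singleton_iff.2 (h.comm hv h.aV)
  have hb : ∀ g ∈ centralizer ({a} : Set H), g ∉ V → g * b * g⁻¹ = c := fun g hg hn => by
    have hga := mem_centralizer_singleton_iff.1 hg
    have hbV : b ∈ V := (h.mem b).2 (by simp)
    rcases (h.mem _).1 (hV.conj_mem _ hbV g) with e | e | e | e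
    · exact absurd (conj_eq_one_iff.1 e) (h.ne1 h.cb)
    · exfalso; apply h.ab
      calc _ = g⁻¹ * (g * a) := by group
        _ = g⁻¹ * (a * g) := by rw [hga]
        _ = _ := by rw [← e]; group
    · exfalso; apply hn; apply hC
      have hgb : b * g = g * b := by
        calc _ = (g * b * g⁻¹) * g := by rw [e]
          _ = _ := by group
      have hc : c = a * b := by
        rcases (h.mem _).1 (V.mul_mem h.aV hbV) with e | e | e | e
        · exfalso; apply h.ab
          have := h.sq hbV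
          rw [pow_two, ← e] at this
          exact (mul_right_cancel this).symm
        · exact absurd (mul_eq_left.1 e) (h.ne1 h.cb)
        · exact absurd (mul_eq_right.1 e) h.a1
        · exact e.symm
      refine mem_centralizer_iff.2 fun v hv => ?_
      rcases (h.mem v).1 hv with e | e | e | e
      · simp [e]
      · rw [e, hga]
      · rw [e, hgb]
      · rw [e, hc, mul_assoc, hgb, ← mul_assoc, ← hga, mul_assoc]
    · exact e
  have hr : V.relIndex (centralizer ({a} : Set H)) = 1 ∨
      V.relIndex (centralizer ({a} : Set H)) = 2 := by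
    by_cases h1 : centralizer ({a} : Set H) ≤ V
    · exact Or.inl (relIndex_eq_one.2 h1)
    · right
      obtain ⟨g, hg, hgV⟩ := SetLike.not_le_iff_exists.1 h1
      rw [relIndex, index_eq_two_iff']
      refine ⟨⟨g, hg⟩, fun t => ?_⟩
      simp only [mem_subgroupOf, Subgroup.coe_mul]
      by_cases ht : (t : H) ∈ V
      · exact Or.inr ⟨ht, fun e => hgV ((V.mul_mem_cancel_right ht).1 e)⟩
      · refine Or.inl ⟨?_, ht⟩
        by_contra hn
        have e1 := hb _ (mul_mem hg t.2) hn
        have e2 := hb _ t.2 ht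
        have e3 := hb _ hg hgV
        apply h.bc
        have : g * c * g⁻¹ = g * b * g⁻¹ := by
          rw [e3]
          conv_lhs => rw [← e2]
          rw [← e1]; group
        exact (mul_left_cancel (mul_right_cancel this)).symm
  have h1 := relIndex_mul_index hVC
  have h2 := V.card_mul_index
  rw [h.card] at h2
  rw [hi] at h1
  omega

theorem concl : Concl H := by
  let M := normalClosure ({a} : Set H)
  have haM : a ∈ M := subset_normalClosure rfl
  have hM1 : M ≠ ⊥ := fun e => h.a1 (by rwa [e, mem_bot] at haM)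
  have hmin : ∀ N : Subgroup H, N.Normal → N ≠ ⊥ → M ≤ N := fun N hN h1 =>
    normalClosure_le_normal (Set.singleton_subset_iff.2 (h.le_normal N h1 h.aV))
  have hVM : V ≤ M := h.le_normal M hM1
  by_cases hC : centralizer (M : Set H) = ⊥
  · have hnc : ¬ IsMulCommutative M := fun hc => by
      apply h.a1
      rw [← mem_bot, ← hC]
      exact mem_centralizer_iff.2 fun m hm =>
        congrArg Subtype.val (hc.is_comm.comm ⟨m, hm⟩ ⟨a, haM⟩)
    have hMc : M ≤ _root_.commutator H := hmin _ inferInstance fun e => by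
      obtain ⟨g, hg⟩ := isConj_iff.1 h.cb
      have : ⁅g, a⁆ ∈ _root_.commutator H := commutator_mem_commutator (mem_top _) (mem_top _)
      rw [e, mem_bot, commutatorElement_eq_one_iff_mul_comm] at this
      apply h.ab
      rw [← hg, this]; group
    have hi : ¬ 2 ∣ (V.subgroupOf M).index := by
      have h1 := odd_rel T M
      have e : (T : Subgroup H) ⊓ M = V ⊓ M :=
        le_antisymm (fun t ht => ⟨h.foc ⟨hMc ht.2, ht.1⟩, ht.2⟩) (inf_le_inf_right _ h.le)
      rwa [← inf_relIndex_right, e, inf_relIndex_right] at h1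
    have hp : IsPGroup 2 (V.subgroupOf M) := (T.2.to_le h.le).comap_subtype
    let R : Sylow 2 M := hp.toSylow hi
    have hK : IsKleinFour (R : Subgroup M) := by
      haveI := h.klein
      have e : V.subgroupOf M ≃* V := subgroupOfEquivOfLe hVM
      exact ⟨(Nat.card_congr e.toEquiv).trans h.card,
        (Monoid.exponent_eq_of_mulEquiv e).trans IsKleinFour.exponent_two⟩
    have hOM : pPrimeCore 2 M = ⊥ :=
      H2.pPrimeCore_eq_bot_of_isSubnormal (Normal.isSubnormal inferInstance) h.hO
    have h1 := (S0202.result R hK).resolve_right fun e => by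
      obtain ⟨N, hN, hc⟩ := (S0203.result R hK).1 e
      have hN1 : N = ⊥ := (H2.pPrimeCore_eq_bot_iff (p := 2)).1 hOM N hN (by
        rw [← hc.index_eq_card]
        exact ((Nat.Prime.coprime_iff_not_dvd Nat.prime_two).2 R.not_dvd_index).symm)
      subst hN1
      have h2 : (R : Subgroup M) = ⊤ := by simpa using hc.sup_eq_top
      have h3 : M ≤ V := subgroupOf_eq_top.1 h2
      exact hnc ⟨⟨fun x y => Subtype.ext (h.comm (h3 x.2) (h3 y.2))⟩⟩
    have h2 : ∀ s t : M, orderOf s = 2 → orderOf t = 2 → IsConj s t := fun s t hs ht => by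
      haveI := (Nat.card_eq_one_iff_unique.1 h1).1
      have := Subsingleton.elim
        (⟨ConjClasses.mk s, s, hs, rfl⟩ : {C : ConjClasses M // ∃ t : M, orderOf t = 2 ∧
          ConjClasses.mk t = C}) ⟨ConjClasses.mk t, t, ht, rfl⟩
      exact ConjClasses.mk_eq_mk_iff_isConj.1 (congrArg Subtype.val this)
    haveI : Nontrivial M := (Subgroup.nontrivial_iff_ne_bot M).2 hM1
    haveI hs : IsSimpleGroup M := ⟨fun N hN => by
      by_cases hN1 : N = ⊥
      · exact Or.inl hN1
      right
      have h3 : 2 ∣ Nat.card N := by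
        by_contra h3
        exact hN1 ((H2.pPrimeCore_eq_bot_iff (p := 2)).1 hOM N hN
          ((Nat.Prime.coprime_iff_not_dvd Nat.prime_two).2 h3).symm)
      obtain ⟨x, hx⟩ := exists_prime_orderOf_dvd_card' (G := N) 2 h3
      rw [← Subgroup.orderOf_coe] at hx
      have h4 : M ≤ N.map M.subtype := by
        refine (closure_le _).2 fun t ht => ?_
        obtain ⟨a', ha', hc⟩ := Group.mem_conjugatesOfSet_iff.1 ht
        obtain rfl : a' = a := ha'
        have htM : t ∈ M := subset_closure ht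
        obtain ⟨g, hg⟩ := isConj_iff.1 (h2 x ⟨t, htM⟩ hx (by
          rw [← Subgroup.orderOf_coe]; exact h.ordc hc))
        exact ⟨⟨t, htM⟩, hg ▸ hN.conj_mem _ x.2 g, rfl⟩
      rw [eq_top_iff]
      intro m _
      obtain ⟨m', hm', e⟩ := h4 m.2
      rwa [← Subtype.ext e]⟩
    exact Or.inr (Or.inr ⟨M, inferInstance, hs, hnc, hC, simple_psl hnc R hK⟩)
  · have hMC := hmin _ inferInstance hC
    have hcm : ∀ x ∈ M, ∀ y ∈ M, x * y = y * x := fun x hx y hy =>
      mem_centralizer_iff.1 (hMC hy) x hx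
    have hsq : ∀ x ∈ M, x ^ 2 = 1 := fun x hx => by
      induction hx using closure_induction with
      | mem t ht =>
        obtain ⟨a', ha', hc⟩ := Group.mem_conjugatesOfSet_iff.1 ht
        obtain rfl : a' = a := ha'
        rw [← h.ordc hc, pow_orderOf_eq_one]
      | one => simp
      | mul x y hx hy h1 h2 => rw [Commute.mul_pow (hcm x hx y hy), h1, h2, one_mul]
      | inv x hx h1 => rw [inv_pow, h1, inv_one]
    have hMV : M ≤ V := fun x hx => by
      obtain ⟨g, -, hg⟩ := conj_into ⊤ T M (fun x => ⟨1, Subtype.ext (by simpa using hsq x x.2)⟩)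
        le_top le_top
      have := hg _ ((inferInstance : M.Normal).conj_mem _ hx g⁻¹)
      refine h.cent x (by simpa [mul_assoc] using this) fun v hv => hcm x hx v (hVM hv)
    haveI : V.Normal := by rw [← le_antisymm hMV hVM]; infer_instance
    rcases h.solv_case with e | e
    · exact Or.inl (h.nocyc.equiv_A4 e)
    · exact Or.inr (Or.inl (h.nocyc.equiv_S4 e))

end Eg

end Cfsg.Agent.H8.Kt
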