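import Mathlib
import Cfsg.Agent.H8.Kt1

/-!
Counting classes of 2-elements; 2-groups of breadth at most one.
-/

set_option autoImplicit false
set_option linter.unusedSectionVars false
set_option linter.unusedVariables false

namespace Cfsg.Agent.H8.Kt

open Cfsg Subgroup
open scoped Pointwise

universe u

variable {G : Type u} [Group G] [Finite G]

/-- The conjugates of `x` in `P`. -/
def cl (P : Sylow 2 G) (x : G) : Set G := {y | y ∈ (P : Subgroup G) ∧ IsConj x y}

/-- Elements of `P` with at least `m` conjugates in `P`. -/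
def big (P : Sylow 2 G) (m : ℕ) : Set G := {u | u ∈ (P : Subgroup G) ∧ m ≤ (cl P u).ncard}

theorem cl_central (P : Sylow 2 G) {x : G} (hx : x ∈ center G) (hxP : x ∈ (P : Subgroup G)) :
    cl P x = {x} := by
  ext y
  constructor
  · rintro ⟨-, hy⟩
    obtain ⟨g, rfl⟩ := isConj_iff.1 hy
    rw [mem_center_iff.1 hx g, mul_inv_cancel_right]; rfl
  · rintro rfl; exact ⟨hxP, IsConj.refl _⟩

theorem two_le_cl (hO : pPrimeCore 2 G = ⊥) (P : Sylow 2 G) {x : G} (hxP : x ∈ (P : Subgroup G))
    (hx : x ∉ center G) : 2 ≤ (cl P x).ncard := by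
  by_contra h
  refine hx (zstar _ G rfl hO P x hxP fun g hg => ?_)
  by_contra e
  exact h ((Set.one_lt_ncard (Set.toFinite _)).2
    ⟨_, ⟨hg, isConj_iff.2 ⟨g, rfl⟩⟩, x, ⟨hxP, IsConj.refl _⟩, e⟩)

theorem sum_cl (P : Sylow 2 G) [Fintype G] [DecidablePred (· ∈ (P : Subgroup G))] :
    ∑ x ∈ Finset.univ.filter (· ∈ (P : Subgroup G)), (1 / ((cl P x).ncard : ℚ)) =
      Nat.card {c : ConjClasses G // ∀ x ∈ c.carrier, ∃ k : ℕ, orderOf x = 2 ^ k} := by
  classical
  set Pf := Finset.univ.filter (· ∈ (P : Subgroup G)) with hPf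
  have h1 : ∀ x, (cl P x).ncard = (Pf.filter fun a => ConjClasses.mk a = ConjClasses.mk x).card :=
    fun x => by
      rw [← Set.ncard_coe_finset]
      congr 1
      ext y
      simp only [cl, hPf, Set.mem_ofPred_eq, Finset.coe_filter, Finset.mem_filter, Finset.mem_univ,
        true_and, ConjClasses.mk_eq_mk_iff_isConj]
      exact ⟨fun h => ⟨h.1, h.2.symm⟩, fun h => ⟨h.1, h.2.symm⟩⟩
  simp_rw [h1]
  rw [Finset.sum_comp (fun c => (1 / ((Pf.filter fun a => ConjClasses.mk a = c).card : ℚ)))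
    ConjClasses.mk]
  rw [Finset.sum_congr rfl (g := fun _ => (1 : ℚ)) (fun c hc => by
    obtain ⟨a, ha, rfl⟩ := Finset.mem_image.1 hc
    have : (Pf.filter fun b => ConjClasses.mk b = ConjClasses.mk a).card ≠ 0 :=
      Finset.card_ne_zero.2 ⟨a, Finset.mem_filter.2 ⟨ha, rfl⟩⟩
    rw [nsmul_eq_mul, mul_one_div_cancel (by exact_mod_cast this)])]
  rw [Finset.sum_const, nsmul_eq_mul, mul_one, Nat.cast_inj, ← Set.ncard_coe_finset,
    ← Nat.card_coe_set_eq]
  refine Nat.card_congr (Equiv.subtypeEquivRight fun c => ?_)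
  simp only [Finset.coe_image, Set.mem_image, Finset.mem_coe, hPf, Finset.mem_filter,
    Finset.mem_univ, true_and]
  constructor
  · rintro ⟨a, ha, rfl⟩ x hx
    obtain ⟨g, rfl⟩ := isConj_iff.1 (ConjClasses.mk_eq_mk_iff_isConj.1
      (ConjClasses.mem_carrier_iff_mk_eq.1 hx).symm)
    obtain ⟨k, hk⟩ := pow_of_mem P ha
    obtain ⟨j, -, hj⟩ := (Nat.dvd_prime_pow Nat.prime_two).1 (orderOf_dvd_of_pow_eq_one hk)
    exact ⟨j, (MulEquiv.orderOf_eq (MulAut.conj g) a).trans hj⟩
  · intro h
    obtain ⟨a, rfl⟩ := ConjClasses.mk_surjective c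
    obtain ⟨k, hk⟩ := h a (ConjClasses.mem_carrier_iff_mk_eq.2 rfl)
    obtain ⟨g, hg⟩ := conj_elt P (c := a) (k := k) (by rw [← hk, pow_orderOf_eq_one])
    exact ⟨_, hg, ConjClasses.mk_eq_mk_iff_isConj.2 (isConj_iff.2 ⟨g, rfl⟩).symm⟩

theorem count (hO : pPrimeCore 2 G = ⊥) (P : Sylow 2 G)
    (hk : 2 * Nat.card {c : ConjClasses G // ∀ x ∈ c.carrier, ∃ k : ℕ, orderOf x = 2 ^ k} =
      Nat.card ↥(P : Subgroup G)) :
    (big P 3).ncard ≤ 3 * Nat.card (center G) ∧ (big P 4).ncard ≤ 2 * Nat.card (center G) ∧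
      (big P 3).Nonempty := by
  classical
  haveI := Fintype.ofFinite G
  have h0 := sum_cl P
  set Pf := Finset.univ.filter (· ∈ (P : Subgroup G)) with hPf
  set Zf := Finset.univ.filter (· ∈ center G) with hZf
  have hZP : Zf ⊆ Pf := fun z hz => by
    simp only [hZf, hPf, Finset.mem_filter, Finset.mem_univ, true_and] at hz ⊢
    exact central_le P hO hz
  have hPc : Pf.card = Nat.card (P : Subgroup G) := by
    rw [Nat.card_eq_fintype_card, Fintype.card_subtype]
  have hZc : Zf.card = Nat.card (center G) := by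
    rw [Nat.card_eq_fintype_card, Fintype.card_subtype]
  let t : G → ℚ := fun x => 1 / 2 - 1 / ((cl P x).ncard : ℚ)
  have h1 : ∑ x ∈ Pf, t x = 0 := by
    simp only [t]
    rw [Finset.sum_sub_distrib, h0, Finset.sum_const, hPc, ← hk, nsmul_eq_mul]
    push_cast; ring
  have h2 : ∑ x ∈ Zf, t x = - (Nat.card (center G) : ℚ) / 2 := by
    rw [Finset.sum_congr rfl (g := fun _ => (-1 / 2 : ℚ)) (fun z hz => by
      have hz' : z ∈ center G := (Finset.mem_filter.1 hz).2
      simp only [t]
      rw [cl_central P hz' (central_le P hO hz'), Set.ncard_singleton]; norm_num),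
      Finset.sum_const, hZc, nsmul_eq_mul]
    ring
  have h3 : ∑ x ∈ Pf \ Zf, t x = (Nat.card (center G) : ℚ) / 2 := by
    have := Finset.sum_sdiff (f := t) hZP
    rw [h1, h2] at this
    linarith
  have ht : ∀ m : ℕ, 0 < m → ∀ x, m ≤ (cl P x).ncard → (1 / 2 - 1 / m : ℚ) ≤ t x := fun m hm x hx => by
    have : (1 : ℚ) / (cl P x).ncard ≤ 1 / m :=
      one_div_le_one_div_of_le (by exact_mod_cast hm) (by exact_mod_cast hx)
    simp only [t]; linarith
  have hmem : ∀ x, x ∈ Pf \ Zf ↔ x ∈ (P : Subgroup G) ∧ x ∉ center G := fun x => by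
    simp [hPf, hZf]
  have hb : ∀ m : ℕ, 2 ≤ m → ((big P m).ncard : ℚ) * (1 / 2 - 1 / m) ≤
      (Nat.card (center G) : ℚ) / 2 := fun m hm => by
    rw [← h3, Set.ncard_eq_toFinset_card' , ← nsmul_eq_mul]
    refine (Finset.card_nsmul_le_sum _ t _ fun x hx =>
      ht m (by omega) x (Set.mem_toFinset.1 hx).2).trans ?_
    refine Finset.sum_le_sum_of_subset_of_nonneg (fun x hx => ?_) fun x hx _ => ?_
    · obtain ⟨a, b⟩ := Set.mem_toFinset.1 hx
      refine (hmem x).2 ⟨a, fun e => ?_⟩
      rw [cl_central P e a, Set.ncard_singleton] at b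
      omega
    · obtain ⟨a, b⟩ := (hmem x).1 hx
      have := ht 2 (by norm_num) x (two_le_cl hO P a b)
      norm_num at this
      exact this
  refine ⟨?_, ?_, ?_⟩
  · have := hb 3 (by norm_num)
    have h4 : ((big P 3).ncard : ℚ) ≤ 3 * Nat.card (center G) := by push_cast at this; linarith
    exact_mod_cast h4
  · have := hb 4 (by norm_num)
    have h4 : ((big P 4).ncard : ℚ) ≤ 2 * Nat.card (center G) := by push_cast at this; linarith
    exact_mod_cast h4
  · by_contra hn
    have h4 : ∑ x ∈ Pf \ Zf, t x ≤ 0 := Finset.sum_nonpos fun x hx => by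
      obtain ⟨a, b⟩ := (hmem x).1 hx
      have h5 := two_le_cl hO P a b
      have h6 : ¬ 3 ≤ (cl P x).ncard := fun e => hn ⟨x, a, e⟩
      simp only [t]
      rw [show (cl P x).ncard = 2 by omega]; norm_num
    have h5 : (0 : ℚ) < Nat.card (center G) := by exact_mod_cast Nat.card_pos
    linarith

theorem cl_conj (P : Sylow 2 G) {x y : G} (h : IsConj x y) : cl P y = cl P x :=
  Set.ext fun z => ⟨fun a => ⟨a.1, h.trans a.2⟩, fun a => ⟨a.1, h.symm.trans a.2⟩⟩

theorem cl_mul (hO : pPrimeCore 2 G = ⊥) (P : Sylow 2 G) (x : G) {c : G} (hc : c ∈ center G) :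
    (cl P x).ncard ≤ (cl P (x * c)).ncard := by
  refine Set.ncard_le_ncard_of_injOn (· * c) (fun y hy => ⟨mul_mem hy.1 (central_le P hO hc), ?_⟩)
    (fun a _ b _ e => mul_right_cancel e) (Set.toFinite _)
  obtain ⟨g, rfl⟩ := isConj_iff.1 hy.2
  refine isConj_iff.2 ⟨g, ?_⟩
  have := mem_center_iff.1 hc g⁻¹
  show g * (x * c) * g⁻¹ = g * x * g⁻¹ * c
  rw [mul_assoc (g * x), this]; group

theorem three_cos (Z : Subgroup G) (B : Set G) {a b c : G} (hab : a⁻¹ * b ∉ Z) (hac : a⁻¹ * c ∉ Z)
    (hbc : b⁻¹ * c ∉ Z) (h : ∀ z ∈ Z, a * z ∈ B ∧ b * z ∈ B ∧ c * z ∈ B) :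
    3 * Nat.card Z ≤ B.ncard := by
  have key : ∀ {a b : G} {z w : Z}, a * z = b * w → a⁻¹ * b ∈ Z := fun {a b z w} e => by
    have : a⁻¹ * b = z * (w : G)⁻¹ := by
      calc _ = a⁻¹ * (b * w) * (w : G)⁻¹ := by group
        _ = _ := by rw [← e]; group
    rw [this]; exact mul_mem z.2 (inv_mem w.2)
  let f : Z ⊕ Z ⊕ Z → B := fun s => match s with
    | .inl z => ⟨a * z, (h z z.2).1⟩
    | .inr (.inl z) => ⟨b * z, (h z z.2).2.1⟩
    | .inr (.inr z) => ⟨c * z, (h z z.2).2.2⟩
  have hf : Function.Injective f := by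
    rintro (z | z | z) (w | w | w) e <;> have e' := congrArg Subtype.val e <;> simp only [f] at e'
    · rw [Subtype.ext (mul_left_cancel e')]
    · exact absurd (key e') hab
    · exact absurd (key e') hac
    · exact absurd (key e'.symm) hab
    · rw [Subtype.ext (mul_left_cancel e')]
    · exact absurd (key e') hbc
    · exact absurd (key e'.symm) hac
    · exact absurd (key e'.symm) hbc
    · rw [Subtype.ext (mul_left_cancel e')]
  have := Nat.card_le_card_of_injective f hf
  rw [Nat.card_sum, Nat.card_sum, Nat.card_coe_set_eq] at this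
  omega

theorem breadth {Q : Type u} [Group Q] [Finite Q] (hQ : IsPGroup 2 Q) (Z : Subgroup Q)
    (hZ : Z ≤ center Q) (B : Set Q) (hB : B.ncard ≤ 2 * Nat.card Z)
    (h : ∀ u, u ∉ B → (centralizer ({u} : Set Q)).index ≤ 3) (x : Q) :
    (centralizer ({x} : Set Q)).index ≤ 2 := by
  have pw : ∀ K : Subgroup Q, K.index ≤ 2 ∨ 4 ≤ K.index := fun K => by
    obtain ⟨k, hk⟩ := hQ.index K
    rw [hk]
    obtain _ | _ | k := k
    · simp
    · simp
    · right; rw [pow_succ, pow_succ]; have := Nat.one_le_two_pow (n := k); omega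
  by_contra hx
  have h4 := (pw _).resolve_left hx
  set C := centralizer ({x} : Set Q) with hC
  have hZC : Z ≤ C := fun z hz => mem_centralizer_singleton_iff.2 (mem_center_iff.1 (hZ hz) x).symm
  have hxC : x ∈ C := mem_centralizer_singleton_iff.2 rfl
  have hxZ : x ∉ Z := fun e => by
    have : C = ⊤ := eq_top_iff.2 fun g _ =>
      mem_centralizer_singleton_iff.2 (mem_center_iff.1 (hZ e) g)
    rw [this, index_top] at h4
    omega
  have h1 : 2 * Nat.card Z ≤ Nat.card C := by
    have h2 := card_mul_index (Z.subgroupOf C)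
    rw [Nat.card_congr (subgroupOfEquivOfLe hZC).toEquiv] at h2
    have h3 : (Z.subgroupOf C).index ≠ 1 := fun e =>
      hxZ (subgroupOf_eq_top.1 (index_eq_one.1 e) hxC)
    have h5 : (Z.subgroupOf C).index ≠ 0 := FiniteIndex.index_ne_zero
    rw [← h2, mul_comm]
    exact Nat.mul_le_mul_left _ (by omega)
  have h2 : (C : Set Q)ᶜ ⊆ B ∪ (fun u => x⁻¹ * u) '' B := fun u hu => by
    by_contra hn
    rw [Set.mem_union, not_or] at hn
    have a1 := (pw (centralizer ({u} : Set Q))).resolve_right (fun e => by have := h u hn.1; omega)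
    have a2 := (pw (centralizer ({x * u} : Set Q))).resolve_right
      (fun e => by have := h (x * u) (fun e' => hn.2 ⟨_, e', by simp⟩); omega)
    have a3 : centralizer ({u} : Set Q) ⊓ centralizer ({x * u} : Set Q) ≤ C := fun g hg => by
      have b1 := mem_centralizer_singleton_iff.1 hg.1
      have b2 := mem_centralizer_singleton_iff.1 hg.2
      refine mem_centralizer_singleton_iff.2 (mul_right_cancel (b := u) ?_)
      rw [mul_assoc, b2, mul_assoc, mul_assoc, b1]
    have a4 := (index_inf_le (H := centralizer ({u} : Set Q))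
      (K := centralizer ({x * u} : Set Q))).trans (Nat.mul_le_mul a1 a2)
    have a5 := relIndex_mul_index a3
    have a6 : (centralizer ({u} : Set Q) ⊓ centralizer ({x * u} : Set Q)).relIndex C ≠ 0 :=
      FiniteIndex.index_ne_zero
    have a7 : (centralizer ({u} : Set Q) ⊓ centralizer ({x * u} : Set Q)).relIndex C = 1 := by
      by_contra e
      have : 2 * 4 ≤ (centralizer ({u} : Set Q) ⊓ centralizer ({x * u} : Set Q)).relIndex C *
        C.index := Nat.mul_le_mul (by omega) h4
      omega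
    exact hu (mem_centralizer_singleton_iff.2
      (mem_centralizer_singleton_iff.1 (relIndex_eq_one.1 a7 hxC).1).symm)
  have h3 := (Set.ncard_le_ncard h2 (Set.toFinite _)).trans (Set.ncard_union_le _ _)
  have h5 := Set.ncard_image_le (s := B) (f := fun u => x⁻¹ * u) (Set.toFinite _)
  have h6 := Set.ncard_add_ncard_compl (C : Set Q)
  have h7 := C.card_mul_index
  rw [← Nat.card_coe_set_eq, SetLike.coe_sort_coe] at h6
  have h8 : Nat.card C * 4 ≤ Nat.card C * C.index := Nat.mul_le_mul_left _ h4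
  have h9 : 0 < Nat.card Z := Nat.card_pos
  omega

theorem exists_z {Q : Type u} [Group Q] [Finite Q] (hQ : IsPGroup 2 Q)
    (h : ∀ x : Q, (centralizer ({x} : Set Q)).index ≤ 2) :
    ∃ z : Q, z ∈ center Q ∧ z * z = 1 ∧ ∀ a b : Q, a * b * a⁻¹ = b ∨ a * b * a⁻¹ = b * z := by
  have key : ∀ u g k : Q, g * u ≠ u * g → k * u ≠ u * k → g * u * g⁻¹ = k * u * k⁻¹ :=
    fun u g k hg hk => by
      have h2 : (centralizer ({u} : Set Q)).index = 2 := by
        have a := h u
        have b : (centralizer ({u} : Set Q)).index ≠ 0 := FiniteIndex.index_ne_zero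
        have c : (centralizer ({u} : Set Q)).index ≠ 1 := fun e => hg (by
          rw [index_eq_one] at e
          exact mem_centralizer_singleton_iff.1 (e ▸ mem_top g))
        omega
      have h3 : k⁻¹ * g ∈ centralizer ({u} : Set Q) := by
        rw [mul_mem_iff_of_index_two h2, inv_mem_iff, mem_centralizer_singleton_iff,
          mem_centralizer_singleton_iff]
        exact iff_of_false hk hg
      have h4 := mem_centralizer_singleton_iff.1 h3
      calc _ = k * (k⁻¹ * g * u) * g⁻¹ := by group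
        _ = _ := by rw [h4]; group
  have inv : ∀ u g : Q, g * u ≠ u * g → g⁻¹ * u ≠ u * g⁻¹ := fun u g hg e => hg (by
    calc _ = g * (u * g⁻¹) * g := by group
      _ = _ := by rw [← e]; group)
  have one : ∀ u w : Q, w * u ≠ u * w → ∃ z ∈ center Q, z * z = 1 ∧ w * u * w⁻¹ = u * z ∧
      u * w * u⁻¹ = w * z := fun u w hw => by
    obtain ⟨z, hz⟩ : ∃ z, w * u * w⁻¹ = u * z := ⟨u⁻¹ * (w * u * w⁻¹), by group⟩
    have c1 : ∀ g, g * u = u * g → g * z = z * g := fun g hg => by
      have a := key u (g * w) w (fun e => hw (mul_left_cancel (a := g) (by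
        rw [← mul_assoc, e, ← mul_assoc, ← mul_assoc, hg]))) hw
      have b : g * (u * z) * g⁻¹ = u * z := by rw [← hz]; conv_rhs => rw [← a]
                                               group
      refine mul_left_cancel (a := u) ?_
      calc _ = g * (u * z) * g⁻¹ * g := by rw [← mul_assoc u, ← hg]; group
        _ = _ := by rw [b]; group
    have c2 : ∀ g, g * u ≠ u * g → z * (g * z * g⁻¹) = 1 := fun g hg => by
      have a := (key u g w hg hw).trans hz
      have b := (key u g⁻¹ w (inv u g hg) hw).trans hz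
      refine mul_left_cancel (a := u) ?_
      calc _ = (g * u * g⁻¹) * (g * z * g⁻¹) := by rw [a]; group
        _ = g * (u * z) * g⁻¹ := by group
        _ = _ := by rw [← b]; group
    have c3 : ∀ g, g * u ≠ u * g → g * z = z * g := fun g hg => by
      by_contra hn
      have a := key g z u (fun e => hn e.symm) (fun e => hg e.symm)
      have b := (key u g w hg hw).trans hz
      have c := c2 g hg
      have d := c1 u rfl
      have e1 : g * z * g⁻¹ = z⁻¹ := eq_inv_of_mul_eq_one_right c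
      have e2 : g * (u⁻¹ * z) * g⁻¹ = u⁻¹ * z := by
        calc _ = u⁻¹ * (u * g * u⁻¹) * z * g⁻¹ := by group
          _ = _ := by rw [← a]; group
      have e3 : g * (u⁻¹ * z) * g⁻¹ = (u * z)⁻¹ * z⁻¹ := by
        rw [← b, ← e1]; group
      have e4 : z ^ 3 = 1 := by
        rw [e3, d] at e2
        calc z ^ 3 = u * (u⁻¹ * z) * z * z := by rw [pow_succ, pow_two]; group
          _ = _ := by rw [← e2]; group
      obtain ⟨k, hk⟩ := hQ z
      apply hn
      rw [eq_one_of_odd (by decide) e4 hk]; simp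
    have c4 : z ∈ center Q := mem_center_iff.2 fun g => by
      by_cases e : g * u = u * g
      · exact c1 g e
      · exact c3 g e
    have c5 : z * z = 1 := by
      have := c2 w hw
      rwa [mem_center_iff.1 c4 w, mul_inv_cancel_right] at this
    refine ⟨z, c4, c5, hz, ?_⟩
    rw [key w u u⁻¹ (fun e => hw e.symm) (inv w u fun e => hw e.symm), mem_center_iff.1 c4 w]
    calc _ = u⁻¹ * (w * u * w⁻¹) * w := by group
      _ = _ := by rw [hz]; group
  by_cases hc : ∀ a b : Q, a * b = b * a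
  · exact ⟨1, one_mem _, one_mul _, fun a b => Or.inl (by rw [hc]; group)⟩
  push Not at hc
  obtain ⟨w, u, hw⟩ := hc
  obtain ⟨z, hz, hzz, e1, -⟩ := one u w hw
  refine ⟨z, hz, hzz, fun a b => ?_⟩
  by_cases hab : a * b = b * a
  · exact Or.inl (by rw [hab]; group)
  right
  obtain ⟨g, hg1, hg2⟩ : ∃ g, g * u ≠ u * g ∧ g * b ≠ b * g := by
    by_cases h1 : w * b = b * w
    · by_cases h2 : a * u = u * a
      · refine ⟨w * a, fun e => hw (mul_right_cancel (b := a) ?_),
          fun e => hab (mul_left_cancel (a := w) ?_)⟩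
        · rw [mul_assoc, ← h2, ← mul_assoc, e, mul_assoc]
        · rw [← mul_assoc, e, ← mul_assoc, ← h1, mul_assoc]
      · exact ⟨a, h2, hab⟩
    · exact ⟨w, hw, h1⟩
  obtain ⟨z1, -, -, f1, f2⟩ := one u g hg1
  obtain ⟨z2, -, -, f3, f4⟩ := one b g hg2
  have g1 : z1 = z := mul_left_cancel (f1.symm.trans ((key u g w hg1 hw).trans e1))
  have g2 : z2 = z1 := mul_left_cancel
    (f4.symm.trans ((key g b u (fun e => hg2 e.symm) (fun e => hg1 e.symm)).trans f2))
  rw [key b a g hab hg2, f3, g2, g1]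

end Cfsg.Agent.H8.Kt
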