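import Mathlib
import Cfsg.Agent.H8.Kt2
import Cfsg.Agent.H8.Kt3

/-!
Groups in which the number of classes of 2-elements is half the order of a Sylow 2-subgroup.
-/

set_option autoImplicit false
set_option linter.unusedSectionVars false
set_option linter.unusedVariables false

namespace Cfsg.Agent.H8.Kt

open Cfsg Subgroup
open scoped Pointwise

universe u

variable {G : Type u} [Group G] [Finite G]

/-- Three conjugates in distinct cosets of the centre. -/
structure Fd (P : Sylow 2 G) (x y w : G) : Prop where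
  xP : x ∈ (P : Subgroup G)
  yP : y ∈ (P : Subgroup G)
  wP : w ∈ (P : Subgroup G)
  xZ : x ∉ center G
  cy : IsConj x y
  cw : IsConj x w
  eq : cl P x = {x, y, w}
  xy : x⁻¹ * y ∉ center G
  xw : x⁻¹ * w ∉ center G
  yw : y⁻¹ * w ∉ center G
  xb : x ∈ big P 3
  all : ∀ u ∈ big P 3, ∃ c ∈ center G, u = x * c ∨ u = y * c ∨ u = w * c

theorem big_mul (hO : pPrimeCore 2 G = ⊥) (P : Sylow 2 G) {m : ℕ} {x y : G}
    (hx : m ≤ (cl P x).ncard) (hy : y ∈ (P : Subgroup G)) (h : IsConj x y) {c : G}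
    (hc : c ∈ center G) : y * c ∈ big P m :=
  ⟨mul_mem hy (central_le P hO hc), (hx.trans (by rw [cl_conj P h])).trans
    (cl_mul hO P y hc)⟩

theorem exists_fd (hO : pPrimeCore 2 G = ⊥) (P : Sylow 2 G)
    (h3 : (big P 3).ncard ≤ 3 * Nat.card (center G))
    (h4 : (big P 4).ncard ≤ 2 * Nat.card (center G)) {x : G} (hxP : x ∈ (P : Subgroup G))
    (hx : ∀ u ∈ (P : Subgroup G), u * x = x * u) (hc : x ∉ center G) : ∃ y w, Fd P x y w := by
  obtain ⟨g, h, hg, hh, n1, n2, n3⟩ := three hO P hxP hx hc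
  have J : ∀ c ∈ center G, IsConj x (x * c) → c = 1 := fun c hc hxc => by
    obtain ⟨k, hk⟩ := isConj_iff.1 hxc
    obtain ⟨l, -, ho, e⟩ := odd_conj P (g := k) hx (fun u hu => by
      rw [hk, ← mul_assoc, hx u hu, mul_assoc, mul_assoc, mem_center_iff.1 hc u])
    rw [hk] at e
    have h1 : ∀ n : ℕ, l ^ n * x * (l ^ n)⁻¹ = x * c ^ n := fun n => by
      induction n with
      | zero => simp
      | succ n ih =>
        have := mem_center_iff.1 (pow_mem hc n) l⁻¹
        calc _ = l * (l ^ n * x * (l ^ n)⁻¹) * l⁻¹ := by rw [pow_succ']; group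
          _ = l * x * (c ^ n * l⁻¹) := by rw [ih]; group
          _ = (l * x * l⁻¹) * c ^ n := by rw [← this]; group
          _ = _ := by rw [e, pow_succ', mul_assoc]
    have h2 := h1 (orderOf l)
    rw [pow_orderOf_eq_one, one_mul, inv_one, mul_one, left_eq_mul] at h2
    obtain ⟨j, hj⟩ := pow_of_mem P (central_le P hO hc)
    exact eq_one_of_odd ho h2 hj
  have J' : ∀ a b, IsConj x a → IsConj x b → a⁻¹ * b ∈ center G → b = a := fun a b ha hb hab => by
    obtain ⟨k, rfl⟩ := isConj_iff.1 ha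
    have e : b = k * (x * ((k * x * k⁻¹)⁻¹ * b)) * k⁻¹ := by
      rw [mul_assoc, mul_assoc, ← mem_center_iff.1 hab k⁻¹]; group
    have := J _ hab (hb.trans (isConj_iff.2 ⟨k, e.symm⟩).symm)
    exact (inv_mul_eq_one.1 this).symm
  have cy : IsConj x (g * x * g⁻¹) := isConj_iff.2 ⟨g, rfl⟩
  have cw : IsConj x (h * x * h⁻¹) := isConj_iff.2 ⟨h, rfl⟩
  generalize g * x * g⁻¹ = y at *
  generalize h * x * h⁻¹ = w at *
  have xy : x⁻¹ * y ∉ center G := fun e => n1 (J' _ _ (IsConj.refl _) cy e)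
  have xw : x⁻¹ * w ∉ center G := fun e => n2 (J' _ _ (IsConj.refl _) cw e)
  have yw : y⁻¹ * w ∉ center G := fun e => n3 (J' _ _ cy cw e)
  have hs : ({x, y, w} : Set G) ⊆ cl P x := by
    rintro t (rfl | rfl | rfl)
    exacts [⟨hxP, IsConj.refl _⟩, ⟨hg, cy⟩, ⟨hh, cw⟩]
  have hn : ({x, y, w} : Set G).ncard = 3 := by
    rw [Set.ncard_insert_of_notMem (by simp [n1.symm, n2.symm]), Set.ncard_pair n3.symm]
  have hZ : 0 < Nat.card (center G) := Nat.card_pos
  have a3 : 3 ≤ (cl P x).ncard := hn ▸ Set.ncard_le_ncard hs (Set.toFinite _)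
  have a4 : ¬ 4 ≤ (cl P x).ncard := fun e => by
    have := three_cos (center G) (big P 4) xy xw yw fun c hc =>
      ⟨big_mul hO P e hxP (IsConj.refl _) hc, big_mul hO P e hg cy hc, big_mul hO P e hh cw hc⟩
    omega
  refine ⟨y, w, hxP, hg, hh, hc, cy, cw,
    (Set.eq_of_subset_of_ncard_le hs (by omega) (Set.toFinite _)).symm, xy, xw, yw, ⟨hxP, a3⟩,
    fun u hu => ?_⟩
  by_contra hn
  push Not at hn
  have := three_cos (center G) (big P 3 \ {u}) xy xw yw fun c hc =>
    ⟨⟨big_mul hO P a3 hxP (IsConj.refl _) hc, fun e => (hn c hc).1 e.symm⟩,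
      ⟨big_mul hO P a3 hg cy hc, fun e => (hn c hc).2.1 e.symm⟩,
      ⟨big_mul hO P a3 hh cw hc, fun e => (hn c hc).2.2 e.symm⟩⟩
  have h5 := Set.ncard_sdiff_singleton_lt_of_mem hu (Set.toFinite _)
  omega

theorem finish (hO : pPrimeCore 2 G = ⊥) {P : Sylow 2 G} {x y w : G} (F : Fd P x y w)
    (Q : Subgroup G) (hQP : Q ≤ (P : Subgroup G))
    (hQ : ∀ t, t ∈ Q ↔ ∃ c ∈ center G, t = c ∨ t = x * c ∨ t = y * c ∨ t = w * c)
    (hi : ∀ s ∈ (P : Subgroup G), ∀ t ∈ (P : Subgroup G), s ∉ Q → t ∉ Q → s⁻¹ * t ∈ Q)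
    (hc : ∀ t ∈ (P : Subgroup G), (∀ u ∈ Q, t * u * t⁻¹ * u⁻¹ ∈ center G) → t ∈ Q) :
    Concl (G ⧸ center G) := by
  let π := QuotientGroup.mk' (center G)
  have hπ : ∀ c ∈ center G, π c = 1 := fun c hc => (QuotientGroup.eq_one_iff c).2 hc
  have hZQ : center G ≤ Q := fun c hc => (hQ c).2 ⟨c, hc, Or.inl rfl⟩
  have hm : ∀ t, π t ∈ Q.map π ↔ t ∈ Q := fun t => ⟨fun ⟨s, hs, e⟩ => by
    have : s⁻¹ * t ∈ center G := QuotientGroup.eq.1 e
    simpa using Q.mul_mem hs (hZQ this), fun h => ⟨t, h, rfl⟩⟩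
  have xQ : x ∈ Q := (hQ x).2 ⟨1, one_mem _, by simp⟩
  have yQ : y ∈ Q := (hQ y).2 ⟨1, one_mem _, by simp⟩
  have wQ : w ∈ Q := (hQ w).2 ⟨1, one_mem _, by simp⟩
  refine Eg.concl (T := P.mapSurjective (QuotientGroup.mk'_surjective (center G))) (V := Q.map π)
    (a := π x) (b := π y) (c := π w) ⟨core_quot hO _ le_rfl, map_mono hQP, fun v => ⟨?_, ?_⟩,
      fun e => F.xZ ((QuotientGroup.eq_one_iff x).1 e), fun e => F.xy (QuotientGroup.eq.1 e),
      fun e => F.xw (QuotientGroup.eq.1 e), fun e => F.yw (QuotientGroup.eq.1 e),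
      π.map_isConj F.cy, π.map_isConj F.cw, ?_, ?_, ?_⟩
  · rintro ⟨t, ht, rfl⟩
    obtain ⟨c, hc, e | e | e | e⟩ := (hQ t).1 ht <;> simp [e, hπ c hc]
  · rintro (rfl | rfl | rfl | rfl)
    exacts [one_mem _, (hm x).2 xQ, (hm y).2 yQ, (hm w).2 wQ]
  · intro t ht hxt
    obtain ⟨g, rfl⟩ := isConj_iff.1 hxt
    obtain ⟨g, rfl⟩ := QuotientGroup.mk'_surjective (center G) g
    have e : QuotientGroup.mk' (center G) g * π x * (QuotientGroup.mk' (center G) g)⁻¹ =
      π (g * x * g⁻¹) := by simp [π]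
    rw [e] at ht ⊢
    have h1 : g * x * g⁻¹ ∈ cl P x :=
      ⟨mem_of_mk P _ (central_le P hO) ht, isConj_iff.2 ⟨g, rfl⟩⟩
    rw [F.eq] at h1
    rcases h1 with e | e | e <;> rw [hm, e] <;> assumption
  · rintro _ ⟨s, hs, rfl⟩ _ ⟨t, ht, rfl⟩ h1 h2
    have := hi s hs t ht (fun e => h1 ((hm s).2 e)) (fun e => h2 ((hm t).2 e))
    exact ⟨_, this, by simp [π]⟩
  · rintro _ ⟨t, ht, rfl⟩ h1
    refine (hm t).2 (hc t ht fun u hu => (QuotientGroup.eq_one_iff _).1 ?_)
    have := h1 _ ((hm u).2 hu)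
    show π (t * u * t⁻¹ * u⁻¹) = 1
    rw [map_mul, map_mul, map_mul, map_inv, map_inv]
    exact (by rw [show π t * π u = π u * π t from this]; group)

theorem exists_z' (hO : pPrimeCore 2 G = ⊥) (P : Sylow 2 G)
    (h4 : (big P 4).ncard ≤ 2 * Nat.card (center G)) :
    ∃ z ∈ (P : Subgroup G), (∀ u ∈ (P : Subgroup G), u * z = z * u) ∧ z * z = 1 ∧
      ∀ a ∈ (P : Subgroup G), ∀ b ∈ (P : Subgroup G), a * b * a⁻¹ = b ∨ a * b * a⁻¹ = b * z := by
  have hb := breadth P.2 ((center G).subgroupOf (P : Subgroup G))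
    (fun z hz => mem_center_iff.2 fun g => Subtype.ext (mem_center_iff.1 hz g))
    {u | (u : G) ∈ big P 4} (by
      rw [Nat.card_congr (subgroupOfEquivOfLe (central_le P hO)).toEquiv]
      exact (Set.ncard_le_ncard_of_injOn Subtype.val (fun a ha => ha)
        (Subtype.val_injective.injOn) (Set.toFinite _)).trans h4) (fun u hu => by
      have h0 : (centralizer ({u} : Set (P : Subgroup G))).index =
          (MulAction.stabilizer (ConjAct (P : Subgroup G)) u).index := by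
        rw [centralizer_eq_comap_stabilizer]
        exact index_comap_of_surjective (f := (ConjAct.toConjAct (G := (P : Subgroup G))).toMonoidHom)
          _ ConjAct.toConjAct.surjective
      rw [h0, MulAction.index_stabilizer]
      have h1 : (MulAction.orbit (ConjAct (P : Subgroup G)) u).ncard ≤ (cl P u).ncard :=
        Set.ncard_le_ncard_of_injOn Subtype.val (fun a ha => ⟨a.2,
          (P : Subgroup G).subtype.map_isConj (ConjAct.mem_orbit_conjAct.1 ha).symm⟩)
          (Subtype.val_injective.injOn) (Set.toFinite _)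
      have h2 : ¬ 4 ≤ (cl P u).ncard := fun e => hu ⟨u.2, e⟩
      omega)
  obtain ⟨z, hz, hzz, h⟩ := exists_z P.2 hb
  exact ⟨z, z.2, fun u hu => congrArg Subtype.val (mem_center_iff.1 hz ⟨u, hu⟩),
    congrArg Subtype.val hzz, fun a ha b hb => (h ⟨a, ha⟩ ⟨b, hb⟩).imp
      (congrArg Subtype.val) (congrArg Subtype.val)⟩

theorem case_two (hO : pPrimeCore 2 G = ⊥) (P : Sylow 2 G)
    (h4 : (big P 4).ncard ≤ 2 * Nat.card (center G)) (hne : (big P 3).Nonempty) :
    ∃ x ∈ (P : Subgroup G), (∀ u ∈ (P : Subgroup G), u * x = x * u) ∧ x ∉ center G := by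
  obtain ⟨z, hzP, hz, hzz, hc⟩ := exists_z' hO P h4
  by_contra hn
  push Not at hn
  have hzZ := hn z hzP hz
  obtain ⟨x, hxP, hx3⟩ := hne
  have hxZ : x ∉ center G := fun e => by
    rw [cl_central P e hxP, Set.ncard_singleton] at hx3
    omega
  let π := QuotientGroup.mk' (center G)
  have hπ : ∀ c ∈ center G, π c = 1 := fun c hc => (QuotientGroup.eq_one_iff c).2 hc
  have hxc : π x ∉ center (G ⧸ center G) := fun e => by
    have h1 : ∀ g : G, g * x * g⁻¹ * x⁻¹ ∈ center G := fun g => (QuotientGroup.eq_one_iff _).1 (by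
      show π (g * x * g⁻¹ * x⁻¹) = 1
      rw [map_mul, map_mul, map_mul, map_inv, map_inv, mem_center_iff.1 e]; group)
    let φ : G →* G := MonoidHom.mk' (fun g => g * x * g⁻¹ * x⁻¹) (fun a b => by
      have := mem_center_iff.1 (h1 b) (x * a⁻¹ * x⁻¹)
      calc _ = a * ((b * x * b⁻¹ * x⁻¹) * (x * a⁻¹ * x⁻¹)) := by group
        _ = _ := by rw [← this]; group)
    have h2 : ∀ g : G, φ g = 1 ∨ φ g = z := fun g => by
      obtain ⟨i, j, e1, ho, k, hk⟩ := split2 g
      have a1 : φ (g ^ i) = 1 := by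
        obtain ⟨l, hl⟩ := pow_of_mem P (central_le P hO (h1 (g ^ i)))
        exact eq_one_of_odd ho (by rw [← map_pow, pow_orderOf_eq_one, map_one]) hl
      obtain ⟨l, hl⟩ := conj_elt P hk
      have a2 : φ (l * g ^ j * l⁻¹) = φ (g ^ j) := by
        rw [map_mul, map_mul, map_inv, mem_center_iff.1 (show φ (g ^ j) ∈ center G from h1 _),
          mul_inv_cancel_right]
      rw [e1, map_mul, a1, one_mul, ← a2]
      refine (hc _ hl x hxP).imp (fun e => ?_) fun e => ?_
      · show _ * x * _ * x⁻¹ = 1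
        rw [e, mul_inv_cancel]
      · show _ * x * _ * x⁻¹ = z
        rw [e, hz x hxP, mul_inv_cancel_right]
    have h3 : cl P x ⊆ {x, z * x} := by
      rintro _ ⟨-, hy⟩
      obtain ⟨g, rfl⟩ := isConj_iff.1 hy
      rcases h2 g with e | e
      · exact Or.inl (mul_inv_eq_one.1 e)
      · exact Or.inr (mul_inv_eq_iff_eq_mul.1 e)
    have := (Set.ncard_le_ncard h3 (Set.toFinite _)).trans (Set.ncard_insert_le _ _)
    rw [Set.ncard_singleton] at this
    omega
  obtain ⟨g, h, hg, hh, n1, n2, n3⟩ := three (core_quot hO _ le_rfl)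
    (P.mapSurjective (QuotientGroup.mk'_surjective (center G))) (x := π x) ⟨x, hxP, rfl⟩ (by
      rintro _ ⟨u, hu, rfl⟩
      show π u * π x = π x * π u
      rcases hc u hu x hxP with e | e
      · rw [← map_mul, ← map_mul, mul_inv_eq_iff_eq_mul.1 e]
      · rw [← map_mul, mul_inv_eq_iff_eq_mul.1 e, map_mul, map_mul, hπ z hzZ, mul_one]) hxc
  obtain ⟨g, rfl⟩ := QuotientGroup.mk'_surjective (center G) g
  obtain ⟨h, rfl⟩ := QuotientGroup.mk'_surjective (center G) h
  have e : ∀ g : G, QuotientGroup.mk' (center G) g * π x * (QuotientGroup.mk' (center G) g)⁻¹ =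
      π (g * x * g⁻¹) := fun g => by simp [π]
  rw [e] at hg hh n1 n2
  rw [e, e] at n3
  have yP := mem_of_mk P _ (central_le P hO) hg
  have wP := mem_of_mk P _ (central_le P hO) hh
  have xy : x⁻¹ * (g * x * g⁻¹) ∉ center G := fun e => n1 (QuotientGroup.eq.2 e).symm
  have xw : x⁻¹ * (h * x * h⁻¹) ∉ center G := fun e => n2 (QuotientGroup.eq.2 e).symm
  have yw : (g * x * g⁻¹)⁻¹ * (h * x * h⁻¹) ∉ center G := fun e => n3 (QuotientGroup.eq.2 e).symm
  obtain ⟨a, ha, hax⟩ : ∃ a ∈ (P : Subgroup G), a * x ≠ x * a := by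
    by_contra e
    push Not at e
    exact hxZ (hn x hxP e)
  have ea : a * x * a⁻¹ = x * z := (hc a ha x hxP).resolve_left fun e =>
    hax (mul_inv_eq_iff_eq_mul.1 e)
  have z1 : z ≠ 1 := fun e => hax (mul_inv_eq_iff_eq_mul.1 (by rw [ea, e, mul_one]))
  have cy : IsConj x (g * x * g⁻¹) := isConj_iff.2 ⟨g, rfl⟩
  have cyz : IsConj x (g * x * g⁻¹ * z) := isConj_iff.2 ⟨g * a, by
    calc _ = g * (a * x * a⁻¹) * g⁻¹ := by group
      _ = g * x * (z * g⁻¹) := by rw [ea]; group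
      _ = _ := by rw [← mem_center_iff.1 hzZ g⁻¹]; group⟩
  have cw : IsConj x (h * x * h⁻¹) := isConj_iff.2 ⟨h, rfl⟩
  generalize g * x * g⁻¹ = y at *
  generalize h * x * h⁻¹ = w at *
  have hs : ({x, x * z, y, y * z} : Set G) ⊆ cl P x := by
    rintro t (rfl | rfl | rfl | rfl)
    exacts [⟨hxP, IsConj.refl _⟩, ⟨mul_mem hxP hzP, isConj_iff.2 ⟨a, ea⟩⟩, ⟨yP, cy⟩,
      ⟨mul_mem yP hzP, cyz⟩]
  have d1 : x ≠ y := fun e => xy (by rw [e, inv_mul_cancel]; exact one_mem _)
  have d2 : x ≠ y * z := fun e => xy (by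
    rw [e, mul_inv_rev, inv_mul_cancel_right]; exact inv_mem hzZ)
  have d3 : x * z ≠ y := fun e => xy (by rw [← e, inv_mul_cancel_left]; exact hzZ)
  have hn4 : ({x, x * z, y, y * z} : Set G).ncard = 4 := by
    rw [Set.ncard_insert_of_notMem (by simp [z1, d1, d2]),
      Set.ncard_insert_of_notMem (by simp [d1, d3]), Set.ncard_pair (by simp [z1])]
  have a4 : 4 ≤ (cl P x).ncard := hn4 ▸ Set.ncard_le_ncard hs (Set.toFinite _)
  have := three_cos (center G) (big P 4) xy xw yw fun c hc =>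
    ⟨big_mul hO P a4 hxP (IsConj.refl _) hc, big_mul hO P a4 yP cy hc, big_mul hO P a4 wP cw hc⟩
  have hZ : 0 < Nat.card (center G) := Nat.card_pos
  omega

theorem main (hO : pPrimeCore 2 G = ⊥) (P : Sylow 2 G)
    (h3 : (big P 3).ncard ≤ 3 * Nat.card (center G))
    (h4 : (big P 4).ncard ≤ 2 * Nat.card (center G)) (hne : (big P 3).Nonempty) :
    Concl (G ⧸ center G) := by
  obtain ⟨z, hzP, hz, hzz, hc⟩ := exists_z' hO P h4
  obtain ⟨x, hxP, hx, hxZ⟩ := case_two hO P h4 hne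
  have hZP := central_le P hO
  by_cases hab : ∀ a ∈ (P : Subgroup G), ∀ b ∈ (P : Subgroup G), a * b = b * a
  · obtain ⟨y, w, F⟩ := exists_fd hO P h3 h4 hxP hx hxZ
    refine finish hO F P le_rfl (fun t => ⟨fun ht => ?_, ?_⟩) (fun s hs t ht h => absurd hs h)
      fun t ht _ => ht
    · by_cases e : t ∈ center G
      · exact ⟨t, e, Or.inl rfl⟩
      · obtain ⟨y', w', F'⟩ := exists_fd hO P h3 h4 ht (fun u hu => hab u hu t ht) e
        obtain ⟨c, hc, h⟩ := F.all t F'.xb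
        exact ⟨c, hc, Or.inr h⟩
    · rintro ⟨c, hc, rfl | rfl | rfl | rfl⟩
      exacts [hZP hc, mul_mem hxP (hZP hc), mul_mem F.yP (hZP hc), mul_mem F.wP (hZP hc)]
  push Not at hab
  obtain ⟨a, ha, b, hb, hab⟩ := hab
  have nz : ∀ a ∈ (P : Subgroup G), ∀ b ∈ (P : Subgroup G), a * b ≠ b * a → a * b * a⁻¹ = b * z :=
    fun a ha b hb h => (hc a ha b hb).resolve_left fun e => h (mul_inv_eq_iff_eq_mul.1 e)
  have z1 : z ≠ 1 := fun e => hab (mul_inv_eq_iff_eq_mul.1 (by rw [nz a ha b hb hab, e, mul_one]))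
  have key : ∀ x y w, Fd P x y w → (∀ u ∈ (P : Subgroup G), u * x = x * u) →
      (∃ a ∈ (P : Subgroup G), a * y ≠ y * a) ∧ w = y * z := fun x y w F hx => by
    have act : ∀ u ∈ (P : Subgroup G), ∀ t, t ∈ cl P x → u * t * u⁻¹ ∈ ({x, y, w} : Set G) :=
      fun u hu t ht => F.eq ▸ ⟨mul_mem (mul_mem hu ht.1) (inv_mem hu),
        ht.2.trans (isConj_iff.2 ⟨u, rfl⟩)⟩
    have back : ∀ u ∈ (P : Subgroup G), ∀ s t, u * s = s * u → u * t * u⁻¹ = s → t = s :=
      fun u hu s t hs e => by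
        calc _ = u⁻¹ * (u * t * u⁻¹ * u) := by group
          _ = _ := by rw [e, ← hs]; group
    have xy : x ≠ y := fun e => F.xy (by rw [e, inv_mul_cancel]; exact one_mem _)
    have xw : x ≠ w := fun e => F.xw (by rw [e, inv_mul_cancel]; exact one_mem _)
    have yw : y ≠ w := fun e => F.yw (by rw [e, inv_mul_cancel]; exact one_mem _)
    have h1 : ∃ a ∈ (P : Subgroup G), a * y ≠ y * a := by
      by_contra hy
      push Not at hy
      have hw : ∀ u ∈ (P : Subgroup G), u * w = w * u := fun u hu => by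
        rcases act u hu w ⟨F.wP, F.cw⟩ with e | e | e
        · exact absurd (back u hu _ _ (hx u hu) e).symm xw
        · exact absurd (back u hu _ _ (hy u hu) e).symm yw
        · exact mul_inv_eq_iff_eq_mul.1 e
      obtain ⟨k, hk⟩ := isConj_iff.1 F.cy
      obtain ⟨g, hg, ho, e⟩ := odd_conj P (g := k) hx (by rw [hk]; exact hy)
      rw [hk] at e
      have fx : ∀ u ∈ (P : Subgroup G), a * u ≠ u * a → g * u * g⁻¹ = u := fun u hu hau => by
        have h2 : ¬ 3 ≤ (cl P u).ncard := fun e => by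
          obtain ⟨c, hc, h⟩ := F.all u ⟨hu, e⟩
          have := mem_center_iff.1 hc a
          apply hau
          rcases h with rfl | rfl | rfl
          · rw [← mul_assoc, hx a ha, mul_assoc, this, mul_assoc]
          · rw [← mul_assoc, hy a ha, mul_assoc, this, mul_assoc]
          · rw [← mul_assoc, hw a ha, mul_assoc, this, mul_assoc]
        have h5 : ({u, u * z} : Set G) = cl P u := Set.eq_of_subset_of_ncard_le (by
          rintro t (rfl | rfl)
          exacts [⟨hu, IsConj.refl _⟩, ⟨mul_mem hu hzP, isConj_iff.2 ⟨a, nz a ha u hu hau⟩⟩])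
          (by rw [Set.ncard_pair (by simp [z1])]; omega) (Set.toFinite _)
        have h6 : ∀ t ∈ cl P u, g * t * g⁻¹ ∈ ({u, u * z} : Set G) := fun t ht =>
          h5 ▸ ⟨(mem_normalizer_iff.1 hg t).1 ht.1, ht.2.trans (isConj_iff.2 ⟨g, rfl⟩)⟩
        rcases h6 u ⟨hu, IsConj.refl _⟩ with e1 | e1
        · exact e1
        · rcases h6 (u * z) (h5 ▸ Or.inr rfl) with e2 | e2
          · exact fix_of_odd ho (by rw [e1]; exact e2)
          · have e3 : u * z = u := mul_left_cancel (mul_right_cancel (e2.trans e1.symm))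
            exact absurd (mul_eq_left.1 e3) z1
      have f1 := fx b hb hab
      have f2 := fx (x * b) (mul_mem F.xP hb) fun e => hab (mul_left_cancel (a := x) (by
        rw [← mul_assoc, ← hx a ha, mul_assoc, e, mul_assoc]))
      apply xy
      refine mul_right_cancel (b := b) ?_
      calc _ = (g * x * g⁻¹) * (g * b * g⁻¹) := by rw [← f2]; group
        _ = _ := by rw [e, f1]
    refine ⟨h1, ?_⟩
    obtain ⟨u, hu, huy⟩ := h1
    have e0 := nz u hu y F.yP huy
    rcases act u hu y ⟨F.yP, F.cy⟩ with e | e | e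
    · exact absurd (back u hu _ _ (hx u hu) e).symm xy
    · exact absurd (mul_inv_eq_iff_eq_mul.1 e) huy
    · exact e.symm.trans e0
  have hzZ : z ∉ center G := by
    obtain ⟨y, w, F⟩ := exists_fd hO P h3 h4 hxP hx hxZ
    have := F.yw
    rwa [(key x y w F hx).2, inv_mul_cancel_left] at this
  obtain ⟨y, w, F⟩ := exists_fd hO P h3 h4 hzP hz hzZ
  obtain ⟨⟨u, hu, huy⟩, rfl⟩ := key z y w F hz
  have eu := nz u hu y F.yP huy
  have hZc : ∀ t ∈ (P : Subgroup G), (∀ v ∈ (P : Subgroup G), v * t = t * v) →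
      ∃ c ∈ center G, t = c ∨ t = z * c := fun t ht h => by
    by_cases e : t ∈ center G
    · exact ⟨t, e, Or.inl rfl⟩
    · obtain ⟨y', w', F'⟩ := exists_fd hO P h3 h4 ht h e
      obtain ⟨c, hc, h' | h' | h'⟩ := F.all t F'.xb
      · exact ⟨c, hc, Or.inr h'⟩
      · exfalso; apply huy
        have := h u hu
        rw [h', mul_assoc, ← mem_center_iff.1 hc u, ← mul_assoc, ← mul_assoc] at this
        exact mul_right_cancel this
      · exfalso; apply huy
        have := h u hu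
        rw [h', mul_assoc (y * z), ← mem_center_iff.1 hc u, ← mul_assoc, ← mul_assoc,
          ← mul_assoc, mul_assoc y z u, ← hz u hu, ← mul_assoc] at this
        exact mul_right_cancel (mul_right_cancel this)
  let Q : Subgroup G := (P : Subgroup G) ⊓ centralizer {y}
  have hQ : ∀ t, t ∈ Q ↔ t ∈ (P : Subgroup G) ∧ t * y = y * t := fun t =>
    and_congr Iff.rfl mem_centralizer_singleton_iff
  have hi : ∀ s ∈ (P : Subgroup G), ∀ t ∈ (P : Subgroup G), s ∉ Q → t ∉ Q → s⁻¹ * t ∈ Q :=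
    fun s hs t ht h1 h2 => by
      have e1 := nz s hs y F.yP fun e => h1 ((hQ s).2 ⟨hs, e⟩)
      have e2 := nz t ht y F.yP fun e => h2 ((hQ t).2 ⟨ht, e⟩)
      refine (hQ _).2 ⟨mul_mem (inv_mem hs) ht, ?_⟩
      calc _ = s⁻¹ * (t * y * t⁻¹) * t := by group
        _ = _ := by rw [e2, ← e1]; group
  have hQa : ∀ s ∈ Q, ∀ t ∈ Q, s * t = t * s := by
    obtain ⟨k, hk⟩ := isConj_iff.1 F.cy.symm
    obtain ⟨l, hl, h⟩ := conj_into (centralizer {z}) P (Q.map (MulAut.conj k).toMonoidHom)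
      ((P.2.to_le inf_le_left).map _) (by
        rintro _ ⟨t, ht, rfl⟩
        refine mem_centralizer_singleton_iff.2 ?_
        have := ((hQ t).1 ht).2
        rw [← hk]
        show k * t * k⁻¹ * (k * y * k⁻¹) = k * y * k⁻¹ * (k * t * k⁻¹)
        calc _ = k * (t * y) * k⁻¹ := by group
          _ = _ := by rw [this]; group)
      (fun t ht => mem_centralizer_singleton_iff.2 (hz t ht))
    intro s hs t ht
    by_contra hst
    have e1 := nz s hs.1 t ht.1 hst
    have hs' := h _ ⟨s, hs, rfl⟩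
    have ht' := h _ ⟨t, ht, rfl⟩
    have hlz := mem_centralizer_singleton_iff.1 hl
    change l * (k * s * k⁻¹) * l⁻¹ ∈ _ at hs'
    change l * (k * t * k⁻¹) * l⁻¹ ∈ _ at ht'
    have e2 := nz _ hs' _ ht' fun e => hst (by
      calc _ = (l * k)⁻¹ * (l * (k * s * k⁻¹) * l⁻¹ * (l * (k * t * k⁻¹) * l⁻¹)) * (l * k) := by group
        _ = _ := by rw [e]; group)
    have e3 : l * (k * z * k⁻¹) * l⁻¹ = z := by
      refine mul_left_cancel (a := l * (k * t * k⁻¹) * l⁻¹) ?_
      rw [← e2]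
      calc _ = (l * k) * (t * z) * (l * k)⁻¹ := by group
        _ = _ := by rw [← e1]; group
    have e4 : k * z * k⁻¹ = k * y * k⁻¹ := by
      rw [hk]
      calc _ = l⁻¹ * (l * (k * z * k⁻¹) * l⁻¹ * l) := by group
        _ = _ := by rw [e3, ← hlz]; group
    exact F.xy (by rw [← mul_left_cancel (mul_right_cancel e4), inv_mul_cancel]; exact one_mem _)
  have yQ : y ∈ Q := (hQ y).2 ⟨F.yP, rfl⟩
  have uQ : u ∉ Q := fun e => huy ((hQ u).1 e).2
  have cen : ∀ t ∈ Q, u * t = t * u → ∀ v ∈ (P : Subgroup G), v * t = t * v := fun t ht h v hv => by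
    by_cases e : v ∈ Q
    · exact hQa v e t ht
    · have := hQa _ (hi u hu v hv uQ e) t ht
      calc _ = u * (u⁻¹ * v * t) := by group
        _ = u * t * (u⁻¹ * v) := by rw [this]; group
        _ = _ := by rw [h]; group
  refine finish hO F Q inf_le_left (fun t => ⟨fun ht => ?_, ?_⟩) hi fun t ht h => ?_
  · by_cases e : u * t = t * u
    · obtain ⟨c, hc, h | h⟩ := hZc t ht.1 (cen t ht e)
      · exact ⟨c, hc, Or.inl h⟩
      · exact ⟨c, hc, Or.inr (Or.inl h)⟩
    · have e1 := nz u hu t ht.1 e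
      have h1 : y⁻¹ * t ∈ Q := mul_mem (inv_mem yQ) ht
      obtain ⟨c, hc, h | h⟩ := hZc _ h1.1 (cen _ h1 (by
        have := hz _ h1.1
        calc _ = (u * y * u⁻¹)⁻¹ * (u * t * u⁻¹) * u := by group
          _ = z⁻¹ * (y⁻¹ * t * z) * u := by rw [eu, e1]; group
          _ = _ := by rw [this]; group))
      · exact ⟨c, hc, Or.inr (Or.inr (Or.inl (by rw [← h]; group)))⟩
      · exact ⟨c, hc, Or.inr (Or.inr (Or.inr (by rw [mul_assoc, ← h]; group)))⟩
  · have zQ : z ∈ Q := (hQ z).2 ⟨hzP, (hz y F.yP).symm⟩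
    have cQ : ∀ c ∈ center G, c ∈ Q := fun c hc =>
      (hQ c).2 ⟨hZP hc, (mem_center_iff.1 hc y).symm⟩
    rintro ⟨c, hc, rfl | rfl | rfl | rfl⟩
    exacts [cQ _ hc, mul_mem zQ (cQ c hc), mul_mem yQ (cQ c hc), mul_mem (mul_mem yQ zQ) (cQ c hc)]
  · by_contra e
    have e1 := nz t ht y F.yP fun e' => e ((hQ t).2 ⟨ht, e'⟩)
    have := h y yQ
    rw [e1, hz y F.yP, mul_inv_cancel_right] at this
    exact hzZ this

end Cfsg.Agent.H8.Kt
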